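/-
helper29 shared library: isomorphism-invariance of quasisimplicity, components, layer,
Fitting subgroup and generalized Fitting subgroup (Prelude `Def_Local` / `Def_CaseTheorems`).
All declarations live in `Cfsg.Agent.Lib.Helper29`.
-/
import Cfsg.Prelude.Def_Local

set_option autoImplicit false

namespace Cfsg.Agent.Lib.Helper29

open Cfsg

/-- A group isomorphism maps the centre onto the centre. -/
theorem map_center_mulEquiv {H H' : Type*} [Group H] [Group H'] (e : H ≃* H') :
    (Subgroup.center H).map e.toMonoidHom = Subgroup.center H' := by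
  ext x
  simp only [Subgroup.mem_map, Subgroup.mem_center_iff]
  constructor
  · rintro ⟨y, hy, rfl⟩ g
    obtain ⟨g', rfl⟩ := e.surjective g
    show e g' * e y = e y * e g'
    rw [← map_mul, ← map_mul, hy g']
  · intro hx
    refine ⟨e.symm x, fun g => ?_, by simp⟩
    apply e.injective
    simp only [map_mul, MulEquiv.apply_symm_apply]
    exact hx (e g)

/-- Perfectness is invariant under isomorphism. -/
theorem isPerfect_of_mulEquiv {H H' : Type*} [Group H] [Group H'] (e : H ≃* H')
    (h : Group.IsPerfect H) : Group.IsPerfect H' :=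
  Group.IsPerfect.ofSurjective (f := e.toMonoidHom) e.surjective

/-- Quasisimplicity is invariant under isomorphism. -/
theorem isQuasisimple_of_mulEquiv {H H' : Type*} [Group H] [Group H'] (e : H ≃* H')
    (h : IsQuasisimple H) : IsQuasisimple H' := by
  obtain ⟨hp, hs⟩ := h
  refine ⟨isPerfect_of_mulEquiv e hp, ?_⟩
  have e' : H ⧸ Subgroup.center H ≃* H' ⧸ Subgroup.center H' :=
    QuotientGroup.congr (Subgroup.center H) (Subgroup.center H') e (map_center_mulEquiv e)
  exact e'.symm.isSimpleGroup

theorem isQuasisimple_mulEquiv_iff {H H' : Type*} [Group H] [Group H'] (e : H ≃* H') :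
    IsQuasisimple H ↔ IsQuasisimple H' :=
  ⟨isQuasisimple_of_mulEquiv e, isQuasisimple_of_mulEquiv e.symm⟩

/-- The image of a component under an isomorphism is a component. -/
theorem isComponent_map_mulEquiv {G G' : Type*} [Group G] [Group G'] (e : G ≃* G')
    {K : Subgroup G} (hK : IsComponent K) : IsComponent (K.map e.toMonoidHom) := by
  obtain ⟨hsn, hq⟩ := hK
  refine ⟨hsn.map e.surjective, ?_⟩
  exact isQuasisimple_of_mulEquiv (e.subgroupMap K) hq

theorem layer_map_mulEquiv_le {G G' : Type*} [Group G] [Group G'] (e : G ≃* G') :
    (layer G).map e.toMonoidHom ≤ layer G' := by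
  unfold layer
  rw [Subgroup.map_le_iff_le_comap]
  apply sSup_le
  intro K hK
  rw [← Subgroup.map_le_iff_le_comap]
  exact le_sSup (isComponent_map_mulEquiv e hK)

/-- An isomorphism maps the layer onto the layer. -/
theorem layer_map_mulEquiv {G G' : Type*} [Group G] [Group G'] (e : G ≃* G') :
    (layer G).map e.toMonoidHom = layer G' := by
  apply le_antisymm (layer_map_mulEquiv_le e)
  have h2 := layer_map_mulEquiv_le e.symm
  intro x hx
  refine ⟨e.symm x, ?_, by simp⟩
  apply h2
  exact ⟨x, hx, rfl⟩

theorem fittingSubgroup_map_mulEquiv_le {G G' : Type*} [Group G] [Group G'] (e : G ≃* G') :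
    (fittingSubgroup G).map e.toMonoidHom ≤ fittingSubgroup G' := by
  unfold fittingSubgroup
  rw [Subgroup.map_le_iff_le_comap]
  apply sSup_le
  intro N hN
  rw [← Subgroup.map_le_iff_le_comap]
  obtain ⟨hn, hnil⟩ := hN
  refine le_sSup ⟨hn.map e.toMonoidHom e.surjective, ?_⟩
  haveI := hnil
  exact Group.nilpotent_of_surjective (e.subgroupMap N).toMonoidHom (e.subgroupMap N).surjective

/-- An isomorphism maps the Fitting subgroup onto the Fitting subgroup. -/
theorem fittingSubgroup_map_mulEquiv {G G' : Type*} [Group G] [Group G'] (e : G ≃* G') :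
    (fittingSubgroup G).map e.toMonoidHom = fittingSubgroup G' := by
  apply le_antisymm (fittingSubgroup_map_mulEquiv_le e)
  have h2 := fittingSubgroup_map_mulEquiv_le e.symm
  intro x hx
  refine ⟨e.symm x, ?_, by simp⟩
  apply h2
  exact ⟨x, hx, rfl⟩

/-- An isomorphism maps the generalized Fitting subgroup onto the generalized Fitting subgroup. -/
theorem generalizedFittingSubgroup_map_mulEquiv {G G' : Type*} [Group G] [Group G'] (e : G ≃* G') :
    (generalizedFittingSubgroup G).map e.toMonoidHom = generalizedFittingSubgroup G' := by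
  unfold generalizedFittingSubgroup
  rw [Subgroup.map_sup, layer_map_mulEquiv, fittingSubgroup_map_mulEquiv]

theorem layer_characteristic (G : Type*) [Group G] : (layer G).Characteristic :=
  Subgroup.characteristic_iff_map_eq.mpr fun ϕ => layer_map_mulEquiv ϕ

theorem fittingSubgroup_characteristic (G : Type*) [Group G] : (fittingSubgroup G).Characteristic :=
  Subgroup.characteristic_iff_map_eq.mpr fun ϕ => fittingSubgroup_map_mulEquiv ϕ

theorem generalizedFittingSubgroup_characteristic (G : Type*) [Group G] :
    (generalizedFittingSubgroup G).Characteristic :=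
  Subgroup.characteristic_iff_map_eq.mpr fun ϕ => generalizedFittingSubgroup_map_mulEquiv ϕ

theorem layer_normal (G : Type*) [Group G] : (layer G).Normal :=
  haveI := layer_characteristic G; inferInstance

theorem fittingSubgroup_normal (G : Type*) [Group G] : (fittingSubgroup G).Normal :=
  haveI := fittingSubgroup_characteristic G; inferInstance

theorem generalizedFittingSubgroup_normal (G : Type*) [Group G] :
    (generalizedFittingSubgroup G).Normal :=
  haveI := generalizedFittingSubgroup_characteristic G; inferInstance

end Cfsg.Agent.Lib.Helper29
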