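import Mathlib

/-!
# S3265 (odd-product graph on a class of involutions of `S_n`): definitions and bookkeeping

`red` edges = 2-cycles of `x`, `blue` edges = 2-cycles of `y`.  `Sol E x y` says that there is an
involution `z` with as many 2-cycles as `x`, supported in `supp x ∪ supp y ∪ E`, such that `x * z`
and `z * y` have odd order.  `Exc x y` is the only obstruction (two distinct fixed-point-free
involutions of the same four points).
-/

set_option autoImplicit false
set_option linter.unusedSectionVars false

namespace Cfsg.Agent.Lib.Helper29.OddProd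
open Equiv

variable {α : Type*} [DecidableEq α] [Fintype α]

/-- a balanced pair of involutions (or identities) -/
structure Inst (x y : Perm α) : Prop where
  hx : x * x = 1
  hy : y * y = 1
  bal : x.support.card = y.support.card

/-- the exceptional pair: two distinct fixed-point-free involutions of the same four points -/
def Exc (x y : Perm α) : Prop := x.support.card = 4 ∧ y.support = x.support ∧ x ≠ y

/-- a midpoint `z` between `x` and `y`, allowed to use the extra points `E` -/
def Sol (E : Finset α) (x y : Perm α) : Prop :=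
  ∃ z : Perm α, z * z = 1 ∧ z.support ⊆ x.support ∪ y.support ∪ E ∧
    z.support.card = x.support.card ∧ Odd (orderOf (x * z)) ∧ Odd (orderOf (z * y))

theorem Inst.symm {x y : Perm α} (h : Inst x y) : Inst y x := ⟨h.hy, h.hx, h.bal.symm⟩

theorem Exc.symm {x y : Perm α} (h : Exc x y) : Exc y x := by
  obtain ⟨h1, h2, h3⟩ := h
  exact ⟨by rw [h2]; exact h1, by rw [h2], fun e => h3 e.symm⟩

theorem orderOf_mul_swap_args (x y : Perm α) : orderOf (x * y) = orderOf (y * x) := by
  have h : SemiconjBy y (x * y) (y * x) := by
    unfold SemiconjBy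
    rw [mul_assoc]
  exact h.orderOf_eq

theorem Sol.symm {E : Finset α} {x y : Perm α} (hb : x.support.card = y.support.card)
    (h : Sol E x y) : Sol E y x := by
  obtain ⟨z, hz, hs, hc, h1, h2⟩ := h
  refine ⟨z, hz, ?_, hc.trans hb, ?_, ?_⟩
  · rw [Finset.union_comm y.support x.support]
    exact hs
  · rw [orderOf_mul_swap_args]
    exact h2
  · rw [orderOf_mul_swap_args]
    exact h1

theorem inv_apply_apply {x : Perm α} (hx : x * x = 1) (a : α) : x (x a) = a := by
  have := congrArg (fun f : Perm α => f a) hx
  simpa using this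

theorem commute_swap_of_fixed {σ : Perm α} {a b : α} (ha : σ a = a) (hb : σ b = b) :
    σ * swap a b = swap a b * σ := by
  have h := Equiv.swap_apply_apply σ a b
  rw [ha, hb] at h
  calc σ * swap a b = (σ * swap a b * σ⁻¹) * σ := by group
    _ = swap a b * σ := by rw [← h]

theorem disjoint_swap_of_fixed {σ : Perm α} {a b : α} (ha : σ a = a) (hb : σ b = b) :
    Perm.Disjoint σ (swap a b) := by
  intro p
  by_cases h1 : p = a
  · left; rw [h1]; exact ha
  · by_cases h2 : p = b
    · left; rw [h2]; exact hb
    · right; exact Equiv.swap_apply_of_ne_of_ne h1 h2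

theorem mul_swap_mul_self {σ : Perm α} (hσ : σ * σ = 1) {a b : α} (ha : σ a = a) (hb : σ b = b) :
    (σ * swap a b) * (σ * swap a b) = 1 := by
  have h := commute_swap_of_fixed ha hb
  calc (σ * swap a b) * (σ * swap a b) = σ * (swap a b * σ) * swap a b := by group
    _ = σ * (σ * swap a b) * swap a b := by rw [← h]
    _ = (σ * σ) * (swap a b * swap a b) := by group
    _ = 1 := by rw [hσ, Equiv.swap_mul_self, one_mul]

theorem card_support_mul_swap {σ : Perm α} {a b : α} (hab : a ≠ b) (ha : σ a = a) (hb : σ b = b) :
    (σ * swap a b).support.card = σ.support.card + 2 := by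
  rw [(disjoint_swap_of_fixed ha hb).card_support_mul, Perm.card_support_swap hab]

theorem support_mul_swap {σ : Perm α} {a b : α} (hab : a ≠ b) (ha : σ a = a) (hb : σ b = b) :
    (σ * swap a b).support = σ.support ∪ {a, b} := by
  rw [(disjoint_swap_of_fixed ha hb).support_mul, Perm.support_swap hab]

theorem mul_swap_apply_left {σ : Perm α} {a b : α} (hb : σ b = b) : (σ * swap a b) a = b := by
  rw [Perm.mul_apply, Equiv.swap_apply_left, hb]

theorem mul_swap_apply_right {σ : Perm α} {a b : α} (ha : σ a = a) : (σ * swap a b) b = a := by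
  rw [Perm.mul_apply, Equiv.swap_apply_right, ha]

theorem mul_swap_apply_of_ne {σ : Perm α} {a b p : α} (h1 : p ≠ a) (h2 : p ≠ b) :
    (σ * swap a b) p = σ p := by
  rw [Perm.mul_apply, Equiv.swap_apply_of_ne_of_ne h1 h2]

/-! ### removing the 2-cycle of an involution through `a` -/

theorem rm_apply_left {x : Perm α} (hx : x * x = 1) (a : α) : (x * swap a (x a)) a = a := by
  rw [Perm.mul_apply, Equiv.swap_apply_left, inv_apply_apply hx]

theorem rm_apply_right {x : Perm α} (a : α) : (x * swap a (x a)) (x a) = x a := by
  rw [Perm.mul_apply, Equiv.swap_apply_right]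

theorem rm_apply_of_ne {x : Perm α} {a p : α} (h1 : p ≠ a) (h2 : p ≠ x a) :
    (x * swap a (x a)) p = x p :=
  mul_swap_apply_of_ne h1 h2

theorem rm_mul_swap (x : Perm α) (a : α) : x * swap a (x a) * swap a (x a) = x := by
  rw [mul_assoc, Equiv.swap_mul_self, mul_one]

theorem rm_mul_self {x : Perm α} (hx : x * x = 1) (a : α) :
    (x * swap a (x a)) * (x * swap a (x a)) = 1 := by
  ext p
  by_cases h1 : p = a
  · rw [h1, Perm.mul_apply, rm_apply_left hx, rm_apply_left hx, Perm.one_apply]
  · by_cases h2 : p = x a
    · rw [h2, Perm.mul_apply, rm_apply_right, rm_apply_right, Perm.one_apply]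
    · rw [Perm.mul_apply, rm_apply_of_ne h1 h2, Perm.one_apply]
      have h3 : x p ≠ a := by
        intro h
        apply h2
        rw [← h, inv_apply_apply hx]
      have h4 : x p ≠ x a := fun h => h1 (x.injective h)
      rw [rm_apply_of_ne h3 h4, inv_apply_apply hx]

theorem card_support_rm {x : Perm α} (hx : x * x = 1) {a : α} (ha : x a ≠ a) :
    (x * swap a (x a)).support.card + 2 = x.support.card := by
  have h := card_support_mul_swap (σ := x * swap a (x a)) (a := a) (b := x a) (Ne.symm ha)
    (rm_apply_left hx a) (rm_apply_right a)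
  rw [rm_mul_swap] at h
  exact h.symm

theorem support_rm_subset {x : Perm α} (hx : x * x = 1) (a : α) :
    (x * swap a (x a)).support ⊆ x.support := by
  intro p hp
  rw [Perm.mem_support] at hp ⊢
  by_cases h1 : p = a
  · exact absurd (by rw [h1]; exact rm_apply_left hx a) hp
  · by_cases h2 : p = x a
    · exact absurd (by rw [h2]; exact rm_apply_right a) hp
    · rwa [rm_apply_of_ne h1 h2] at hp

/-- an element commuting with an odd-order element and of order dividing 3 -/
theorem odd_orderOf_mul_of_commute {σ τ : Perm α} (h : σ * τ = τ * σ) (hσ : Odd (orderOf σ))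
    (hτ : τ ^ 3 = 1) : Odd (orderOf (σ * τ)) := by
  have hc : Commute σ τ := h
  have h1 : (σ * τ) ^ (orderOf σ * 3) = 1 := by
    rw [hc.mul_pow, pow_mul, pow_orderOf_eq_one, one_pow, mul_comm (orderOf σ) 3, pow_mul, hτ,
      one_pow, one_mul]
  have h2 : orderOf (σ * τ) ∣ orderOf σ * 3 := orderOf_dvd_of_pow_eq_one h1
  exact Odd.of_dvd_nat (hσ.mul (by decide)) h2

theorem odd_orderOf_of_pow_eq_one {σ : Perm α} {N : ℕ} (hN : Odd N) (h : σ ^ N = 1) :
    Odd (orderOf σ) :=
  Odd.of_dvd_nat hN (orderOf_dvd_of_pow_eq_one h)

end Cfsg.Agent.Lib.Helper29.OddProd
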