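import Mathlib
import Cfsg.Agent.Lib.Helper29.OddProdDefs

/-!
# S3265 module `[INS]`: inserting two fixed points into a cycle keeps the order odd
-/

set_option autoImplicit false
set_option linter.unusedSectionVars false

namespace Cfsg.Agent.Lib.Helper29.OddProd
open Equiv

variable {α : Type*} [DecidableEq α] [Fintype α]

/-- MODULE [INS]: if `σ` has odd order and fixes `a ≠ b`, then inserting `a, b` after `c` into the
cycle of `c` (i.e. `c ↦ a ↦ b ↦ σ c`) gives a permutation of odd order. -/
theorem odd_insert (σ : Perm α) (a b c : α) (hab : a ≠ b) (hac : a ≠ c) (hbc : b ≠ c)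
    (ha : σ a = a) (hb : σ b = b) (hodd : Odd (orderOf σ)) :
    Odd (orderOf (σ * (swap a b * swap b c))) := by
  obtain ⟨ρ, hρ⟩ : ∃ ρ : Perm α, ρ = σ * (swap a b * swap b c) := ⟨_, rfl⟩
  rw [← hρ]
  have hρc : ρ c = a := by
    rw [hρ, Perm.mul_apply, Perm.mul_apply, Equiv.swap_apply_right, Equiv.swap_apply_right, ha]
  have hρa : ρ a = b := by
    rw [hρ, Perm.mul_apply, Perm.mul_apply, Equiv.swap_apply_of_ne_of_ne hab hac,
      Equiv.swap_apply_left, hb]
  have hρb : ρ b = σ c := by
    rw [hρ, Perm.mul_apply, Perm.mul_apply, Equiv.swap_apply_left,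
      Equiv.swap_apply_of_ne_of_ne hac.symm hbc.symm]
  have hρp : ∀ p, p ≠ a → p ≠ b → p ≠ c → ρ p = σ p := by
    intro p h1 h2 h3
    rw [hρ, Perm.mul_apply, Perm.mul_apply, Equiv.swap_apply_of_ne_of_ne h2 h3,
      Equiv.swap_apply_of_ne_of_ne h1 h2]
  obtain ⟨N, hN⟩ : ∃ N : ℕ, N = orderOf σ := ⟨_, rfl⟩
  obtain ⟨L, hL⟩ : ∃ L : ℕ, L = Function.minimalPeriod σ c := ⟨_, rfl⟩
  rw [← hN] at hodd
  have hσN : ∀ p, (σ ^ N) p = p := by
    intro p
    rw [hN, pow_orderOf_eq_one, Perm.one_apply]
  have hperN : Function.IsPeriodicPt σ N c := by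
    unfold Function.IsPeriodicPt Function.IsFixedPt
    rw [← Perm.coe_pow]
    exact hσN c
  have hNpos : 0 < N := hodd.pos
  have hLdvd : L ∣ N := by rw [hL]; exact hperN.minimalPeriod_dvd
  have hLpos : 0 < L := by rw [hL]; exact Function.IsPeriodicPt.minimalPeriod_pos hNpos hperN
  have hLodd : Odd L := Odd.of_dvd_nat hodd hLdvd
  have hσa : ∀ i : ℕ, (σ ^ i) a = a := by
    intro i
    induction i with
    | zero => simp
    | succ i ih => rw [pow_succ', Perm.mul_apply, ih, ha]
  have hσb : ∀ i : ℕ, (σ ^ i) b = b := by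
    intro i
    induction i with
    | zero => simp
    | succ i ih => rw [pow_succ', Perm.mul_apply, ih, hb]
  -- Claim A
  have hA : ∀ i : ℕ, 1 ≤ i → i ≤ L → (ρ ^ (i + 2)) c = (σ ^ i) c := by
    intro i hi
    induction i, hi using Nat.le_induction with
    | base =>
      intro _
      rw [show (1 + 2 : ℕ) = 3 from rfl, pow_succ', pow_succ', pow_one, Perm.mul_apply,
        Perm.mul_apply, hρc, hρa, hρb, pow_one]
    | succ i hi ih =>
      intro hle
      have hlt : i < L := by omega
      have h1 := ih (by omega)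
      rw [show i + 1 + 2 = (i + 2) + 1 from by ring, pow_succ', Perm.mul_apply, h1]
      have hne_a : (σ ^ i) c ≠ a := by
        intro h
        apply hac
        have := (σ ^ i).injective (h.trans (hσa i).symm)
        exact this.symm
      have hne_b : (σ ^ i) c ≠ b := by
        intro h
        apply hbc
        have := (σ ^ i).injective (h.trans (hσb i).symm)
        exact this.symm
      have hne_c : (σ ^ i) c ≠ c := by
        intro h
        have hper : Function.IsPeriodicPt σ i c := by
          unfold Function.IsPeriodicPt Function.IsFixedPt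
          rw [← Perm.coe_pow]
          exact h
        rw [hL] at hlt
        exact Function.not_isPeriodicPt_of_pos_of_lt_minimalPeriod (by omega) hlt hper
      rw [hρp _ hne_a hne_b hne_c, pow_succ', Perm.mul_apply]
  have hcyc : (ρ ^ (L + 2)) c = c := by
    rw [hA L hLpos le_rfl]
    have := Function.isPeriodicPt_minimalPeriod σ c
    unfold Function.IsPeriodicPt Function.IsFixedPt at this
    rw [← Perm.coe_pow, ← hL] at this
    exact this
  -- orbit of c
  have hB : ∀ j : ℕ, (ρ ^ (L + 2)) ((ρ ^ j) c) = (ρ ^ j) c := by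
    intro j
    rw [← Perm.mul_apply, ← pow_add, add_comm, pow_add, Perm.mul_apply, hcyc]
  -- points outside the orbit
  have hC : ∀ p, (∀ j : ℕ, (ρ ^ j) c ≠ p) → ∀ i : ℕ, (ρ ^ i) p = (σ ^ i) p ∧
      ∀ j : ℕ, (ρ ^ j) c ≠ (ρ ^ i) p := by
    intro p hp i
    induction i with
    | zero => simpa using hp
    | succ i ih =>
      obtain ⟨ih1, ih2⟩ := ih
      have h0 : (ρ ^ i) p ≠ c := fun h => ih2 0 (by simpa using h.symm)
      have h1 : (ρ ^ i) p ≠ a := fun h => ih2 1 (by rw [pow_one, hρc]; exact h.symm)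
      have h2 : (ρ ^ i) p ≠ b := fun h => ih2 2 (by
        rw [pow_succ', pow_one, Perm.mul_apply, hρc, hρa]; exact h.symm)
      constructor
      · rw [pow_succ', Perm.mul_apply, hρp _ h1 h2 h0, ih1, pow_succ', Perm.mul_apply]
      · intro j hj
        rw [pow_succ' ρ i, Perm.mul_apply] at hj
        rcases j with _ | j
        · -- ρ (ρ^i p) = c = ρ^(L+2) c
          rw [pow_zero, Perm.one_apply] at hj
          have h3 : ρ ((ρ ^ (L + 1)) c) = ρ ((ρ ^ i) p) := by
            rw [← Perm.mul_apply, ← pow_succ', hcyc, hj]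
          exact ih2 (L + 1) (ρ.injective h3)
        · rw [pow_succ' ρ j, Perm.mul_apply] at hj
          exact ih2 j (ρ.injective hj)
  have hM : ρ ^ (N * (L + 2)) = 1 := by
    ext p
    rw [Perm.one_apply]
    by_cases hp : ∃ j : ℕ, (ρ ^ j) c = p
    · obtain ⟨j, rfl⟩ := hp
      rw [mul_comm, pow_mul]
      have : ∀ k : ℕ, ((ρ ^ (L + 2)) ^ k) ((ρ ^ j) c) = (ρ ^ j) c := by
        intro k
        induction k with
        | zero => simp
        | succ k ih => rw [pow_succ', Perm.mul_apply, ih, hB]
      exact this N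
    · push Not at hp
      have h1 : (ρ ^ N) p = p := by
        rw [(hC p hp N).1, hσN]
      rw [pow_mul]
      have : ∀ k : ℕ, ((ρ ^ N) ^ k) p = p := by
        intro k
        induction k with
        | zero => simp
        | succ k ih => rw [pow_succ', Perm.mul_apply, ih, h1]
      exact this (L + 2)
  have hMo : Odd (N * (L + 2)) := hodd.mul (hLodd.add_even (by decide))
  exact odd_orderOf_of_pow_eq_one hMo hM

end Cfsg.Agent.Lib.Helper29.OddProd
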