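import Mathlib
import Cfsg.Agent.Lib.Helper29.OddProdDefs

/-!
# S3265: exact statements of the modules (as `Prop`-valued definitions)

Each module `[X]` proves `theorem ... : SpecX α` for every `α`; the reductions take the specs they
need as hypotheses, so that all modules are independent of each other.
-/

set_option autoImplicit false
set_option linter.unusedSectionVars false

namespace Cfsg.Agent.Lib.Helper29.OddProd
open Equiv

variable (α : Type*) [DecidableEq α] [Fintype α]

/-- [D1] exceptional pair + a common fixed point `p` -/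
def SpecD1 : Prop :=
  ∀ x y : Perm α, x * x = 1 → y * y = 1 → Exc x y → ∀ p : α, x p = p → y p = p → Sol {p} x y

/-- [D2] exceptional pair + a common 2-cycle `(p q)` -/
def SpecD2 : Prop :=
  ∀ x' y' : Perm α, x' * x' = 1 → y' * y' = 1 → Exc x' y' → ∀ p q : α, p ≠ q →
    x' p = p → x' q = q → y' p = p → y' q = q → Sol ∅ (x' * swap p q) (y' * swap p q)

/-- [D3] exceptional pair + a lone red edge `(r1 r2)` + a lone blue edge `(b1 b2)` -/
def SpecD3 : Prop :=
  ∀ x' y' : Perm α, x' * x' = 1 → y' * y' = 1 → Exc x' y' → ∀ r1 r2 b1 b2 : α,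
    [r1, r2, b1, b2].Nodup → (∀ p ∈ [r1, r2, b1, b2], x' p = p) → (∀ p ∈ [r1, r2, b1, b2], y' p = p) →
    Sol ∅ (x' * swap r1 r2) (y' * swap b1 b2)

/-- [D4] the octagon: contraction of `a - b = c - d = e - f` leaves an exceptional pair -/
def SpecD4 : Prop :=
  ∀ (x0 y' : Perm α) (a b c d e f : α), [a, b, c, d, e, f].Nodup →
    (∀ p ∈ [a, b, c, d, e, f], x0 p = p) → (∀ p ∈ [b, c, d, e], y' p = p) →
    x0 * x0 = 1 → y' * y' = 1 → Exc (x0 * swap a f) y' →
    Sol ∅ (x0 * swap a b * swap c d * swap e f) (y' * swap b c * swap d e)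

/-- [LIFT-END] lifting along a path-end contraction -/
def SpecLiftEnd : Prop :=
  ∀ (x' y' z' : Perm α) (a b c : α), a ≠ b → a ≠ c → b ≠ c → z' a = a → z' b = b →
    y' a = a → y' b = b → Odd (orderOf (x' * z')) → Odd (orderOf (z' * y')) →
    Odd (orderOf (x' * swap a b * (z' * swap a b))) ∧
      Odd (orderOf (z' * swap a b * (y' * swap b c)))

/-- [LIFT-C] lifting along the contraction of `a - b = c - d = e - f` to `a - f` -/
def SpecLiftC : Prop :=
  ∀ (x0 z' : Perm α) (a b c d e f : α), [a, b, c, d, e, f].Nodup →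
    (∀ p ∈ [a, b, c, d, e, f], x0 p = p) → z' * z' = 1 → (∀ p ∈ [b, c, d, e], z' p = p) →
    Odd (orderOf (x0 * swap a f * z')) →
    Odd (orderOf (x0 * swap a b * swap c d * swap e f * (z' * swap b c * swap d e)))

variable {α}

/-- the induction hypothesis available at `x` -/
def IH (x : Perm α) : Prop :=
  ∀ x' y' : Perm α, Inst x' y' → x'.support.card < x.support.card → ¬ Exc x' y' → Sol ∅ x' y'

end Cfsg.Agent.Lib.Helper29.OddProd
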