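import Mathlib
import Cfsg.Agent.Lib.Helper24.Omega

set_option autoImplicit false

open scoped commutatorElement

/-!
# The Ω-lemma for all primes (helper29)

* `exists_small_exponent_not_centralized`: if an element `a` of order prime to `p` normalizes but
  does not centralize the `p`-subgroup `K` of the finite group `G`, then `K` has an `a`-invariant
  subgroup `U`, not centralized by `a`, all of whose elements `u` satisfy `u ^ p = 1`
  (or `u ^ 4 = 1` when `p = 2`).
* `centralizes_of_centralizes_omega_gen`: let `K` be a `p`-subgroup of the finite group `G` and `a`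
  an element of order prime to `p` normalizing `K` which commutes with every `x ∈ K` such that
  `x ^ p = 1`, or `p = 2` and `x ^ 4 = 1`.  Then `a` centralizes `K`.
  (For odd `p` this is `Cfsg.Agent.Lib.Helper24.centralizes_of_centralizes_omega`.)
-/

namespace Cfsg.Agent.Lib.Helper29

open Cfsg.Agent.Lib.Helper24

/-- When `frat 2 K` is central in `K`, the fourth power map is multiplicative on `K`. -/
theorem mul_pow_four_of_frat_central {G : Type*} [Group G]
    (K : Subgroup G) (hcen : ∀ x ∈ K, ∀ c ∈ frat 2 K, c * x = x * c) (x y : G) (hx : x ∈ K)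
    (hy : y ∈ K) : (x * y) ^ 4 = x ^ 4 * y ^ 4 := by
  have hz : ⁅y, x⁆ ∈ frat 2 K := comm_mem_frat 2 K hy hx
  have hzx : Commute ⁅y, x⁆ x := hcen x hx _ hz
  have hzy : Commute ⁅y, x⁆ y := hcen y hy _ hz
  have h1 : y * x = ⁅y, x⁆ * x * y := by rw [commutatorElement_def]; group
  have h2 := mul_pow_of_central_comm x y ⁅y, x⁆ h1 hzx hzy 4
  have hzp : ⁅y, x⁆ ^ 2 = 1 := by
    rw [← commutatorElement_pow_right_of_commute x y hzx 2, commutatorElement_eq_one_iff_commute]
    exact (hcen y hy _ (pow_mem_frat 2 K hx)).symm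
  have h6 : (4 : ℕ).choose 2 = 2 * 3 := by decide
  rw [h2, h6, pow_mul, hzp, one_pow, mul_one]

/-- The "small exponent" of a prime: `p` for odd `p`, and `4` for `p = 2`. -/
def smallExp (p : ℕ) : ℕ := if p = 2 then 4 else p

theorem smallExp_spec {G : Type*} [Group G] (p : ℕ) (x : G) (h : x ^ smallExp p = 1) :
    x ^ p = 1 ∨ (p = 2 ∧ x ^ 4 = 1) := by
  unfold smallExp at h
  split_ifs at h with h2
  · exact Or.inr ⟨h2, h⟩
  · exact Or.inl h

/-- When `frat p K` is central in `K`, the `smallExp p`-power map is multiplicative on `K`. -/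
theorem mul_pow_smallExp_of_frat_central {G : Type*} [Group G] (p : ℕ) [hp : Fact p.Prime]
    (K : Subgroup G) (hcen : ∀ x ∈ K, ∀ c ∈ frat p K, c * x = x * c) (x y : G) (hx : x ∈ K)
    (hy : y ∈ K) : (x * y) ^ smallExp p = x ^ smallExp p * y ^ smallExp p := by
  unfold smallExp
  split_ifs with h2
  · subst h2
    exact mul_pow_four_of_frat_central K hcen x y hx hy
  · exact mul_pow_of_frat_central p h2 K hcen x y hx hy

theorem pow_smallExp_mem_frat {G : Type*} [Group G] (p : ℕ) (K : Subgroup G) {x : G}
    (hx : x ∈ K) : x ^ smallExp p ∈ frat p K := by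
  unfold smallExp
  split_ifs with h2
  · subst h2
    have : x ^ 4 = (x ^ 2) * (x ^ 2) := by rw [← pow_add]
    rw [this]
    exact (frat 2 K).mul_mem (pow_mem_frat 2 K hx) (pow_mem_frat 2 K hx)
  · exact pow_mem_frat p K hx

theorem exists_small_exponent_not_centralized_aux {G : Type*} [Group G] [Finite G] (p : ℕ)
    [hp : Fact p.Prime] (a : G) (hcop : (orderOf a).Coprime p) :
    ∀ (n : ℕ) (K : Subgroup G), Nat.card K ≤ n → IsPGroup p K →
      a ∈ Subgroup.normalizer (K : Set G) → (¬ ∀ x ∈ K, a * x = x * a) →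
      ∃ U : Subgroup G, U ≤ K ∧ a ∈ Subgroup.normalizer (U : Set G) ∧
        (∀ u ∈ U, u ^ smallExp p = 1) ∧ ¬ ∀ x ∈ U, a * x = x * a := by
  intro n
  induction n with
  | zero =>
    intro K hcard
    have := Nat.card_pos (α := K)
    omega
  | succ n ih =>
    intro K hcard hK ha hnc
    have hzp : Subgroup.zpowers a ≤ Subgroup.normalizer (K : Set G) := Subgroup.zpowers_le.mpr ha
    have hLK : ⁅K, Subgroup.zpowers a⁆ ≤ K := Subgroup.le_normalizer_iff_commutator_le_left.mp hzp
    have haL : a ∈ Subgroup.normalizer ((⁅K, Subgroup.zpowers a⁆ : Subgroup G) : Set G) :=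
      Subgroup.normalizer_commutator_ge_right K (Subgroup.zpowers a) (Subgroup.mem_zpowers a)
    by_cases hL : ⁅K, Subgroup.zpowers a⁆ = K
    · have hbot : K ≠ ⊥ := by
        intro hbot
        apply hnc
        intro x hx
        rw [hbot, Subgroup.mem_bot] at hx
        subst hx; simp
      have hΦne : frat p K ≠ K := frat_ne p K hK hbot
      have hΦle : frat p K ≤ K := frat_le p K
      have hΦcard : Nat.card (frat p K) ≤ n := by
        have := card_lt_of_le_of_ne hΦle hΦne
        omega
      have haΦ : a ∈ Subgroup.normalizer ((frat p K : Subgroup G) : Set G) :=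
        normalizer_le_normalizer_frat p K ha
      by_cases hcΦ : ∀ x ∈ frat p K, a * x = x * a
      · have hzc : Subgroup.zpowers a ≤
            Subgroup.centralizer ((frat p K : Subgroup G) : Set G) := by
          rw [Subgroup.zpowers_le]
          exact Subgroup.mem_centralizer_iff.mpr (fun x hx => (hcΦ x hx).symm)
        have h1 : ⁅⁅Subgroup.zpowers a, frat p K⁆, K⁆ = ⊥ := by
          rw [Subgroup.commutator_eq_bot_iff_le_centralizer.mpr hzc, Subgroup.commutator_bot_left]
        have h2 : ⁅⁅frat p K, K⁆, Subgroup.zpowers a⁆ = ⊥ := by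
          rw [eq_bot_iff]
          have hle1 : ⁅frat p K, K⁆ ≤ frat p K :=
            le_trans (Subgroup.commutator_mono hΦle le_rfl) (comm_le_frat p K)
          have hle2 : ⁅⁅frat p K, K⁆, Subgroup.zpowers a⁆ ≤ ⁅Subgroup.zpowers a, frat p K⁆ := by
            rw [Subgroup.commutator_comm (Subgroup.zpowers a)]
            exact Subgroup.commutator_mono hle1 le_rfl
          rw [Subgroup.commutator_eq_bot_iff_le_centralizer.mpr hzc] at hle2
          exact hle2
        have h3 := Subgroup.commutator_commutator_eq_bot_of_rotate h1 h2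
        rw [hL, Subgroup.commutator_eq_bot_iff_le_centralizer] at h3
        have hcen : ∀ x ∈ K, ∀ c ∈ frat p K, c * x = x * c := by
          intro x hx c hc
          exact Subgroup.mem_centralizer_iff.mp (h3 hx) c hc
        -- the subgroup of elements of small order
        let U : Subgroup G :=
          { carrier := {x | x ∈ K ∧ x ^ smallExp p = 1}
            mul_mem' := by
              rintro x y ⟨hx, hx1⟩ ⟨hy, hy1⟩
              refine ⟨K.mul_mem hx hy, ?_⟩
              rw [mul_pow_smallExp_of_frat_central p K hcen x y hx hy, hx1, hy1, mul_one]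
            one_mem' := ⟨K.one_mem, one_pow _⟩
            inv_mem' := by
              rintro x ⟨hx, hx1⟩
              exact ⟨K.inv_mem hx, by rw [inv_pow, hx1, inv_one]⟩ }
        have hUK : U ≤ K := fun x hx => hx.1
        have hUmem : ∀ x, x ∈ U ↔ x ∈ K ∧ x ^ smallExp p = 1 := fun x => Iff.rfl
        refine ⟨U, hUK, ?_, fun u hu => hu.2, ?_⟩
        · rw [Subgroup.mem_normalizer_iff]
          intro x
          rw [hUmem, hUmem, ← (Subgroup.mem_normalizer_iff.mp ha x), conj_pow]
          constructor
          · rintro ⟨h1, h2⟩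
            exact ⟨h1, by rw [h2]; group⟩
          · rintro ⟨h1, h2⟩
            refine ⟨h1, ?_⟩
            have : x ^ smallExp p = a⁻¹ * (a * x ^ smallExp p * a⁻¹) * a := by group
            rw [this, h2]; group
        · intro hcU
          apply hnc
          intro x hx
          apply commute_of_comm_commute_pgroup p a hcop K hK ha x hx
          have haxa : a * x * a⁻¹ ∈ K := (Subgroup.mem_normalizer_iff.mp ha x).mp hx
          apply hcU
          refine ⟨K.mul_mem (K.inv_mem hx) haxa, ?_⟩
          rw [mul_pow_smallExp_of_frat_central p K hcen _ _ (K.inv_mem hx) haxa, conj_pow]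
          have hxp : a * x ^ smallExp p = x ^ smallExp p * a :=
            hcΦ _ (pow_smallExp_mem_frat p K hx)
          rw [hxp]; group
      · obtain ⟨U, hU1, hU2, hU3, hU4⟩ := ih (frat p K) hΦcard (hK.to_le hΦle) haΦ hcΦ
        exact ⟨U, hU1.trans hΦle, hU2, hU3, hU4⟩
    · have hLcard : Nat.card (⁅K, Subgroup.zpowers a⁆ : Subgroup G) ≤ n := by
        have := card_lt_of_le_of_ne hLK hL
        omega
      have hncL : ¬ ∀ y ∈ ⁅K, Subgroup.zpowers a⁆, a * y = y * a := fun hcL =>
        hnc (centralizes_of_centralizes_comm p a hcop K hK ha hcL)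
      obtain ⟨U, hU1, hU2, hU3, hU4⟩ := ih _ hLcard (hK.to_le hLK) haL hncL
      exact ⟨U, hU1.trans hLK, hU2, hU3, hU4⟩

/-- **Ω-lemma, subgroup form.** If an element `a` of order prime to `p` normalizes but does not
centralize the `p`-subgroup `K` of the finite group `G`, then some `a`-invariant subgroup `U ≤ K`
all of whose elements satisfy `u ^ p = 1` (or `u ^ 4 = 1` when `p = 2`) is not centralized by
`a`. -/
theorem exists_small_exponent_not_centralized {G : Type*} [Group G] [Finite G] (p : ℕ)
    [hp : Fact p.Prime] (a : G) (hcop : (orderOf a).Coprime p) (K : Subgroup G)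
    (hK : IsPGroup p K) (ha : a ∈ Subgroup.normalizer (K : Set G))
    (hnc : ¬ ∀ x ∈ K, a * x = x * a) :
    ∃ U : Subgroup G, U ≤ K ∧ a ∈ Subgroup.normalizer (U : Set G) ∧
      (∀ u ∈ U, u ^ p = 1 ∨ (p = 2 ∧ u ^ 4 = 1)) ∧ ¬ ∀ x ∈ U, a * x = x * a := by
  obtain ⟨U, h1, h2, h3, h4⟩ :=
    exists_small_exponent_not_centralized_aux p a hcop _ K le_rfl hK ha hnc
  exact ⟨U, h1, h2, fun u hu => smallExp_spec p u (h3 u hu), h4⟩

/-- **Ω-lemma, all primes.** Let `K` be a `p`-subgroup of the finite group `G` and `a` an element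
normalizing `K`, of order prime to `p`, commuting with every `x ∈ K` such that `x ^ p = 1`
(or `x ^ 4 = 1` when `p = 2`).  Then `a` centralizes `K`. -/
theorem centralizes_of_centralizes_omega_gen {G : Type*} [Group G] [Finite G] (p : ℕ)
    [hp : Fact p.Prime] (a : G) (hcop : (orderOf a).Coprime p) (K : Subgroup G)
    (hK : IsPGroup p K) (ha : a ∈ Subgroup.normalizer (K : Set G))
    (hfix : ∀ x ∈ K, (x ^ p = 1 ∨ (p = 2 ∧ x ^ 4 = 1)) → a * x = x * a) :
    ∀ x ∈ K, a * x = x * a := by
  by_contra hnc
  obtain ⟨U, h1, _, h3, h4⟩ := exists_small_exponent_not_centralized p a hcop K hK ha hnc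
  exact h4 (fun x hx => hfix x (h1 hx) (h3 x hx))

end Cfsg.Agent.Lib.Helper29
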