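import Mathlib
import Cfsg.Agent.Lib.Helper29.OmegaTwo

set_option autoImplicit false

open scoped commutatorElement

/-!
# Coprime automorphisms of `p`-groups, `MulAut` form (helper29)

`H` is a finite `p`-group and `α : MulAut H` has order prime to `p`.

* `fixed_of_comm_fixed`: if `α` fixes `x⁻¹ * α x` then `α` fixes `x`.
* `descent_inner`: abstract descent along a chain `L k` of subgroups (inner form).
* `exists_small_exponent_not_fixed`: the Ω-lemma, subgroup form.
* `fixed_of_fixed_small`: the Ω-lemma.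
* `descent_aut`: if `u * (α ^ j) u⁻¹ ∈ L (k + 1)` for `u ∈ U ∩ L k`, `U ≤ L 0`, `L n = ⊥`,
  then `α` fixes `U` elementwise.
-/

namespace Cfsg.Agent.Lib.Helper29

open Cfsg.Agent.Lib.Helper24

section inner

variable {G : Type*} [Group G]

/-- The iterated commutators `[U, Y, …, Y]`. -/
def iterComm (U Y : Subgroup G) : ℕ → Subgroup G
  | 0 => U
  | k + 1 => ⁅iterComm U Y k, Y⁆

theorem iterComm_normalized (U Y : Subgroup G)
    (hY : Y ≤ Subgroup.normalizer (U : Set G)) (k : ℕ) :
    Y ≤ Subgroup.normalizer ((iterComm U Y k : Subgroup G) : Set G) := by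
  cases k with
  | zero => exact hY
  | succ k => exact Subgroup.normalizer_commutator_ge_right _ _

theorem iterComm_le (U Y : Subgroup G)
    (hY : Y ≤ Subgroup.normalizer (U : Set G)) (k : ℕ) : iterComm U Y k ≤ U := by
  induction k with
  | zero => exact le_rfl
  | succ k ih =>
    have h1 : iterComm U Y (k + 1) ≤ iterComm U Y k :=
      Subgroup.le_normalizer_iff_commutator_le_left.mp (iterComm_normalized U Y hY k)
    exact h1.trans ih

/-- **Descent.** Let `a` be a `p'`-element normalizing the `p`-subgroup `U`, and `L k` a chain of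
subgroups with `U ≤ L 0`, `L n = ⊥` and `⁅v, q⁆ ∈ L (k + 1)` for `v ∈ U ∩ L k`, `q ∈ ⟨a⟩`.  Then
`a` centralizes `U`. -/
theorem descent_inner (p : ℕ) [Fact p.Prime] (a : G) (hcop : (orderOf a).Coprime p)
    (U : Subgroup G) (hU : IsPGroup p U) (ha : a ∈ Subgroup.normalizer (U : Set G))
    (L : ℕ → Subgroup G) (n : ℕ) (h0 : U ≤ L 0) (hn : L n = ⊥)
    (hstep : ∀ k, ∀ v ∈ U, v ∈ L k → ∀ q ∈ Subgroup.zpowers a, ⁅v, q⁆ ∈ L (k + 1)) :
    ∀ x ∈ U, a * x = x * a := by
  set Y : Subgroup G := Subgroup.zpowers a with hYdef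
  have hY : Y ≤ Subgroup.normalizer (U : Set G) := Subgroup.zpowers_le.mpr ha
  have hdesc : ∀ k, iterComm U Y k ≤ L k := by
    intro k
    induction k with
    | zero => exact h0
    | succ k ih =>
      show ⁅iterComm U Y k, Y⁆ ≤ L (k + 1)
      rw [Subgroup.commutator_le]
      intro v hv q hq
      exact hstep k v (iterComm_le U Y hY k hv) (ih hv) q hq
  have hdown : ∀ j k, j + k = n → ∀ x ∈ iterComm U Y k, a * x = x * a := by
    intro j
    induction j with
    | zero =>
      intro k hk x hx
      have hk' : k = n := by omega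
      subst hk'
      have := hdesc k hx
      rw [hn, Subgroup.mem_bot] at this
      subst this; simp
    | succ j ih =>
      intro k hk
      have h1 := ih (k + 1) (by omega)
      have hpk : IsPGroup p (iterComm U Y k) := hU.to_le (iterComm_le U Y hY k)
      exact centralizes_of_centralizes_comm p a hcop (iterComm U Y k) hpk
        (iterComm_normalized U Y hY k (Subgroup.mem_zpowers a)) h1
  exact hdown n 0 (by omega)

theorem mem_normalizer_of_conj_mem' [Finite G] (K : Subgroup G) (g : G)
    (h : ∀ k ∈ K, g * k * g⁻¹ ∈ K) : g ∈ Subgroup.normalizer (K : Set G) := by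
  rw [Subgroup.mem_normalizer_iff]
  intro k
  refine ⟨h k, fun hk => ?_⟩
  let f : K → K := fun x => ⟨g * x * g⁻¹, h x x.2⟩
  have hinj : Function.Injective f := by
    intro x y hxy
    have := congrArg Subtype.val hxy
    simp only [f] at this
    apply Subtype.ext
    exact mul_left_cancel (mul_right_cancel this)
  have hsurj : Function.Surjective f := Finite.injective_iff_surjective.mp hinj
  obtain ⟨x, hx⟩ := hsurj ⟨g * k * g⁻¹, hk⟩
  have := congrArg Subtype.val hx
  simp only [f] at this
  have : (x : G) = k := mul_left_cancel (mul_right_cancel this)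
  rw [← this]; exact x.2

end inner

section aut

variable {H : Type*} [Group H]

/-- Coprime trick: if `α` has order prime to `p`, `x⁻¹ * α x` is a `p`-element fixed by `α`,
then `α x = x`. -/
theorem fixed_of_comm_fixed (p : ℕ) [Fact p.Prime] (α : MulAut H)
    (hcop : (orderOf α).Coprime p) (x : H) (hc : α (x⁻¹ * α x) = x⁻¹ * α x)
    (hp : ∃ k : ℕ, (x⁻¹ * α x) ^ p ^ k = 1) : α x = x := by
  set c := x⁻¹ * α x with hcdef
  have hpow : ∀ j : ℕ, (α ^ j) x = x * c ^ j := by
    intro j
    induction j with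
    | zero => simp
    | succ j ih =>
      rw [pow_succ', MulAut.mul_apply, ih, map_mul, map_pow, hc, pow_succ']
      have : α x = x * c := by rw [hcdef]; group
      rw [this, mul_assoc]
  have h1 := hpow (orderOf α)
  rw [pow_orderOf_eq_one, MulAut.one_apply] at h1
  have h2 : c ^ orderOf α = 1 := by
    have := congrArg (fun y => x⁻¹ * y) h1
    simpa using this.symm
  obtain ⟨k, hk⟩ := hp
  have h3 : orderOf c ∣ orderOf α := orderOf_dvd_of_pow_eq_one h2
  have h4 : orderOf c ∣ p ^ k := orderOf_dvd_of_pow_eq_one hk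
  have h5 : orderOf c = 1 :=
    Nat.eq_one_of_dvd_coprimes (Nat.Coprime.pow_right k hcop) h3 h4
  have h6 : c = 1 := orderOf_eq_one_iff.mp h5
  have : α x = x * c := by rw [hcdef]; group
  rw [this, h6, mul_one]

variable [Finite H]

local notation "Γ" => SemidirectProduct H (MulAut H) (MonoidHom.id (MulAut H))

theorem finite_mulAut : Finite (MulAut H) :=
  Finite.of_injective (fun α : MulAut H => (α : H → H)) DFunLike.coe_injective

theorem finite_holomorph : Finite (SemidirectProduct H (MulAut H) (MonoidHom.id (MulAut H))) := by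
  have := finite_mulAut (H := H)
  exact Finite.of_equiv _ SemidirectProduct.equivProd.symm

omit [Finite H] in
theorem inl_aut' (α : MulAut H) (x : H) :
    (SemidirectProduct.inr α * SemidirectProduct.inl x * (SemidirectProduct.inr α)⁻¹ : Γ) =
      SemidirectProduct.inl (α x) := by
  have := SemidirectProduct.inl_aut (φ := MonoidHom.id (MulAut H)) α x
  rw [map_inv] at this
  exact this.symm

omit [Finite H] in
theorem inr_comm_iff (α : MulAut H) (x : H) :
    ((SemidirectProduct.inr α : Γ) * SemidirectProduct.inl x =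
      SemidirectProduct.inl x * SemidirectProduct.inr α) ↔ α x = x := by
  constructor
  · intro h
    have h1 : (SemidirectProduct.inr α * SemidirectProduct.inl x * (SemidirectProduct.inr α)⁻¹ : Γ) =
        SemidirectProduct.inl x := by rw [h]; group
    rw [inl_aut'] at h1
    exact SemidirectProduct.inl_injective h1
  · intro h
    have h1 := inl_aut' α x
    rw [h] at h1
    calc (SemidirectProduct.inr α : Γ) * SemidirectProduct.inl x
        = (SemidirectProduct.inr α * SemidirectProduct.inl x * (SemidirectProduct.inr α)⁻¹) *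
          SemidirectProduct.inr α := by group
      _ = SemidirectProduct.inl x * SemidirectProduct.inr α := by rw [h1]

theorem inr_mem_normalizer_map (α : MulAut H) (K : Subgroup H) (hK : ∀ x ∈ K, α x ∈ K) :
    (SemidirectProduct.inr α : Γ) ∈
      Subgroup.normalizer ((K.map (SemidirectProduct.inl : H →* Γ) : Subgroup Γ) : Set Γ) := by
  have := finite_holomorph (H := H)
  apply mem_normalizer_of_conj_mem'
  rintro _ ⟨x, hx, rfl⟩
  rw [inl_aut']
  exact ⟨α x, hK x hx, rfl⟩

/-- **Ω-lemma, `MulAut` subgroup form.** -/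
theorem exists_small_exponent_not_fixed (p : ℕ) [Fact p.Prime] (hH : IsPGroup p H)
    (α : MulAut H) (hcop : (orderOf α).Coprime p) (K : Subgroup H) (hK : ∀ x ∈ K, α x ∈ K)
    (hne : ∃ x ∈ K, α x ≠ x) :
    ∃ U : Subgroup H, U ≤ K ∧ (∀ u ∈ U, α u ∈ U) ∧
      (∀ u ∈ U, u ^ p = 1 ∨ (p = 2 ∧ u ^ 4 = 1)) ∧ ∃ u ∈ U, α u ≠ u := by
  have := finite_holomorph (H := H)
  set a : Γ := SemidirectProduct.inr α with ha
  set K' : Subgroup Γ := K.map (SemidirectProduct.inl : H →* Γ) with hK'
  have hord : orderOf a = orderOf α := orderOf_injective _ SemidirectProduct.inr_injective α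
  have hK'p : IsPGroup p K' := (hH.to_subgroup K).map _
  have haN : a ∈ Subgroup.normalizer (K' : Set Γ) := inr_mem_normalizer_map α K hK
  have hnc : ¬ ∀ y ∈ K', a * y = y * a := by
    intro h
    obtain ⟨x, hx, hxne⟩ := hne
    exact hxne ((inr_comm_iff α x).mp (h _ ⟨x, hx, rfl⟩))
  obtain ⟨U', hU'K, haU', hexp, hncU'⟩ :=
    exists_small_exponent_not_centralized p a (hord ▸ hcop) K' hK'p haN hnc
  refine ⟨U'.comap (SemidirectProduct.inl : H →* Γ), ?_, ?_, ?_, ?_⟩
  · intro x hx
    obtain ⟨y, hy, hxy⟩ := hU'K (Subgroup.mem_comap.mp hx)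
    rw [← SemidirectProduct.inl_injective hxy]; exact hy
  · intro u hu
    rw [Subgroup.mem_comap, ← inl_aut']
    exact (Subgroup.mem_normalizer_iff.mp haU' _).mp (Subgroup.mem_comap.mp hu)
  · intro u hu
    rcases hexp _ (Subgroup.mem_comap.mp hu) with h | ⟨h2, h⟩
    · left
      apply SemidirectProduct.inl_injective (φ := MonoidHom.id (MulAut H))
      rw [map_pow, h, map_one]
    · right
      refine ⟨h2, ?_⟩
      apply SemidirectProduct.inl_injective (φ := MonoidHom.id (MulAut H))
      rw [map_pow, h, map_one]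
  · by_contra hall
    push Not at hall
    apply hncU'
    intro y hy
    obtain ⟨x, _, rfl⟩ := hU'K hy
    exact (inr_comm_iff α x).mpr (hall x (Subgroup.mem_comap.mpr hy))

/-- **Ω-lemma, `MulAut` form.** An automorphism of order prime to `p` of the finite `p`-group `H`
fixing all `x` in the invariant subgroup `K` with `x ^ p = 1` (or `x ^ 4 = 1` when `p = 2`)
fixes `K` elementwise. -/
theorem fixed_of_fixed_small (p : ℕ) [Fact p.Prime] (hH : IsPGroup p H)
    (α : MulAut H) (hcop : (orderOf α).Coprime p) (K : Subgroup H) (hK : ∀ x ∈ K, α x ∈ K)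
    (hfix : ∀ x ∈ K, (x ^ p = 1 ∨ (p = 2 ∧ x ^ 4 = 1)) → α x = x) : ∀ x ∈ K, α x = x := by
  by_contra hne
  push Not at hne
  obtain ⟨U, hUK, _, hexp, u, hu, hune⟩ :=
    exists_small_exponent_not_fixed p hH α hcop K hK hne
  exact hune (hfix u (hUK hu) (hexp u hu))

/-- **Descent, `MulAut` form.** -/
theorem descent_aut (p : ℕ) [Fact p.Prime] (hH : IsPGroup p H)
    (α : MulAut H) (hcop : (orderOf α).Coprime p) (U : Subgroup H) (hU : ∀ x ∈ U, α x ∈ U)
    (L : ℕ → Subgroup H) (n : ℕ) (h0 : U ≤ L 0) (hn : L n = ⊥)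
    (hstep : ∀ k, ∀ v ∈ U, v ∈ L k → ∀ j : ℤ, v * (α ^ j) v⁻¹ ∈ L (k + 1)) :
    ∀ x ∈ U, α x = x := by
  have := finite_holomorph (H := H)
  set a : Γ := SemidirectProduct.inr α with ha
  have hord : orderOf a = orderOf α := orderOf_injective _ SemidirectProduct.inr_injective α
  have hinl : Function.Injective (SemidirectProduct.inl : H →* Γ) := SemidirectProduct.inl_injective
  have key := descent_inner p a (hord ▸ hcop) (U.map (SemidirectProduct.inl : H →* Γ))
    ((hH.to_subgroup U).map _) (inr_mem_normalizer_map α U hU)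
    (fun k => (L k).map (SemidirectProduct.inl : H →* Γ)) n
    (Subgroup.map_mono h0) (by simp only [hn, Subgroup.map_bot]) ?_
  · intro x hx
    exact (inr_comm_iff α x).mp (key _ ⟨x, hx, rfl⟩)
  · rintro k _ ⟨v, hv, rfl⟩ hvL q hq
    have hvL' : v ∈ L k := by
      obtain ⟨w, hw, hwv⟩ := hvL
      rw [← hinl hwv]; exact hw
    obtain ⟨j, rfl⟩ := Subgroup.mem_zpowers_iff.mp hq
    refine ⟨v * (α ^ j) v⁻¹, hstep k v hv hvL' j, ?_⟩
    have h1 : (a ^ j : Γ) = SemidirectProduct.inr (α ^ j) := by rw [ha, map_zpow]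
    rw [h1, commutatorElement_def, map_mul, ← inl_aut' (α ^ j) v⁻¹, map_inv]
    group

end aut

end Cfsg.Agent.Lib.Helper29
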