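import Mathlib

/-!
# S3117 (automorphisms of a 2-group with three involutions): abstract core, definitions

`AQ q`: `q : V → U` is an anisotropic quadratic map between elementary abelian `2`-groups
(written additively).  `seven` says exactly that `B(a,b) = q(a+b) + q a + q b` is biadditive.
`orth q`: the additive permutations of `V` preserving `q` (a subgroup of `Equiv.Perm V`).
`dmap g hg = g - 1` as an additive endomorphism of `V`.
-/

set_option autoImplicit false

namespace Cfsg.Agent.Lib.Helper29.ThreeInv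

variable {V U : Type*} [AddCommGroup V] [AddCommGroup U]

/-- anisotropic quadratic map between elementary abelian 2-groups -/
structure AQ (q : V → U) : Prop where
  twoV : ∀ v : V, v + v = 0
  twoU : ∀ u : U, u + u = 0
  zero : q 0 = 0
  aniso : ∀ v : V, q v = 0 → v = 0
  seven : ∀ a b c : V,
    q (a + b + c) + q (a + b) + q (a + c) + q (b + c) + q a + q b + q c = 0

theorem perm_apply_inv_self {α : Type*} (g : Equiv.Perm α) (x : α) : g (g⁻¹ x) = x :=
  g.apply_symm_apply x

theorem perm_inv_apply_self {α : Type*} (g : Equiv.Perm α) (x : α) : g⁻¹ (g x) = x :=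
  g.symm_apply_apply x

/-- additivity of a permutation -/
def IsAdd (g : Equiv.Perm V) : Prop := ∀ a b : V, g (a + b) = g a + g b

theorem IsAdd.one : IsAdd (1 : Equiv.Perm V) := fun _ _ => rfl

theorem IsAdd.mul {g h : Equiv.Perm V} (hg : IsAdd g) (hh : IsAdd h) : IsAdd (g * h) := by
  intro a b
  rw [Equiv.Perm.mul_apply, Equiv.Perm.mul_apply, Equiv.Perm.mul_apply, hh, hg]

theorem IsAdd.inv {g : Equiv.Perm V} (hg : IsAdd g) : IsAdd g⁻¹ := by
  intro a b
  apply g.injective
  rw [hg, perm_apply_inv_self, perm_apply_inv_self, perm_apply_inv_self]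

theorem IsAdd.pow {g : Equiv.Perm V} (hg : IsAdd g) (n : ℕ) : IsAdd (g ^ n) := by
  induction n with
  | zero => rw [pow_zero]; exact IsAdd.one
  | succ n ih => rw [pow_succ]; exact ih.mul hg

theorem IsAdd.map_zero {g : Equiv.Perm V} (hg : IsAdd g) : g 0 = 0 := by
  have h := hg 0 0
  rw [add_zero] at h
  exact left_eq_add.mp h

theorem IsAdd.map_sub {g : Equiv.Perm V} (hg : IsAdd g) (a b : V) : g (a - b) = g a - g b := by
  have h := hg (a - b) b
  rw [sub_add_cancel] at h
  rw [h, add_sub_cancel_right]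

/-- the additive permutations preserving `q` -/
def orth (q : V → U) : Subgroup (Equiv.Perm V) where
  carrier := {g | IsAdd g ∧ ∀ v, q (g v) = q v}
  mul_mem' := by
    rintro a b ⟨ha, ha'⟩ ⟨hb, hb'⟩
    refine ⟨ha.mul hb, fun v => ?_⟩
    rw [Equiv.Perm.mul_apply, ha', hb']
  one_mem' := ⟨IsAdd.one, fun _ => rfl⟩
  inv_mem' := by
    rintro a ⟨ha, ha'⟩
    refine ⟨ha.inv, fun v => ?_⟩
    have := ha' (a⁻¹ v)
    rw [perm_apply_inv_self] at this
    exact this.symm

omit [AddCommGroup U] in
theorem mem_orth {q : V → U} {g : Equiv.Perm V} :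
    g ∈ orth q ↔ IsAdd g ∧ ∀ v, q (g v) = q v := Iff.rfl

/-- `g - 1` as an additive endomorphism -/
def dmap (g : Equiv.Perm V) (hg : IsAdd g) : V →+ V where
  toFun v := g v - v
  map_zero' := by rw [hg.map_zero, sub_zero]
  map_add' a b := by rw [hg]; abel

theorem dmap_apply (g : Equiv.Perm V) (hg : IsAdd g) (v : V) : dmap g hg v = g v - v := rfl

theorem mem_ker_dmap {g : Equiv.Perm V} {hg : IsAdd g} {v : V} :
    v ∈ (dmap g hg).ker ↔ g v = v := by
  rw [AddMonoidHom.mem_ker, dmap_apply, sub_eq_zero]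

theorem mem_range_dmap {g : Equiv.Perm V} {hg : IsAdd g} {w : V} :
    w ∈ (dmap g hg).range ↔ ∃ v, g v - v = w := by
  rw [AddMonoidHom.mem_range]
  rfl

end Cfsg.Agent.Lib.Helper29.ThreeInv
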