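import Mathlib
import Cfsg.Agent.Lib.Helper29.ThreeInvDefs

/-!
# S3117: the quadratic map of a 2-group with central squares

For a group `X` with all squares central (`SqCentral X`):
* `VX X h1 = X / Z(X)` written additively (an elementary abelian 2-group), `piX h1 : X → VX X h1`;
* `UX X = Z(X) / Z(X)^2` written additively, `sigX : Z(X) → UX X`;
* `qX h1 : VX X h1 → UX X`, `qX h1 (piX h1 x) = sigX (x^2)`;
* `rhoV h1 : MulAut X →* Equiv.Perm (VX X h1)`, `rhoU : MulAut X →* Equiv.Perm (UX X)`.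
-/

set_option autoImplicit false

universe u

namespace Cfsg.Agent.Lib.Helper29.ThreeInv

open scoped IsMulCommutative

variable (X : Type u) [Group X]

/-- all squares are central -/
def SqCentral : Prop := ∀ x : X, x ^ 2 ∈ Subgroup.center X

/-- `X / Z(X)`, written additively -/
def VX (_h1 : SqCentral X) : Type u := Additive (X ⧸ Subgroup.center X)

variable {X}

theorem quot_sq_eq_one (h1 : SqCentral X) (a : X ⧸ Subgroup.center X) : a * a = 1 := by
  induction a using QuotientGroup.induction_on with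
  | H x =>
    rw [← QuotientGroup.mk_mul, ← pow_two]
    exact (QuotientGroup.eq_one_iff _).mpr (h1 x)

theorem quot_mul_comm (h1 : SqCentral X) (a b : X ⧸ Subgroup.center X) : a * b = b * a := by
  have ha : a⁻¹ = a := inv_eq_of_mul_eq_one_right (quot_sq_eq_one h1 a)
  have hb : b⁻¹ = b := inv_eq_of_mul_eq_one_right (quot_sq_eq_one h1 b)
  have hab : (a * b)⁻¹ = a * b := inv_eq_of_mul_eq_one_right (quot_sq_eq_one h1 (a * b))
  rw [← hab, mul_inv_rev, ha, hb]

instance instAddGroupVX (h1 : SqCentral X) : AddGroup (VX X h1) :=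
  inferInstanceAs (AddGroup (Additive (X ⧸ Subgroup.center X)))

instance instAddCommGroupVX (h1 : SqCentral X) : AddCommGroup (VX X h1) :=
  { instAddGroupVX h1 with
    add_comm := fun a b => quot_mul_comm h1 (Additive.toMul a) (Additive.toMul b) }

/-- the projection `X → X/Z(X)` -/
def piX (h1 : SqCentral X) (x : X) : VX X h1 :=
  Additive.ofMul (QuotientGroup.mk x : X ⧸ Subgroup.center X)

theorem piX_mul (h1 : SqCentral X) (x y : X) : piX h1 (x * y) = piX h1 x + piX h1 y := rfl

theorem piX_one (h1 : SqCentral X) : piX h1 (1 : X) = 0 := rfl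

theorem piX_surjective (h1 : SqCentral X) : Function.Surjective (piX h1) := by
  intro v
  obtain ⟨x, hx⟩ := QuotientGroup.mk_surjective (Additive.toMul v : X ⧸ Subgroup.center X)
  exact ⟨x, congrArg Additive.ofMul hx⟩

theorem piX_eq_iff (h1 : SqCentral X) (x y : X) :
    piX h1 x = piX h1 y ↔ x⁻¹ * y ∈ Subgroup.center X := by
  constructor
  · intro h
    have h' : (QuotientGroup.mk x : X ⧸ Subgroup.center X) = QuotientGroup.mk y := h
    exact QuotientGroup.eq.mp h'
  · intro h
    exact (QuotientGroup.eq.mpr h : (QuotientGroup.mk x : X ⧸ Subgroup.center X) = QuotientGroup.mk y)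

theorem piX_eq_zero_iff (h1 : SqCentral X) (x : X) :
    piX h1 x = 0 ↔ x ∈ Subgroup.center X := by
  rw [← piX_one h1, eq_comm, piX_eq_iff, inv_one, one_mul]

theorem VX_two (h1 : SqCentral X) (v : VX X h1) : v + v = 0 :=
  quot_sq_eq_one h1 (Additive.toMul v)

variable (X)

/-- the squares of central elements -/
def sqZ : Subgroup (Subgroup.center X) :=
  (powMonoidHom 2 : Subgroup.center X →* Subgroup.center X).range

/-- `Z(X) / Z(X)^2`, written additively -/
def UX : Type u := Additive (Subgroup.center X ⧸ sqZ X)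

instance instAddCommGroupUX : AddCommGroup (UX X) :=
  inferInstanceAs (AddCommGroup (Additive (Subgroup.center X ⧸ sqZ X)))

variable {X}

theorem mem_sqZ {z : Subgroup.center X} : z ∈ sqZ X ↔ ∃ s : Subgroup.center X, s ^ 2 = z := by
  unfold sqZ
  rw [MonoidHom.mem_range]
  rfl

/-- the projection `Z(X) → Z(X)/Z(X)^2` -/
def sigX (z : Subgroup.center X) : UX X :=
  Additive.ofMul (QuotientGroup.mk z : Subgroup.center X ⧸ sqZ X)

theorem sigX_mul (z w : Subgroup.center X) : sigX (z * w) = sigX z + sigX w := rfl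

theorem sigX_one : sigX (1 : Subgroup.center X) = 0 := rfl

theorem sigX_surjective : Function.Surjective (sigX (X := X)) := by
  intro v
  obtain ⟨x, hx⟩ := QuotientGroup.mk_surjective (Additive.toMul v : Subgroup.center X ⧸ sqZ X)
  exact ⟨x, congrArg Additive.ofMul hx⟩

theorem sigX_eq_iff (z w : Subgroup.center X) :
    sigX z = sigX w ↔ ∃ s : Subgroup.center X, s ^ 2 = z⁻¹ * w := by
  rw [← mem_sqZ]
  constructor
  · intro h
    have h' : (QuotientGroup.mk z : Subgroup.center X ⧸ sqZ X) = QuotientGroup.mk w := h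
    exact QuotientGroup.eq.mp h'
  · intro h
    exact (QuotientGroup.eq.mpr h :
      (QuotientGroup.mk z : Subgroup.center X ⧸ sqZ X) = QuotientGroup.mk w)

theorem sigX_eq_zero_iff (z : Subgroup.center X) :
    sigX z = 0 ↔ ∃ s : Subgroup.center X, s ^ 2 = z := by
  rw [← sigX_one, eq_comm, sigX_eq_iff, inv_one, one_mul]

theorem UX_two (u : UX X) : u + u = 0 := by
  obtain ⟨z, rfl⟩ := sigX_surjective u
  rw [← sigX_mul, sigX_eq_zero_iff]
  exact ⟨z, pow_two z⟩

theorem sigX_sq_eq (h1 : SqCentral X) (x y : X) (h : x⁻¹ * y ∈ Subgroup.center X) :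
    sigX ⟨x ^ 2, h1 x⟩ = sigX ⟨y ^ 2, h1 y⟩ := by
  rw [sigX_eq_iff]
  refine ⟨⟨x⁻¹ * y, h⟩, ?_⟩
  apply Subtype.ext
  have hc : y * (x⁻¹ * y) = (x⁻¹ * y) * y := Subgroup.mem_center_iff.mp h y
  show (x⁻¹ * y) ^ 2 = (x ^ 2)⁻¹ * y ^ 2
  calc (x⁻¹ * y) ^ 2 = x⁻¹ * (y * (x⁻¹ * y)) := by rw [pow_two]; group
    _ = x⁻¹ * ((x⁻¹ * y) * y) := by rw [hc]
    _ = (x ^ 2)⁻¹ * y ^ 2 := by rw [pow_two, pow_two]; group

/-- the squaring map `X/Z(X) → Z(X)/Z(X)^2` -/
noncomputable def qX (h1 : SqCentral X) (v : VX X h1) : UX X :=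
  sigX ⟨(Classical.choose (piX_surjective h1 v)) ^ 2, h1 _⟩

theorem qX_piX (h1 : SqCentral X) (x : X) : qX h1 (piX h1 x) = sigX ⟨x ^ 2, h1 x⟩ := by
  unfold qX
  have h := Classical.choose_spec (piX_surjective h1 (piX h1 x))
  exact sigX_sq_eq h1 _ _ ((piX_eq_iff h1 _ _).mp h)

/-! ### the action of `MulAut X` -/

theorem aut_mem_center (α : MulAut X) {z : X} (hz : z ∈ Subgroup.center X) :
    α z ∈ Subgroup.center X := by
  rw [Subgroup.mem_center_iff] at hz ⊢
  intro g
  have h := congrArg α (hz (α⁻¹ g))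
  rw [map_mul, map_mul, MulAut.apply_inv_self] at h
  exact h

/-- `α` restricted to the centre -/
def autZ (α : MulAut X) (z : Subgroup.center X) : Subgroup.center X := ⟨α z, aut_mem_center α z.2⟩

theorem autZ_mul (α : MulAut X) (z w : Subgroup.center X) :
    autZ α (z * w) = autZ α z * autZ α w := Subtype.ext (map_mul α _ _)

theorem autZ_one_apply (z : Subgroup.center X) : autZ (1 : MulAut X) z = z := rfl

theorem autZ_mul_apply (α β : MulAut X) (z : Subgroup.center X) :
    autZ (α * β) z = autZ α (autZ β z) := rfl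

theorem piX_aut_congr (h1 : SqCentral X) (α : MulAut X) {x y : X} (h : piX h1 x = piX h1 y) :
    piX h1 (α x) = piX h1 (α y) := by
  rw [piX_eq_iff] at h ⊢
  have := aut_mem_center α h
  rwa [map_mul, map_inv] at this

theorem sigX_aut_congr (α : MulAut X) {z w : Subgroup.center X} (h : sigX z = sigX w) :
    sigX (autZ α z) = sigX (autZ α w) := by
  rw [sigX_eq_iff] at h ⊢
  obtain ⟨s, hs⟩ := h
  refine ⟨autZ α s, ?_⟩
  have h2 : autZ α (s ^ 2) = autZ α (z⁻¹ * w) := by rw [hs]
  rw [pow_two, autZ_mul, autZ_mul] at h2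
  rw [pow_two, h2]
  apply Subtype.ext
  show α z⁻¹ * α w = (α z)⁻¹ * α w
  rw [map_inv]

/-- the map induced by `α` on `X/Z(X)` -/
noncomputable def rhoVfun (h1 : SqCentral X) (α : MulAut X) (v : VX X h1) : VX X h1 :=
  piX h1 (α (Classical.choose (piX_surjective h1 v)))

theorem rhoVfun_piX (h1 : SqCentral X) (α : MulAut X) (x : X) :
    rhoVfun h1 α (piX h1 x) = piX h1 (α x) :=
  piX_aut_congr h1 α (Classical.choose_spec (piX_surjective h1 (piX h1 x)))

/-- the map induced by `α` on `Z(X)/Z(X)^2` -/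
noncomputable def rhoUfun (α : MulAut X) (u : UX X) : UX X :=
  sigX (autZ α (Classical.choose (sigX_surjective u)))

theorem rhoUfun_sigX (α : MulAut X) (z : Subgroup.center X) :
    rhoUfun α (sigX z) = sigX (autZ α z) :=
  sigX_aut_congr α (Classical.choose_spec (sigX_surjective (sigX z)))

/-- the action of `MulAut X` on `X/Z(X)` -/
noncomputable def rhoV (h1 : SqCentral X) : MulAut X →* Equiv.Perm (VX X h1) where
  toFun α :=
    { toFun := rhoVfun h1 α
      invFun := rhoVfun h1 α⁻¹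
      left_inv := by
        intro v
        obtain ⟨x, rfl⟩ := piX_surjective h1 v
        rw [rhoVfun_piX, rhoVfun_piX, MulAut.inv_apply_self]
      right_inv := by
        intro v
        obtain ⟨x, rfl⟩ := piX_surjective h1 v
        rw [rhoVfun_piX, rhoVfun_piX, MulAut.apply_inv_self] }
  map_one' := by
    ext v
    obtain ⟨x, rfl⟩ := piX_surjective h1 v
    show rhoVfun h1 (1 : MulAut X) (piX h1 x) = piX h1 x
    rw [rhoVfun_piX, MulAut.one_apply]
  map_mul' := by
    intro α β
    ext v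
    obtain ⟨x, rfl⟩ := piX_surjective h1 v
    show rhoVfun h1 (α * β) (piX h1 x) = rhoVfun h1 α (rhoVfun h1 β (piX h1 x))
    rw [rhoVfun_piX, rhoVfun_piX, rhoVfun_piX, MulAut.mul_apply]

theorem rhoV_piX (h1 : SqCentral X) (α : MulAut X) (x : X) :
    rhoV h1 α (piX h1 x) = piX h1 (α x) := rhoVfun_piX h1 α x

/-- the action of `MulAut X` on `Z(X)/Z(X)^2` -/
noncomputable def rhoU : MulAut X →* Equiv.Perm (UX X) where
  toFun α :=
    { toFun := rhoUfun α
      invFun := rhoUfun α⁻¹
      left_inv := by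
        intro u
        obtain ⟨z, rfl⟩ := sigX_surjective u
        rw [rhoUfun_sigX, rhoUfun_sigX, ← autZ_mul_apply, inv_mul_cancel, autZ_one_apply]
      right_inv := by
        intro u
        obtain ⟨z, rfl⟩ := sigX_surjective u
        rw [rhoUfun_sigX, rhoUfun_sigX, ← autZ_mul_apply, mul_inv_cancel, autZ_one_apply] }
  map_one' := by
    ext u
    obtain ⟨z, rfl⟩ := sigX_surjective u
    show rhoUfun (1 : MulAut X) (sigX z) = sigX z
    rw [rhoUfun_sigX, autZ_one_apply]
  map_mul' := by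
    intro α β
    ext u
    obtain ⟨z, rfl⟩ := sigX_surjective u
    show rhoUfun (α * β) (sigX z) = rhoUfun α (rhoUfun β (sigX z))
    rw [rhoUfun_sigX, rhoUfun_sigX, rhoUfun_sigX, autZ_mul_apply]

theorem rhoU_sigX (α : MulAut X) (z : Subgroup.center X) :
    rhoU α (sigX z) = sigX (autZ α z) := rhoUfun_sigX α z

theorem rhoV_isAdd (h1 : SqCentral X) (α : MulAut X) : IsAdd (rhoV h1 α) := by
  intro a b
  obtain ⟨x, rfl⟩ := piX_surjective h1 a
  obtain ⟨y, rfl⟩ := piX_surjective h1 b
  rw [← piX_mul, rhoV_piX, rhoV_piX, rhoV_piX, map_mul, piX_mul]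

/-- equivariance of the squaring map -/
theorem qX_rhoV (h1 : SqCentral X) (α : MulAut X) (v : VX X h1) :
    qX h1 (rhoV h1 α v) = rhoU α (qX h1 v) := by
  obtain ⟨x, rfl⟩ := piX_surjective h1 v
  rw [rhoV_piX, qX_piX, qX_piX, rhoU_sigX]
  congr 1
  apply Subtype.ext
  show α x ^ 2 = α (x ^ 2)
  rw [map_pow]

/-- automorphisms acting trivially on `Z/Z^2` act on `X/Z` by isometries of `qX` -/
theorem rhoV_mem_orth (h1 : SqCentral X) {α : MulAut X} (hα : rhoU α = 1) :
    rhoV h1 α ∈ orth (qX h1) := by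
  refine ⟨rhoV_isAdd h1 α, fun v => ?_⟩
  rw [qX_rhoV, hα, Equiv.Perm.one_apply]

end Cfsg.Agent.Lib.Helper29.ThreeInv
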