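import Mathlib
import Cfsg.Agent.Lib.Helper6.SuzOrd0

/-!
# Suzuki order theorem, PACKAGE PB (helper29 for helper6): the torus `T = C(j1 * j2)`

`j1, j2` involutions with `j1 * j2` fixed point free.  Then `T := C_H(j1 * j2)` acts freely,
`|T| ∣ N + 1`, `j1` inverts `T`, `C_H(t) = T` for `1 ≠ t ∈ T`, the normalizer dichotomy and
the count of conjugates.
-/

set_option autoImplicit false
set_option linter.unusedSectionVars false
set_option linter.unusedVariables false

namespace Cfsg.Agent.Lib.Helper29.SuzTorus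

open MulAction Cfsg.Agent.Lib.Helper6.SuzOrd

variable {H Λ : Type*} [Group H] [MulAction H Λ] [Finite H] [Finite Λ] {N d : ℕ}

/-- an element commuting with a fixed-point-free element is trivial or fixed-point-free -/
theorem free_of_commute (S : ASys H Λ N d) {g t : H} (hg : ∀ p : Λ, g • p ≠ p)
    (hc : t * g = g * t) (ht : t ≠ 1) : ∀ p : Λ, t • p ≠ p := by
  intro p hp
  have hcomm : ∀ q : Λ, t • q = q → t • (g • q) = g • q := by
    intro q hq
    rw [← mul_smul, hc, mul_smul, hq]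
  have hp' : t • (g • p) = g • p := hcomm p hp
  have hp'' : t • (g • (g • p)) = g • (g • p) := hcomm _ hp'
  by_cases hsw : g • (g • p) = p
  · have hgg : g * g = 1 := S.swap_sq g p (g • p) (Ne.symm (hg p)) rfl hsw
    have hg1 : g ≠ 1 := by
      rintro rfl
      exact hg p (one_smul _ _)
    obtain ⟨p0, hp0, -⟩ := S.fix_unique hg1 hgg
    exact hg p0 hp0
  · exact ht (S.h3 t p (g • p) (g • (g • p)) (Ne.symm (hg p)) (Ne.symm (hg _)) (Ne.symm hsw)
      hp hp' hp'')

/-- a subgroup acting freely has order dividing `N + 1` -/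
theorem card_dvd_of_free (S : ASys H Λ N d) (T : Subgroup H)
    (hfree : ∀ t ∈ T, t ≠ 1 → ∀ p : Λ, t • p ≠ p) : Nat.card T ∣ N + 1 := by
  have hst : ∀ b : Λ, stabilizer T b = ⊥ := by
    intro b
    rw [eq_bot_iff]
    intro t ht
    rw [Subgroup.mem_bot]
    by_contra h1
    exact hfree t.1 t.2 (fun h => h1 (Subtype.ext h)) b ht
  have e := selfEquivOrbitsQuotientProd hst
  have h := Nat.card_congr e
  rw [Nat.card_prod, S.card_pts] at h
  exact ⟨_, by rw [h, mul_comm]⟩

theorem odd_of_dvd (S : ASys H Λ N d) {m : ℕ} (h : m ∣ N + 1) : Odd m := by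
  have : Odd (N + 1) := S.N_even.add_one
  exact this.of_dvd_nat h

theorem eq_one_of_pow_two_of_odd (T : Subgroup H) (hodd : Odd (Nat.card T)) {t : H} (ht : t ∈ T)
    {k : ℕ} (hk : t ^ 2 ^ k = 1) : t = 1 := by
  have h1 : orderOf (⟨t, ht⟩ : T) ∣ Nat.card T := orderOf_dvd_natCard _
  rw [Subgroup.orderOf_mk] at h1
  have h2 : orderOf t ∣ 2 ^ k := orderOf_dvd_of_pow_eq_one hk
  have h3 : Nat.Coprime (Nat.card T) (2 ^ k) :=
    Nat.Coprime.pow_right _ (Nat.coprime_two_right.mpr hodd)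
  have h4 : orderOf t ∣ 1 := by
    have := Nat.dvd_gcd h1 h2
    rwa [h3] at this
  exact orderOf_eq_one_iff.mp (Nat.dvd_one.mp h4)

/-- an involution normalizing an odd order subgroup inverts it -/
theorem inverts_of_involution (S : ASys H Λ N d) (T : Subgroup H) (hodd : Odd (Nat.card T))
    {j : H} (hj : j ≠ 1 ∧ j * j = 1) (hjT : ∀ t ∈ T, j * t * j⁻¹ ∈ T) :
    ∀ t ∈ T, j * t * j⁻¹ = t⁻¹ := by
  let φ : T →* T := MonoidHom.mk' (fun t => ⟨j * t * j⁻¹, hjT t t.2⟩) (by
    intro a b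
    apply Subtype.ext
    simp [mul_assoc])
  have hfpf : MonoidHom.FixedPointFree φ := by
    intro t ht
    have h1 : j * (t : H) * j⁻¹ = t := congrArg Subtype.val ht
    have h2 : (t : H) * j = j * t := by
      conv_lhs => rw [← h1]
      group
    obtain ⟨k, hk⟩ := S.cent_inv j t hj.1 hj.2 h2
    exact Subtype.ext (eq_one_of_pow_two_of_odd T hodd t.2 hk)
  have hjinv : j⁻¹ = j := inv_eq_of_mul_eq_one_left hj.2
  have hinv : Function.Involutive φ := by
    intro t
    apply Subtype.ext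
    change j * (j * (t : H) * j⁻¹) * j⁻¹ = t
    rw [hjinv]
    calc j * (j * (t : H) * j) * j = (j * j) * t * (j * j) := by simp only [mul_assoc]
      _ = t := by rw [hj.2, one_mul, mul_one]
  have key := hfpf.coe_eq_inv_of_involutive hinv
  intro t ht
  have := congrFun key ⟨t, ht⟩
  exact congrArg Subtype.val this

/-- a subgroup inverted by some element is commutative -/
theorem comm_of_inverted (T : Subgroup H) {j : H} (hinv : ∀ t ∈ T, j * t * j⁻¹ = t⁻¹) :
    ∀ a ∈ T, ∀ b ∈ T, a * b = b * a := by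
  intro a ha b hb
  have h1 := hinv (a * b) (T.mul_mem ha hb)
  have h2 : j * (a * b) * j⁻¹ = (j * a * j⁻¹) * (j * b * j⁻¹) := by group
  rw [h2, hinv a ha, hinv b hb, ← mul_inv_rev] at h1
  exact (inv_injective h1).symm

section Torus

variable (S : ASys H Λ N d) {j1 j2 : H} (h1 : j1 ≠ 1 ∧ j1 * j1 = 1) (h2 : j2 ≠ 1 ∧ j2 * j2 = 1)
  (hfpf : ∀ p : Λ, (j1 * j2) • p ≠ p)

include S hfpf in
/-- (a) `T` acts freely -/
theorem torus_free :
    ∀ t ∈ Subgroup.centralizer ({j1 * j2} : Set H), t ≠ 1 → ∀ p : Λ, t • p ≠ p :=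
  fun t ht ht1 => free_of_commute S hfpf (Subgroup.mem_centralizer_singleton_iff.mp ht) ht1

include S hfpf in
/-- (a') `|T| ∣ N + 1` -/
theorem torus_card_dvd : Nat.card (Subgroup.centralizer ({j1 * j2} : Set H)) ∣ N + 1 :=
  card_dvd_of_free S _ (torus_free S hfpf)

include S hfpf in
theorem torus_odd : Odd (Nat.card (Subgroup.centralizer ({j1 * j2} : Set H))) :=
  odd_of_dvd S (torus_card_dvd S hfpf)

include h1 h2 in
theorem conj_mem_torus : ∀ t ∈ Subgroup.centralizer ({j1 * j2} : Set H),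
    j1 * t * j1⁻¹ ∈ Subgroup.centralizer ({j1 * j2} : Set H) := by
  intro t ht
  rw [Subgroup.mem_centralizer_singleton_iff] at ht ⊢
  have hj1 : j1⁻¹ = j1 := inv_eq_of_mul_eq_one_left h1.2
  have hj2 : j2⁻¹ = j2 := inv_eq_of_mul_eq_one_left h2.2
  have key : j1 * (j1 * j2)⁻¹ * j1⁻¹ = j1 * j2 := by
    rw [mul_inv_rev, hj1, hj2]
    calc j1 * (j2 * j1) * j1 = j1 * j2 * (j1 * j1) := by simp only [mul_assoc]
      _ = j1 * j2 := by rw [h1.2, mul_one]
  have hc' : t * (j1 * j2)⁻¹ = (j1 * j2)⁻¹ * t := by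
    have : Commute t (j1 * j2) := ht
    exact this.inv_right.eq
  calc j1 * t * j1⁻¹ * (j1 * j2) = j1 * t * j1⁻¹ * (j1 * (j1 * j2)⁻¹ * j1⁻¹) := by rw [key]
    _ = j1 * (t * (j1 * j2)⁻¹) * j1⁻¹ := by group
    _ = j1 * ((j1 * j2)⁻¹ * t) * j1⁻¹ := by rw [hc']
    _ = (j1 * (j1 * j2)⁻¹ * j1⁻¹) * (j1 * t * j1⁻¹) := by group
    _ = j1 * j2 * (j1 * t * j1⁻¹) := by rw [key]

include S h1 h2 hfpf in
/-- (b) `j1` inverts `T` -/
theorem torus_inverted :
    ∀ t ∈ Subgroup.centralizer ({j1 * j2} : Set H), j1 * t * j1⁻¹ = t⁻¹ :=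
  inverts_of_involution S _ (torus_odd S hfpf) h1 (conj_mem_torus h1 h2)

include S h1 h2 hfpf in
/-- `T` is commutative -/
theorem torus_comm : ∀ a ∈ Subgroup.centralizer ({j1 * j2} : Set H),
    ∀ b ∈ Subgroup.centralizer ({j1 * j2} : Set H), a * b = b * a :=
  comm_of_inverted _ (torus_inverted S h1 h2 hfpf)

include S h1 h2 hfpf in
/-- (c) `C(t) = T` for `1 ≠ t ∈ T` -/
theorem torus_centralizer : ∀ t ∈ Subgroup.centralizer ({j1 * j2} : Set H), t ≠ 1 →
    Subgroup.centralizer ({t} : Set H) = Subgroup.centralizer ({j1 * j2} : Set H) := by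
  intro t ht ht1
  have hj1 : j1⁻¹ = j1 := inv_eq_of_mul_eq_one_left h1.2
  have htfree := torus_free S hfpf t ht ht1
  have hinvt := torus_inverted S h1 h2 hfpf t ht
  -- `j3 := j1 * t` is an involution and `j1 * j3 = t`
  have h3 : j1 * t ≠ 1 ∧ (j1 * t) * (j1 * t) = 1 := by
    constructor
    · intro h
      have : t = j1 := by
        have := eq_inv_of_mul_eq_one_right h
        rw [this, hj1]
      obtain ⟨p, hp, -⟩ := S.fix_unique h1.1 h1.2
      exact htfree p (this ▸ hp)
    · calc (j1 * t) * (j1 * t) = (j1 * t * j1⁻¹) * t := by rw [hj1]; simp only [mul_assoc]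
        _ = 1 := by rw [hinvt, inv_mul_cancel]
  have ht' : j1 * (j1 * t) = t := by rw [← mul_assoc, h1.2, one_mul]
  have hfpf' : ∀ p : Λ, (j1 * (j1 * t)) • p ≠ p := by rw [ht']; exact htfree
  have hcomm' := torus_comm S h1 h3 hfpf'
  rw [ht'] at hcomm'
  have hg_mem : j1 * j2 ∈ Subgroup.centralizer ({t} : Set H) := by
    rw [Subgroup.mem_centralizer_singleton_iff]
    exact (Subgroup.mem_centralizer_singleton_iff.mp ht).symm
  apply le_antisymm
  · intro u hu
    rw [Subgroup.mem_centralizer_singleton_iff]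
    exact hcomm' u hu _ hg_mem
  · intro u hu
    rw [Subgroup.mem_centralizer_singleton_iff]
    exact torus_comm S h1 h2 hfpf u hu t ht

include S h1 h2 hfpf in
/-- (f) the normalizer dichotomy -/
theorem torus_normalizer_dichotomy :
    (∀ x ∈ Subgroup.normalizer ((Subgroup.centralizer ({j1 * j2} : Set H) : Subgroup H) : Set H),
      x ∈ Subgroup.centralizer ({j1 * j2} : Set H) ∨
        j1 * x ∈ Subgroup.centralizer ({j1 * j2} : Set H)) ∨
    ∃ w ∈ Subgroup.normalizer ((Subgroup.centralizer ({j1 * j2} : Set H) : Subgroup H) : Set H),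
      w * j1 = j1 * w ∧ w ≠ 1 ∧ w ≠ j1 := by
  by_contra hcon
  rw [not_or] at hcon
  obtain ⟨hc1, hc2⟩ := hcon
  push Not at hc1
  obtain ⟨x, hxN, hxT, hjxT⟩ := hc1
  apply hc2
  set T := Subgroup.centralizer ({j1 * j2} : Set H) with hT
  have hj1 : j1⁻¹ = j1 := inv_eq_of_mul_eq_one_left h1.2
  have hodd : Odd (Nat.card T) := torus_odd S hfpf
  have hinv1 := torus_inverted S h1 h2 hfpf
  -- the involution `j = x j1 x⁻¹`
  set j := x * j1 * x⁻¹ with hj
  have hjinv : j ≠ 1 ∧ j * j = 1 := by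
    constructor
    · intro h
      apply h1.1
      have : j1 = x⁻¹ * j * x := by rw [hj]; group
      rw [this, h]; group
    · calc j * j = x * (j1 * j1) * x⁻¹ := by rw [hj]; group
        _ = 1 := by rw [h1.2]; group
  have hxinvN : x⁻¹ ∈ Subgroup.normalizer (T : Set H) := Subgroup.inv_mem _ hxN
  have hjT : ∀ t ∈ T, j * t * j⁻¹ ∈ T := by
    intro t ht
    have e1 : x⁻¹ * t * x ∈ T := by
      have := (Subgroup.mem_normalizer_iff.mp hxinvN t).mp ht
      simpa using this
    have e2 : j1 * (x⁻¹ * t * x) * j1⁻¹ ∈ T := conj_mem_torus h1 h2 _ e1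
    have e3 := (Subgroup.mem_normalizer_iff.mp hxN _).mp e2
    have : j * t * j⁻¹ = x * (j1 * (x⁻¹ * t * x) * j1⁻¹) * x⁻¹ := by rw [hj]; group
    rw [this]; exact e3
  have hinvj := inverts_of_involution S T hodd hjinv hjT
  have hgT : j1 * j2 ∈ T := by
    rw [hT, Subgroup.mem_centralizer_singleton_iff]
  -- `t0 = j1 * j ∈ T`
  have ht0 : j1 * j ∈ T := by
    rw [hT, Subgroup.mem_centralizer_singleton_iff]
    have a1 := hinvj _ hgT
    have a2 := hinv1 _ (T.inv_mem hgT)
    rw [inv_inv] at a2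
    -- (j1 j) g (j1 j)⁻¹ = g
    have : (j1 * j) * (j1 * j2) * (j1 * j)⁻¹ = j1 * j2 := by
      calc (j1 * j) * (j1 * j2) * (j1 * j)⁻¹ = j1 * (j * (j1 * j2) * j⁻¹) * j1⁻¹ := by group
        _ = j1 * j2 := by rw [a1, a2]
    exact mul_inv_eq_iff_eq_mul.mp this
  -- square root
  obtain ⟨m, hm⟩ := hodd
  set s := (j1 * j) ^ (m + 1) with hs
  have hsT : s ∈ T := T.pow_mem ht0 _
  have hss : s * s = j1 * j := by
    have hpow : (j1 * j) ^ (Nat.card T) = 1 := by
      have := pow_card_eq_one' (G := T) (x := ⟨j1 * j, ht0⟩)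
      exact congrArg Subtype.val this
    rw [hs, ← pow_add, show m + 1 + (m + 1) = (2 * m + 1) + 1 by ring, ← hm, pow_succ, hpow,
      one_mul]
  have hjs : j1 * s * j1⁻¹ = s⁻¹ := hinv1 s hsT
  have hjeq : j = j1 * (s * s) := by rw [hss, ← mul_assoc, h1.2, one_mul]
  refine ⟨s * x, Subgroup.mul_mem _ (Subgroup.le_normalizer hsT) hxN, ?_, ?_, ?_⟩
  · -- (s x) j1 (s x)⁻¹ = s j s⁻¹ = j1
    have e1 : s * j * s⁻¹ = j1 := by
      have : j1 * s = s⁻¹ * j1 := by
        have := hjs
        rw [mul_inv_eq_iff_eq_mul] at this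
        exact this
      calc s * j * s⁻¹ = s * (j1 * s) := by rw [hjeq]; group
        _ = j1 := by rw [this]; group
    have e2 : (s * x) * j1 * (s * x)⁻¹ = s * j * s⁻¹ := by rw [hj]; group
    rw [e1] at e2
    exact mul_inv_eq_iff_eq_mul.mp e2
  · intro h
    apply hxT
    have : x = s⁻¹ := by
      have := eq_inv_of_mul_eq_one_right h
      rw [this]
    rw [this]
    exact T.inv_mem hsT
  · intro h
    apply hjxT
    have hx : x = s⁻¹ * j1 := by rw [← h]; group
    have : j1 * x = s := by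
      rw [hx, ← mul_assoc]
      have := hinv1 _ (T.inv_mem hsT)
      rw [inv_inv, hj1] at this
      exact this
    rw [this]
    exact hsT

include S h1 h2 hfpf in
/-- an element conjugating one nontrivial element of `T` to another normalizes `T` -/
theorem mem_normalizer_of_conj {t t' y : H}
    (ht : t ∈ Subgroup.centralizer ({j1 * j2} : Set H)) (ht1 : t ≠ 1)
    (ht' : t' ∈ Subgroup.centralizer ({j1 * j2} : Set H)) (ht1' : t' ≠ 1)
    (hy : y * t * y⁻¹ = t') :
    y ∈ Subgroup.normalizer ((Subgroup.centralizer ({j1 * j2} : Set H) : Subgroup H) : Set H) := by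
  rw [Subgroup.mem_normalizer_iff]
  intro u
  have e1 := torus_centralizer S h1 h2 hfpf t ht ht1
  have e2 := torus_centralizer S h1 h2 hfpf t' ht' ht1'
  have hL : u ∈ Subgroup.centralizer ({j1 * j2} : Set H) ↔
      u ∈ Subgroup.centralizer ({t} : Set H) := by rw [e1]
  have hR : y * u * y⁻¹ ∈ Subgroup.centralizer ({j1 * j2} : Set H) ↔
      y * u * y⁻¹ ∈ Subgroup.centralizer ({t'} : Set H) := by rw [e2]
  rw [hL, hR, Subgroup.mem_centralizer_singleton_iff, Subgroup.mem_centralizer_singleton_iff, ← hy]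
  constructor
  · intro hu
    calc y * u * y⁻¹ * (y * t * y⁻¹) = y * (u * t) * y⁻¹ := by group
      _ = y * (t * u) * y⁻¹ := by rw [hu]
      _ = y * t * y⁻¹ * (y * u * y⁻¹) := by group
  · intro hu
    have : y * (u * t) * y⁻¹ = y * (t * u) * y⁻¹ := by
      calc y * (u * t) * y⁻¹ = y * u * y⁻¹ * (y * t * y⁻¹) := by group
        _ = y * t * y⁻¹ * (y * u * y⁻¹) := hu
        _ = y * (t * u) * y⁻¹ := by group
    exact mul_left_cancel (mul_right_cancel this)

include S h1 h2 hfpf in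
/-- (g) the count of conjugates of `T \ 1` -/
theorem torus_count
    (hN : ∀ x ∈ Subgroup.normalizer
        ((Subgroup.centralizer ({j1 * j2} : Set H) : Subgroup H) : Set H),
      x ∈ Subgroup.centralizer ({j1 * j2} : Set H) ∨
        j1 * x ∈ Subgroup.centralizer ({j1 * j2} : Set H)) :
    Nat.card H * (Nat.card (Subgroup.centralizer ({j1 * j2} : Set H)) - 1) ≤
      2 * Nat.card (Subgroup.centralizer ({j1 * j2} : Set H)) *
        Nat.card {g : H // ∀ p : Λ, g • p ≠ p} := by
  classical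
  have := Fintype.ofFinite H
  have := Fintype.ofFinite Λ
  set T := Subgroup.centralizer ({j1 * j2} : Set H) with hT
  let TF : Finset H := Finset.univ.filter (· ∈ T)
  let NF : Finset H := Finset.univ.filter (· ∈ Subgroup.normalizer (T : Set H))
  let FPF : Finset H := Finset.univ.filter (fun g => ∀ p : Λ, g • p ≠ p)
  have hTF : Nat.card T = TF.card := by
    rw [Nat.card_eq_fintype_card]
    exact Fintype.card_of_subtype TF (by simp [TF])
  have hFPF : Nat.card {g : H // ∀ p : Λ, g • p ≠ p} = FPF.card := by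
    rw [Nat.card_eq_fintype_card]
    exact Fintype.card_of_subtype FPF (by simp [FPF])
  have hNF : NF.card ≤ 2 * TF.card := by
    have hsub : NF ⊆ TF ∪ TF.image (fun u => j1⁻¹ * u) := by
      intro x hx
      have hx' : x ∈ Subgroup.normalizer (T : Set H) := by simpa [NF] using hx
      rcases hN x hx' with h | h
      · exact Finset.mem_union_left _ (by simpa [TF] using h)
      · refine Finset.mem_union_right _ (Finset.mem_image.mpr ⟨j1 * x, by simpa [TF] using h, ?_⟩)
        group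
    calc NF.card ≤ (TF ∪ TF.image (fun u => j1⁻¹ * u)).card := Finset.card_le_card hsub
      _ ≤ TF.card + (TF.image (fun u => j1⁻¹ * u)).card := Finset.card_union_le _ _
      _ ≤ TF.card + TF.card := Nat.add_le_add_left Finset.card_image_le _
      _ = 2 * TF.card := by ring
  let D : Finset (H × H) := (Finset.univ : Finset H) ×ˢ (TF.erase 1)
  have hD : D.card = Nat.card H * (TF.card - 1) := by
    rw [Finset.card_product, Finset.card_univ, Nat.card_eq_fintype_card,
      Finset.card_erase_of_mem (by simp [TF, T.one_mem])]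
  let f : H × H → H := fun x => x.1 * x.2 * x.1⁻¹
  have hmemD : ∀ x : H × H, x ∈ D ↔ x.2 ∈ T ∧ x.2 ≠ 1 := by
    intro x
    simp only [D, TF, Finset.mem_product, Finset.mem_univ, true_and, Finset.mem_erase,
      Finset.mem_filter]
    tauto
  have himg : D.image f ⊆ FPF := by
    intro b hb
    obtain ⟨x, hx, rfl⟩ := Finset.mem_image.mp hb
    obtain ⟨hxT, hx1⟩ := (hmemD x).mp hx
    simp only [FPF, Finset.mem_filter, Finset.mem_univ, true_and]
    intro p hp
    apply torus_free S hfpf x.2 hxT hx1 (x.1⁻¹ • p)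
    have : x.2 • x.1⁻¹ • p = x.1⁻¹ • (f x) • p := by
      simp only [f, ← mul_smul]
      congr 1
      group
    rw [this, hp]
  have hfib : ∀ b ∈ D.image f, (D.filter (fun a => f a = b)).card ≤ 2 * TF.card := by
    intro b hb
    obtain ⟨x', hx', rfl⟩ := Finset.mem_image.mp hb
    obtain ⟨hxT', hx1'⟩ := (hmemD x').mp hx'
    refine le_trans ?_ hNF
    apply Finset.card_le_card_of_injOn (fun a => x'.1⁻¹ * a.1)
    · intro a ha
      have ha' := Finset.mem_filter.mp ha
      obtain ⟨haT, ha1⟩ := (hmemD a).mp ha'.1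
      have hfa : a.1 * a.2 * a.1⁻¹ = x'.1 * x'.2 * x'.1⁻¹ := ha'.2
      have hconj : (x'.1⁻¹ * a.1) * a.2 * (x'.1⁻¹ * a.1)⁻¹ = x'.2 := by
        calc (x'.1⁻¹ * a.1) * a.2 * (x'.1⁻¹ * a.1)⁻¹ = x'.1⁻¹ * (a.1 * a.2 * a.1⁻¹) * x'.1 := by
              group
          _ = x'.2 := by rw [hfa]; group
      have := mem_normalizer_of_conj S h1 h2 hfpf haT ha1 hxT' hx1' hconj
      simpa [NF] using this
    · intro a ha c hc hac
      have ha' := Finset.mem_filter.mp ha
      have hc' := Finset.mem_filter.mp hc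
      have h1eq : a.1 = c.1 := mul_left_cancel hac
      have hfa : a.1 * a.2 * a.1⁻¹ = x'.1 * x'.2 * x'.1⁻¹ := ha'.2
      have hfc : c.1 * c.2 * c.1⁻¹ = x'.1 * x'.2 * x'.1⁻¹ := hc'.2
      have h2eq : a.2 = c.2 := by
        rw [← hfc, ← h1eq] at hfa
        exact mul_left_cancel (mul_right_cancel hfa)
      exact Prod.ext h1eq h2eq
  have hmain := Finset.card_le_mul_card_image D (2 * TF.card) hfib
  rw [hTF, hFPF, ← hD]
  exact le_trans hmain (Nat.mul_le_mul_left _ (Finset.card_le_card himg))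

end Torus

end Cfsg.Agent.Lib.Helper29.SuzTorus
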