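import Mathlib
import Cfsg.Prelude.Def_Blocks
import Cfsg.Agent.Lib.Helper12.W2pDefs
import Cfsg.Agent.Lib.Helper92.W2pFix

/-!
# Wielandt `2p` (S0720), module `[LIN]` of helper12's project (board #3570)

A linear constituent of the permutation character of a primitive group of non-prime degree is
the principal character.
-/

set_option autoImplicit false

namespace Cfsg.Agent.Lib.Helper29.W2p
open Cfsg Cfsg.Agent.Lib.Helper12.W2p

variable {α : Type*} [Fintype α] [DecidableEq α]

/-- an endomorphism of a one-dimensional coordinate space is multiplication by its trace -/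
theorem apply_eq_trace_smul (f : (Fin 1 → ℂ) →ₗ[ℂ] (Fin 1 → ℂ)) (w : Fin 1 → ℂ) :
    f w = (LinearMap.trace ℂ (Fin 1 → ℂ) f) • w := by
  have htr : LinearMap.trace ℂ (Fin 1 → ℂ) f = f (Pi.single 0 1) 0 := by
    rw [LinearMap.trace_eq_matrix_trace ℂ (Pi.basisFun ℂ (Fin 1)), LinearMap.toMatrix_eq_toMatrix',
      Matrix.trace_fin_one, LinearMap.toMatrix'_apply]
  have hw : w = w 0 • (Pi.single 0 1 : Fin 1 → ℂ) := by
    funext i
    fin_cases i
    simp
  rw [htr]
  conv_lhs => rw [hw, map_smul]
  funext i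
  fin_cases i
  simp [mul_comm]

/-- MODULE [LIN] -/
theorem eq_one_of_linear_constituent {G : Subgroup (Equiv.Perm α)} [Fintype ↥G]
    (hprim : MulAction.IsPreprimitive G α) (hα : ¬ (Fintype.card α).Prime)
    (χ : IrrCharacter ↥G) (hm : classInner (permChar G) (χ : ↥G → ℂ) ≠ 0)
    (h1 : (χ : ↥G → ℂ) 1 = 1) : (χ : ↥G → ℂ) = fun _ => 1 := by
  classical
  rcases subsingleton_or_nontrivial α with hsub | hnt
  · funext g
    have : g = 1 := Subtype.ext (Subsingleton.elim _ _)
    rw [this, h1]
  obtain ⟨n, ρ, hirr, hρ⟩ := χ.2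
  have hn : n = 1 := by
    have h2 := Representation.char_one ρ
    rw [hρ, h1, Module.finrank_fintype_fun_eq_card, Fintype.card_fin] at h2
    exact_mod_cast h2.symm
  subst hn
  have hpt : MulAction.IsPretransitive G α := hprim.toIsPretransitive
  have hm' : classInner (permChar G) ρ.character ≠ 0 := by rw [hρ]; exact hm
  obtain ⟨v, hv⟩ := Cfsg.Agent.Lib.Helper92.W2p.exists_fixed_vectors hpt ρ hirr hm'
  have hscal : ∀ (g : ↥G) (w : Fin 1 → ℂ), ρ g w = (χ : ↥G → ℂ) g • w := by
    intro g w
    rw [apply_eq_trace_smul (ρ g) w, ← hρ]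
    rfl
  obtain ⟨x₀⟩ : Nonempty α := inferInstance
  have hv0 : v x₀ ≠ 0 := (hv x₀).1
  have hmul : ∀ g h : ↥G, (χ : ↥G → ℂ) (g * h) = (χ : ↥G → ℂ) g * (χ : ↥G → ℂ) h := by
    intro g h
    have h2 : ρ (g * h) (v x₀) = ρ g (ρ h (v x₀)) := by rw [map_mul]; rfl
    rw [hscal, hscal, hscal, smul_smul] at h2
    have h3 : ((χ : ↥G → ℂ) (g * h) - (χ : ↥G → ℂ) g * (χ : ↥G → ℂ) h) • v x₀ = 0 := by
      rw [sub_smul, h2, sub_self]
    rcases smul_eq_zero.mp h3 with h4 | h4
    · exact sub_eq_zero.mp h4
    · exact absurd h4 hv0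
  -- the kernel
  let φ : ↥G →* ℂ := { toFun := (χ : ↥G → ℂ), map_one' := h1, map_mul' := hmul }
  set K : Subgroup ↥G := φ.toHomUnits.ker with hK
  have hmemK : ∀ g : ↥G, g ∈ K ↔ (χ : ↥G → ℂ) g = 1 := by
    intro g
    rw [hK, MonoidHom.mem_ker, Units.ext_iff, MonoidHom.coe_toHomUnits, Units.val_one]
    rfl
  have hstabK : ∀ x : α, MulAction.stabilizer ↥G x ≤ K := by
    intro x g hg
    rw [MulAction.mem_stabilizer_iff] at hg
    rw [hmemK]
    have h2 := (hv x).2 g
    rw [hg, hscal] at h2
    have h3 : ((χ : ↥G → ℂ) g - 1) • v x = 0 := by rw [sub_smul, h2, one_smul, sub_self]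
    rcases smul_eq_zero.mp h3 with h4 | h4
    · exact sub_eq_zero.mp h4
    · exact absurd h4 (hv x).1
  have hcoatom : ∀ x : α, IsCoatom (MulAction.stabilizer ↥G x) := fun x =>
    (MulAction.isCoatom_stabilizer_iff_preprimitive ↥G x).2 hprim
  by_cases hKtop : K = ⊤
  · funext g
    exact (hmemK g).1 (by rw [hKtop]; exact Subgroup.mem_top g)
  · exfalso
    have hstabeq : ∀ x : α, MulAction.stabilizer ↥G x = K := by
      intro x
      by_contra hne
      exact hKtop ((hcoatom x).2 K (lt_of_le_of_ne (hstabK x) hne))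
    have hKbot : K = ⊥ := by
      rw [eq_bot_iff]
      intro g hg
      rw [Subgroup.mem_bot]
      apply Subtype.ext
      apply Equiv.ext
      intro x
      have : g ∈ MulAction.stabilizer ↥G x := by rw [hstabeq x]; exact hg
      exact MulAction.mem_stabilizer_iff.1 this
    have hbotcoatom : IsCoatom (⊥ : Subgroup ↥G) := by
      rw [← hKbot, ← hstabeq x₀]
      exact hcoatom x₀
    -- the group has prime order
    have hcardG : Fintype.card ↥G = Fintype.card α := by
      have h2 := MulAction.card_orbit_mul_card_stabilizer_eq_card_group ↥G x₀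
      have h3 : Fintype.card ↥(MulAction.stabilizer ↥G x₀) = 1 := by
        rw [Fintype.card_eq_one_iff]
        refine ⟨1, fun y => ?_⟩
        have : (y : ↥G) ∈ (⊥ : Subgroup ↥G) := by
          rw [← hKbot, ← hstabeq x₀]; exact y.2
        exact Subtype.ext (Subgroup.mem_bot.1 this)
      have h4 : Fintype.card ↑(MulAction.orbit ↥G x₀) = Fintype.card α := by
        rw [← Set.toFinset_card, ← Finset.card_univ]
        congr 1
        rw [Set.toFinset_eq_univ]  -- orbit = univ
        exact MulAction.orbit_eq_univ ↥G x₀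
      rw [h3, h4, mul_one] at h2
      exact h2.symm
    have hnt' : Nontrivial ↥G := by
      rw [← Fintype.one_lt_card_iff_nontrivial, hcardG]
      exact Fintype.one_lt_card
    have hprime : (Fintype.card ↥G).Prime := by
      obtain ⟨ℓ, hℓ, hℓdvd⟩ := Nat.exists_prime_and_dvd
        (show Fintype.card ↥G ≠ 1 from (Fintype.one_lt_card (α := ↥G)).ne')
      have := Fact.mk hℓ
      obtain ⟨g, hg⟩ := exists_prime_orderOf_dvd_card ℓ hℓdvd
      have hgne : Subgroup.zpowers g ≠ ⊥ := by
        intro h0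
        have : g = 1 := by
          have h5 := Subgroup.mem_zpowers g
          rw [h0, Subgroup.mem_bot] at h5
          exact h5
        rw [this, orderOf_one] at hg
        exact hℓ.one_lt.ne hg
      have htop : Subgroup.zpowers g = ⊤ := hbotcoatom.2 _ (bot_lt_iff_ne_bot.2 hgne)
      have hcard : Nat.card ↥(Subgroup.zpowers g) = Nat.card ↥G := by
        rw [htop]
        exact Subgroup.card_top
      rw [Nat.card_zpowers, hg, Nat.card_eq_fintype_card] at hcard
      rw [← hcard]
      exact hℓ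
    rw [hcardG] at hprime
    exact hα hprime

end Cfsg.Agent.Lib.Helper29.W2p
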