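import Mathlib
import Cfsg.Prelude.Def_Blocks
import Cfsg.Agent.Lib.Helper12.W2pDefs

/-!
# Wielandt `2p` (S0720), module `[PSQ]` of helper12's project (board #3570)

`p ^ 2` does not divide `|G|`.
-/

set_option autoImplicit false

namespace Cfsg.Agent.Lib.Helper29.W2p
open Cfsg Cfsg.Agent.Lib.Helper12.W2p

variable {α : Type*} [Fintype α] [DecidableEq α] {p : ℕ}

/-- MODULE [PSQ] -/
theorem not_sq_dvd_card {G : Subgroup (Equiv.Perm α)} (h : Ctx p G) : ¬ p ^ 2 ∣ Nat.card ↥G := by
  intro hdvd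
  have := Fact.mk h.hp
  obtain ⟨Q, hQ⟩ := Sylow.exists_subgroup_card_pow_prime p hdvd
  -- no nontrivial element of `Q` fixes a point
  have hfree : ∀ g : ↥G, g ∈ Q → ∀ x : α, g • x = x → g = 1 := by
    intro g hg x hx
    by_contra hne
    have hord : orderOf (⟨g, hg⟩ : ↥Q) ∣ p ^ 2 := by
      rw [← hQ]
      exact orderOf_dvd_natCard _
    rw [Subgroup.orderOf_mk] at hord
    obtain ⟨j, hj, hoj⟩ := (Nat.dvd_prime_pow h.hp).1 hord
    have hj0 : j ≠ 0 := by
      rintro rfl
      rw [pow_zero, orderOf_eq_one_iff] at hoj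
      exact hne hoj
    have hjcases : j = 1 ∨ j = 2 := by omega
    rcases hjcases with rfl | rfl
    · rw [pow_one] at hoj
      have ho' : orderOf (g : Equiv.Perm α) = p := by rw [Subgroup.orderOf_coe]; exact hoj
      exact h.fpf g g.2 ho' x hx
    · have hgp : orderOf (g ^ p) = p := by
        rw [orderOf_pow' g h.hp.ne_zero, hoj, pow_two, Nat.gcd_mul_left_left,
          Nat.mul_div_cancel _ h.hp.pos]
      have ho' : orderOf ((g ^ p : ↥G) : Equiv.Perm α) = p := by
        rw [Subgroup.orderOf_coe]; exact hgp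
      have hfix : ∀ m : ℕ, (g ^ m) • x = x := by
        intro m
        induction m with
        | zero => rw [pow_zero, one_smul]
        | succ m ih => rw [pow_succ, mul_smul, hx, ih]
      exact h.fpf _ (g ^ p).2 ho' x (hfix p)
  have hpos : 0 < Fintype.card α := by
    rw [h.hα]
    exact Nat.mul_pos two_pos h.hp.pos
  obtain ⟨x₀⟩ : Nonempty α := Fintype.card_pos_iff.1 hpos
  have hinj : Function.Injective (fun g : ↥Q => (g : ↥G) • x₀) := by
    intro g g' hgg'
    have h1 : ((g' : ↥G)⁻¹ * (g : ↥G)) • x₀ = x₀ := by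
      rw [mul_smul]
      show (g' : ↥G)⁻¹ • ((g : ↥G) • x₀) = x₀
      rw [show (g : ↥G) • x₀ = (g' : ↥G) • x₀ from hgg', inv_smul_smul]
    have h2 := hfree _ (Q.mul_mem (Q.inv_mem g'.2) g.2) x₀ h1
    apply Subtype.ext
    have h3 : (g : ↥G) = (g' : ↥G) * ((g' : ↥G)⁻¹ * (g : ↥G)) := by group
    rw [h3, h2, mul_one]
  have hle := Nat.card_le_card_of_injective _ hinj
  rw [hQ, Nat.card_eq_fintype_card, h.hα, pow_two] at hle
  have hp2 : p ≤ 2 := Nat.le_of_mul_le_mul_right (by linarith) h.hp.pos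
  have := h.hp.two_le
  exact h.hp2 (by omega)

end Cfsg.Agent.Lib.Helper29.W2p
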