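import Mathlib
import Cfsg.Agent.Lib.Helper12.W2pDefs

/-!
# Wielandt `2p` (S0720): the action of `N_G(⟨π⟩)` on the two `⟨π⟩`-orbits

Shared machinery for the modules `[W]` and `[IIA]` of helper12's project (board #3275).
`G ≤ Sym(α)`, `|α| = 2p`, elements of order `p` fixed-point-free, `π ∈ G` of order `p`.

* `Orb π x y`: `y` lies in the `⟨π⟩`-orbit of `x`; there are exactly two orbits
  (`orb_of_not_orb`).
* `ex p π n`: the exponent of `n ∈ N_G(⟨π⟩)` on `⟨π⟩`, a multiplicative map to `ZMod p`;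
  `exists_gen`: its image is cyclic of order `|N : C|`.
* `exists_fix`, `fix_unique`: an element of `N` preserving an orbit with exponent `≠ 1` has
  exactly one fixed point on this orbit.
-/

set_option autoImplicit false
set_option linter.unusedSectionVars false
set_option linter.style.haveILetI false

namespace Cfsg.Agent.Lib.Helper29.W2p
open Cfsg.Agent.Lib.Helper12.W2p

variable {α : Type*} [Fintype α] [DecidableEq α] {p : ℕ} {G : Subgroup (Equiv.Perm α)}

/-- `y` lies in the `⟨π⟩`-orbit of `x` -/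
def Orb (π : ↥G) (x y : α) : Prop := ∃ s : ℕ, y = (π ^ s) • x

theorem orb_refl (π : ↥G) (x : α) : Orb π x x := ⟨0, by rw [pow_zero, one_smul]⟩

theorem orb_trans {π : ↥G} {x y z : α} (h1 : Orb π x y) (h2 : Orb π y z) : Orb π x z := by
  obtain ⟨s, rfl⟩ := h1
  obtain ⟨t, rfl⟩ := h2
  exact ⟨t + s, by rw [pow_add, mul_smul]⟩

theorem orb_symm {π : ↥G} (hπ : orderOf π = p) {x y : α} (h1 : Orb π x y) : Orb π y x := by
  obtain ⟨s, rfl⟩ := h1
  refine ⟨s * (p - 1) , ?_⟩
  rw [← mul_smul, ← pow_add]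
  have hp1 : 1 ≤ p := by
    rw [← hπ]
    by_contra hcon
    have h0 : orderOf π = 0 := by omega
    exact (orderOf_pos π).ne' h0
  have : s * (p - 1) + s = p * s := by
    obtain ⟨q, rfl⟩ : ∃ q, p = q + 1 := ⟨p - 1, by omega⟩
    simp only [Nat.add_sub_cancel]; ring
  rw [this, pow_mul, ← hπ, pow_orderOf_eq_one, one_pow, one_smul]

theorem orb_pow_smul (π : ↥G) (x : α) (s : ℕ) : Orb π x ((π ^ s) • x) := ⟨s, rfl⟩

theorem pow_prime_eq_one_of_mem_zpowers {π : ↥G} (hπ : orderOf π = p) {g : ↥G}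
    (hg : g ∈ Subgroup.zpowers π) : g ^ p = 1 := by
  obtain ⟨z, rfl⟩ := Subgroup.mem_zpowers_iff.1 hg
  rw [← zpow_natCast, ← zpow_mul, mul_comm, zpow_mul, zpow_natCast, ← hπ, pow_orderOf_eq_one,
    one_zpow]

/-- an element with `g ^ p = 1` fixing a point is trivial -/
theorem eq_one_of_fix (h : Ctx p G) {g : ↥G} (hgp : g ^ p = 1) {x : α} (hx : g • x = x) :
    g = 1 := by
  haveI := Fact.mk h.hp
  by_contra hne
  have ho : orderOf g = p := orderOf_eq_prime hgp hne
  have ho' : orderOf (g : Equiv.Perm α) = p := by rw [Subgroup.orderOf_coe]; exact ho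
  exact h.fpf g g.2 ho' x hx

theorem modEq_of_pow_smul_eq (h : Ctx p G) {π : ↥G} (hπ : orderOf π = p) {x : α} {i j : ℕ}
    (hij : (π ^ i) • x = (π ^ j) • x) : i ≡ j [MOD p] := by
  have h1 : ((π ^ j)⁻¹ * π ^ i) • x = x := by
    rw [mul_smul, hij, inv_smul_smul]
  have h2 : (π ^ j)⁻¹ * π ^ i ∈ Subgroup.zpowers π :=
    Subgroup.mul_mem _ (Subgroup.inv_mem _ (Subgroup.pow_mem _ (Subgroup.mem_zpowers π) j))
      (Subgroup.pow_mem _ (Subgroup.mem_zpowers π) i)
  have h3 := eq_one_of_fix h (pow_prime_eq_one_of_mem_zpowers hπ h2) h1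
  have h4 : π ^ i = π ^ j := by
    have := congrArg (fun g => π ^ j * g) h3
    simpa using this
  rw [← hπ]
  exact pow_eq_pow_iff_modEq.1 h4.symm |>.symm

theorem pow_eq_pow_of_cast_eq {π : ↥G} (hπ : orderOf π = p) {i j : ℕ}
    (hij : (i : ZMod p) = (j : ZMod p)) : π ^ i = π ^ j := by
  rw [ZMod.natCast_eq_natCast_iff] at hij
  rw [← hπ] at hij
  exact pow_eq_pow_iff_modEq.2 hij.symm |>.symm

theorem cast_eq_of_pow_eq_pow {π : ↥G} (hπ : orderOf π = p) {i j : ℕ}
    (hij : π ^ i = π ^ j) : (i : ZMod p) = (j : ZMod p) := by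
  rw [ZMod.natCast_eq_natCast_iff, ← hπ]
  exact pow_eq_pow_iff_modEq.1 hij.symm |>.symm

/-! ### Counting: exactly two orbits -/

/-- the `⟨π⟩`-orbit of `x` as a set -/
def orbSet (π : ↥G) (x : α) : Set α := {y | Orb π x y}

theorem ncard_orbSet (h : Ctx p G) {π : ↥G} (hπ : orderOf π = p) (x : α) :
    (orbSet π x).ncard = p := by
  have hp0 : 0 < p := h.hp.pos
  have hrange : orbSet π x = Set.range (fun s : Fin p => (π ^ (s : ℕ)) • x) := by
    ext y
    constructor
    · rintro ⟨s, rfl⟩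
      refine ⟨⟨s % p, Nat.mod_lt _ hp0⟩, ?_⟩
      show (π ^ (s % p)) • x = (π ^ s) • x
      have : π ^ (s % p) = π ^ s := by
        rw [← hπ]; exact pow_mod_orderOf π s
      rw [this]
    · rintro ⟨s, rfl⟩
      exact ⟨s, rfl⟩
  have hinj : Function.Injective (fun s : Fin p => (π ^ (s : ℕ)) • x) := by
    intro s t hst
    have h1 := modEq_of_pow_smul_eq h hπ hst
    apply Fin.ext
    have hs := Nat.mod_eq_of_lt s.isLt
    have ht := Nat.mod_eq_of_lt t.isLt
    unfold Nat.ModEq at h1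
    omega
  rw [hrange, ← Set.image_univ, Set.ncard_image_of_injective _ hinj, Set.ncard_univ]
  simp

/-- there are only two `⟨π⟩`-orbits -/
theorem orb_of_not_orb (h : Ctx p G) {π : ↥G} (hπ : orderOf π = p) {x y z : α}
    (hxy : ¬ Orb π x y) (hxz : ¬ Orb π x z) : Orb π y z := by
  by_contra hyz
  have d1 : Disjoint (orbSet π x) (orbSet π y) := by
    rw [Set.disjoint_left]
    intro u hu1 hu2
    exact hxy (orb_trans hu1 (orb_symm hπ hu2))
  have d2 : Disjoint (orbSet π x ∪ orbSet π y) (orbSet π z) := by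
    rw [Set.disjoint_left]
    rintro u (hu1 | hu1) hu2
    · exact hxz (orb_trans hu1 (orb_symm hπ hu2))
    · exact hyz (orb_trans hu1 (orb_symm hπ hu2))
  have hfin : ∀ s : Set α, s.Finite := fun s => Set.toFinite s
  have h1 := Set.ncard_union_eq d2 (hfin _) (hfin _)
  rw [Set.ncard_union_eq d1 (hfin _) (hfin _), ncard_orbSet h hπ, ncard_orbSet h hπ,
    ncard_orbSet h hπ] at h1
  have h2 : (orbSet π x ∪ orbSet π y ∪ orbSet π z).ncard ≤ (Set.univ : Set α).ncard :=
    Set.ncard_le_ncard (Set.subset_univ _) (hfin _)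
  rw [Set.ncard_univ, Nat.card_eq_fintype_card, h.hα, h1] at h2
  have := h.hp.pos
  omega

theorem exists_not_orb (h : Ctx p G) {π : ↥G} (hπ : orderOf π = p) (x : α) :
    ∃ y, ¬ Orb π x y := by
  by_contra hcon
  push Not at hcon
  have h1 : orbSet π x = Set.univ := Set.eq_univ_of_forall hcon
  have h2 := ncard_orbSet h hπ x
  rw [h1, Set.ncard_univ, Nat.card_eq_fintype_card, h.hα] at h2
  have := h.hp.pos
  omega

/-! ### The normalizer -/

theorem exists_pow_of_mem_zpowers {π g : ↥G} (hg : g ∈ Subgroup.zpowers π) :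
    ∃ k : ℕ, g = π ^ k := by
  have : g ∈ Submonoid.powers π := mem_powers_iff_mem_zpowers.2 hg
  obtain ⟨k, hk⟩ := this
  exact ⟨k, hk.symm⟩

theorem mem_normalizer_iff' {π n : ↥G} :
    n ∈ Subgroup.normalizer (Subgroup.zpowers π : Set ↥G) ↔
      n * π * n⁻¹ ∈ Subgroup.zpowers π := by
  constructor
  · intro hn
    exact (Subgroup.mem_normalizer_iff.1 hn π).1 (Subgroup.mem_zpowers π)
  · intro hn
    apply Subgroup.mem_normalizer_fintype
    intro g hg
    obtain ⟨z, rfl⟩ := Subgroup.mem_zpowers_iff.1 hg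
    have : n * π ^ z * n⁻¹ = (n * π * n⁻¹) ^ z := by
      rw [conj_zpow]
    rw [this]
    exact Subgroup.zpow_mem _ hn z

theorem conj_pow_eq {π n : ↥G} {k : ℕ} (hn : n * π * n⁻¹ = π ^ k) (s : ℕ) :
    n * π ^ s * n⁻¹ = π ^ (k * s) := by
  rw [← conj_pow, hn, ← pow_mul]

/-- `n π^s = π^{ks} n` on points -/
theorem smul_pow_smul {π n : ↥G} {k : ℕ} (hn : n * π * n⁻¹ = π ^ k) (s : ℕ) (x : α) :
    n • ((π ^ s) • x) = (π ^ (k * s)) • (n • x) := by
  rw [← mul_smul, ← mul_smul, ← conj_pow_eq hn s]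
  congr 1
  group

theorem orb_smul_of_mem {π n : ↥G}
    (hn : n ∈ Subgroup.normalizer (Subgroup.zpowers π : Set ↥G)) {x y : α}
    (hxy : Orb π x y) : Orb π (n • x) (n • y) := by
  obtain ⟨k, hk⟩ := exists_pow_of_mem_zpowers (mem_normalizer_iff'.1 hn)
  obtain ⟨s, rfl⟩ := hxy
  exact ⟨k * s, smul_pow_smul hk s x⟩

theorem orb_smul_iff {π n : ↥G}
    (hn : n ∈ Subgroup.normalizer (Subgroup.zpowers π : Set ↥G)) {x y : α} :
    Orb π (n • x) (n • y) ↔ Orb π x y := by
  constructor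
  · intro hxy
    have := orb_smul_of_mem (Subgroup.inv_mem _ hn) hxy
    rwa [inv_smul_smul, inv_smul_smul] at this
  · exact orb_smul_of_mem hn

/-- an element of the normalizer moving the orbit of `x` swaps the two orbits -/
theorem swap_of_not_orb (h : Ctx p G) {π n : ↥G} (hπ : orderOf π = p)
    (hn : n ∈ Subgroup.normalizer (Subgroup.zpowers π : Set ↥G)) {x : α}
    (hx : ¬ Orb π x (n • x)) (y : α) : Orb π x (n • y) ↔ ¬ Orb π x y := by
  constructor
  · intro h1 h2
    have h3 := orb_smul_of_mem hn h2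
    exact hx (orb_trans h1 (orb_symm hπ h3))
  · intro h1
    by_contra h2
    have h3 := orb_of_not_orb h hπ hx h2
    exact h1 ((orb_smul_iff hn).1 h3)

/-- an element of the normalizer preserving the orbit of `x` preserves both orbits -/
theorem orb_smul_self_of_orb (h : Ctx p G) {π n : ↥G} (hπ : orderOf π = p)
    (hn : n ∈ Subgroup.normalizer (Subgroup.zpowers π : Set ↥G)) {x : α}
    (hx : Orb π x (n • x)) (y : α) : Orb π y (n • y) := by
  by_cases hy : Orb π x y
  · have h1 := orb_smul_of_mem hn hy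
    exact orb_trans (orb_symm hπ hy) (orb_trans hx h1)
  · have h2 : ¬ Orb π x (n • y) := by
      intro h3
      have h4 : Orb π (n • x) (n • y) := orb_trans (orb_symm hπ hx) h3
      exact hy ((orb_smul_iff hn).1 h4)
    exact orb_of_not_orb h hπ hy h2

/-! ### Fixed points of affine maps -/

theorem exists_fix (h : Ctx p G) {π w : ↥G} (hπ : orderOf π = p) {k : ℕ}
    (hw : w * π * w⁻¹ = π ^ k) (hk : (k : ZMod p) ≠ 1) {y : α} (hy : Orb π y (w • y)) :
    ∃ x, Orb π y x ∧ w • x = x := by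
  haveI := Fact.mk h.hp
  obtain ⟨c, hc⟩ := hy
  set s : ℕ := ((c : ZMod p) / (1 - (k : ZMod p))).val with hs
  refine ⟨(π ^ s) • y, orb_pow_smul π y s, ?_⟩
  rw [smul_pow_smul hw, hc, ← mul_smul, ← pow_add]
  congr 1
  apply pow_eq_pow_of_cast_eq hπ
  have h1 : (1 - (k : ZMod p)) ≠ 0 := by
    intro h0
    apply hk
    have : (k : ZMod p) = 1 - (1 - (k : ZMod p)) := by ring
    rw [this, h0, sub_zero]
  have hsc : (s : ZMod p) = (c : ZMod p) / (1 - (k : ZMod p)) := by
    rw [hs, ZMod.natCast_zmod_val]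
  push_cast
  rw [hsc]
  field_simp
  ring

theorem fix_unique (h : Ctx p G) {π w : ↥G} (hπ : orderOf π = p) {k : ℕ}
    (hw : w * π * w⁻¹ = π ^ k) (hk : (k : ZMod p) ≠ 1) {x x' : α} (hxx' : Orb π x x')
    (hx : w • x = x) (hx' : w • x' = x') : x = x' := by
  haveI := Fact.mk h.hp
  obtain ⟨s, rfl⟩ := hxx'
  rw [smul_pow_smul hw, hx] at hx'
  have h1 := modEq_of_pow_smul_eq h hπ hx'
  have h2 : ((k * s : ℕ) : ZMod p) = (s : ZMod p) := (ZMod.natCast_eq_natCast_iff _ _ _).2 h1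
  push_cast at h2
  have h3 : ((k : ZMod p) - 1) * (s : ZMod p) = 0 := by
    rw [sub_mul, h2, one_mul, sub_self]
  rcases mul_eq_zero.1 h3 with h4 | h4
  · exact absurd (sub_eq_zero.1 h4) hk
  · have h5 : π ^ s = π ^ 0 := pow_eq_pow_of_cast_eq hπ (by rw [h4]; simp)
    rw [h5, pow_zero, one_smul]

/-! ### The exponent map -/

/-- the exponent of `n` on `⟨π⟩` (junk `0` if `n` does not normalize `⟨π⟩`) -/
noncomputable def ex (p : ℕ) (π n : ↥G) : ZMod p :=
  open Classical in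
  if h : ∃ k : ℕ, n * π * n⁻¹ = π ^ k then ((Classical.choose h : ℕ) : ZMod p) else 0

theorem ex_eq {π n : ↥G} (hπ : orderOf π = p) {k : ℕ} (hk : n * π * n⁻¹ = π ^ k) :
    ex p π n = (k : ZMod p) := by
  have h : ∃ k : ℕ, n * π * n⁻¹ = π ^ k := ⟨k, hk⟩
  unfold ex
  rw [dif_pos h]
  apply cast_eq_of_pow_eq_pow hπ
  rw [← Classical.choose_spec h, hk]

theorem ex_spec (h : Ctx p G) {π n : ↥G} (hπ : orderOf π = p)
    (hn : n ∈ Subgroup.normalizer (Subgroup.zpowers π : Set ↥G)) :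
    n * π * n⁻¹ = π ^ (ex p π n).val := by
  haveI := Fact.mk h.hp
  obtain ⟨k, hk⟩ := exists_pow_of_mem_zpowers (mem_normalizer_iff'.1 hn)
  rw [ex_eq hπ hk, hk]
  apply pow_eq_pow_of_cast_eq hπ
  rw [ZMod.natCast_zmod_val]

theorem ex_mul {π n m : ↥G} (hπ : orderOf π = p)
    (hn : n ∈ Subgroup.normalizer (Subgroup.zpowers π : Set ↥G))
    (hm : m ∈ Subgroup.normalizer (Subgroup.zpowers π : Set ↥G)) :
    ex p π (n * m) = ex p π n * ex p π m := by
  obtain ⟨k, hk⟩ := exists_pow_of_mem_zpowers (mem_normalizer_iff'.1 hn)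
  obtain ⟨l, hl⟩ := exists_pow_of_mem_zpowers (mem_normalizer_iff'.1 hm)
  have h1 : (n * m) * π * (n * m)⁻¹ = π ^ (k * l) := by
    have : (n * m) * π * (n * m)⁻¹ = n * (m * π * m⁻¹) * n⁻¹ := by group
    rw [this, hl, conj_pow_eq hk]
  rw [ex_eq hπ h1, ex_eq hπ hk, ex_eq hπ hl]
  push_cast
  rfl

theorem ex_one {π : ↥G} (hπ : orderOf π = p) : ex p π 1 = 1 := by
  have h1 : (1 : ↥G) * π * 1⁻¹ = π ^ 1 := by simp
  rw [ex_eq hπ h1]
  simp

theorem ex_pow {π n : ↥G} (hπ : orderOf π = p)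
    (hn : n ∈ Subgroup.normalizer (Subgroup.zpowers π : Set ↥G)) (j : ℕ) :
    ex p π (n ^ j) = ex p π n ^ j := by
  induction j with
  | zero => rw [pow_zero, pow_zero, ex_one hπ]
  | succ j ih => rw [pow_succ, pow_succ, ex_mul hπ (Subgroup.pow_mem _ hn j) hn, ih]

theorem mem_centralizer_iff' {π c : ↥G} :
    c ∈ Subgroup.centralizer (Subgroup.zpowers π : Set ↥G) ↔ c * π = π * c := by
  rw [Subgroup.mem_centralizer_iff]
  constructor
  · intro hc
    exact (hc π (Subgroup.mem_zpowers π)).symm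
  · intro hc g hg
    obtain ⟨z, rfl⟩ := Subgroup.mem_zpowers_iff.1 hg
    have h1 : Commute c π := hc
    exact (h1.zpow_right z).eq.symm

theorem ex_eq_one_iff (h : Ctx p G) {π n : ↥G} (hπ : orderOf π = p)
    (hn : n ∈ Subgroup.normalizer (Subgroup.zpowers π : Set ↥G)) :
    ex p π n = 1 ↔ n * π = π * n := by
  haveI := Fact.mk h.hp
  constructor
  · intro h1
    have h2 := ex_spec h hπ hn
    have h3 : π ^ (ex p π n).val = π ^ 1 := by
      apply pow_eq_pow_of_cast_eq hπ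
      rw [ZMod.natCast_zmod_val, h1]
      simp
    rw [h3, pow_one] at h2
    calc n * π = n * π * n⁻¹ * n := by group
      _ = π * n := by rw [h2]
  · intro h1
    have h2 : n * π * n⁻¹ = π ^ 1 := by
      rw [h1, pow_one]; group
    rw [ex_eq hπ h2]
    simp

/-- the exponent map as a monoid homomorphism on the normalizer -/
noncomputable def exHom {π : ↥G} (hπ : orderOf π = p) :
    ↥(Subgroup.normalizer (Subgroup.zpowers π : Set ↥G)) →* ZMod p where
  toFun n := ex p π n.1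
  map_one' := ex_one hπ
  map_mul' n m := ex_mul hπ n.2 m.2

theorem ker_exHom (h : Ctx p G) {π : ↥G} (hπ : orderOf π = p) :
    (exHom hπ).toHomUnits.ker =
      (Subgroup.centralizer (Subgroup.zpowers π : Set ↥G)).subgroupOf
        (Subgroup.normalizer (Subgroup.zpowers π : Set ↥G)) := by
  ext n
  rw [MonoidHom.mem_ker, Subgroup.mem_subgroupOf, Units.ext_iff, MonoidHom.coe_toHomUnits,
    Units.val_one, mem_centralizer_iff']
  exact ex_eq_one_iff h hπ n.2

/-- the image of the exponent map is cyclic of order `|N : C|` -/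
theorem exists_gen (h : Ctx p G) {π : ↥G} (hπ : orderOf π = p) :
    ∃ n₀ ∈ Subgroup.normalizer (Subgroup.zpowers π : Set ↥G),
      orderOf (ex p π n₀) = (Subgroup.centralizer (Subgroup.zpowers π : Set ↥G)).relIndex
        (Subgroup.normalizer (Subgroup.zpowers π : Set ↥G)) ∧
      ∀ n ∈ Subgroup.normalizer (Subgroup.zpowers π : Set ↥G),
        ∃ j : ℕ, ex p π n = ex p π n₀ ^ j := by
  haveI := Fact.mk h.hp
  have hidx : (Subgroup.centralizer (Subgroup.zpowers π : Set ↥G)).relIndex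
      (Subgroup.normalizer (Subgroup.zpowers π : Set ↥G)) =
        Nat.card (exHom hπ).toHomUnits.range := by
    rw [Subgroup.relIndex, ← ker_exHom h hπ, Subgroup.index_ker]
  obtain ⟨g, hg⟩ := IsCyclic.exists_generator (α := (exHom hπ).toHomUnits.range)
  have hord : orderOf g = Nat.card (exHom hπ).toHomUnits.range :=
    orderOf_eq_card_of_forall_mem_zpowers hg
  obtain ⟨n₀, hn₀⟩ := g.2
  have hval : ∀ n : ↥(Subgroup.normalizer (Subgroup.zpowers π : Set ↥G)),
      (((exHom hπ).toHomUnits n : (ZMod p)ˣ) : ZMod p) = ex p π n.1 := fun n => rfl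
  refine ⟨n₀.1, n₀.2, ?_, ?_⟩
  · rw [hidx, ← hord, ← Subgroup.orderOf_coe g, ← hn₀, ← orderOf_units, hval]
  · intro n hn
    have h1 := hg ⟨(exHom hπ).toHomUnits ⟨n, hn⟩, ⟨_, rfl⟩⟩
    obtain ⟨j, hj⟩ := mem_powers_iff_mem_zpowers.2 h1
    refine ⟨j, ?_⟩
    have h2 := congrArg (fun x : ↥(exHom hπ).toHomUnits.range => ((x : (ZMod p)ˣ) : ZMod p)) hj
    simp only [Subgroup.coe_pow, Units.val_pow_eq_pow_val] at h2
    rw [← hn₀, hval] at h2
    exact h2.symm

end Cfsg.Agent.Lib.Helper29.W2p
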