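import Mathlib
import Cfsg.Agent.Lib.Helper12.W2pDefs
import Cfsg.Agent.Lib.Helper29.W2pAffine

/-!
# Wielandt `2p` (S0720), module `[IIA]` of helper12's project (board #3275)

If Case (I) fails then `C_G(π) = ⟨π⟩`, `N_G(⟨π⟩) = ⟨π⟩⟨τ⟩` with `τ` of even order `d ∣ p - 1`
swapping the two `⟨π⟩`-orbits; odd powers of `τ` are fixed-point-free and the even powers
`≠ 1` have exactly two fixed points.
-/

set_option autoImplicit false
set_option linter.unusedSectionVars false
set_option linter.style.haveILetI false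

namespace Cfsg.Agent.Lib.Helper29.W2p
open Cfsg.Agent.Lib.Helper12.W2p

variable {α : Type*} [Fintype α] [DecidableEq α] {p : ℕ} {G : Subgroup (Equiv.Perm α)}

theorem centralizer_le_normalizer' {π c : ↥G} (hc : c * π = π * c) :
    c ∈ Subgroup.normalizer (Subgroup.zpowers π : Set ↥G) := by
  rw [mem_normalizer_iff']
  have : c * π * c⁻¹ = π := by rw [hc]; group
  rw [this]
  exact Subgroup.mem_zpowers π

/-- an element commuting with `π` and fixing a point is trivial -/
theorem eq_one_of_comm_of_fix (h : Ctx p G) {π c : ↥G} (hπ : orderOf π = p)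
    (hc : c * π = π * c) {a : α} (ha : c • a = a) : c = 1 := by
  apply eq_one_of_fix h _ ha
  have hcN := centralizer_le_normalizer' hc
  have horb : ∀ y, Orb π y (c • y) :=
    orb_smul_self_of_orb h hπ hcN (by rw [ha]; exact orb_refl π a)
  have hcomm : ∀ (v : ℕ) (y : α), c • ((π ^ v) • y) = (π ^ v) • (c • y) := by
    intro v y
    have h1 : Commute c (π ^ v) := (show Commute c π from hc).pow_right v
    rw [← mul_smul, ← mul_smul, h1.eq]
  apply Subtype.ext
  apply Equiv.ext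
  intro x
  show (c ^ p) • x = x
  obtain ⟨u, hu⟩ := horb x
  have hpow : ∀ m : ℕ, (c ^ m) • x = (π ^ (u * m)) • x := by
    intro m
    induction m with
    | zero => simp
    | succ m ih =>
      rw [pow_succ', mul_smul, ih, hcomm, hu, ← mul_smul, ← pow_add]
      have e : u * m + u = u * (m + 1) := by ring
      rw [e]
  rw [hpow p, pow_mul, pow_right_comm, ← hπ, pow_orderOf_eq_one, one_pow, one_smul]

/-- MODULE [IIA] -/
theorem caseII_struct {G : Subgroup (Equiv.Perm α)} (h : Ctx p G) (π : ↥G)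
    (hπ : orderOf π = p) (a : α) (hII : ¬ CaseI G π a) :
    ∃ (τ : ↥G) (d m : ℕ), τ * π * τ⁻¹ ∈ Subgroup.zpowers π ∧ orderOf τ = d ∧ Even d ∧
      p - 1 = d * m ∧ (∀ j : ℕ, Odd j → ∀ x : α, (τ ^ j) • x ≠ x) ∧
      (∀ j : ℕ, Even j → ¬ d ∣ j →
        (Finset.univ.filter fun x : α => (τ ^ j) • x = x).card = 2) ∧
      (∀ c : ↥G, c * π = π * c → c ∈ Subgroup.zpowers π) ∧
      (∀ n : ↥G, n * π * n⁻¹ ∈ Subgroup.zpowers π → ∃ i j : ℕ, n = π ^ i * τ ^ j) ∧
      (∀ (x : α) (j : ℕ), τ • x ≠ (π ^ j) • x) := by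
  haveI := Fact.mk h.hp
  unfold CaseI at hII
  push Not at hII
  obtain ⟨n₁, hn₁, hn₁c⟩ := hII
  have hn₁N : n₁ ∈ Subgroup.normalizer (Subgroup.zpowers π : Set ↥G) :=
    mem_normalizer_iff'.2 hn₁
  have hn₁a : ¬ Orb π a (n₁ • a) := by
    rintro ⟨j, hj⟩
    exact hn₁c 1 (by simp) j (by rw [mul_one]; exact hj)
  -- (i) the centralizer preserves the orbit of `a`
  have hC_orb : ∀ c : ↥G, c * π = π * c → Orb π a (c • a) := by
    intro c hc
    by_contra hca
    have h1 := (swap_of_not_orb h hπ hn₁N hn₁a (c • a)).2 hca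
    obtain ⟨j, hj⟩ := h1
    exact hn₁c c hc j (by rw [mul_smul]; exact hj)
  -- (ii) `C = ⟨π⟩`
  have hCP : ∀ c : ↥G, c * π = π * c → c ∈ Subgroup.zpowers π := by
    intro c hc
    obtain ⟨t, ht⟩ := hC_orb c hc
    have h1 : ((π ^ t)⁻¹ * c) • a = a := by
      rw [mul_smul, ht, inv_smul_smul]
    have h2 : ((π ^ t)⁻¹ * c) * π = π * ((π ^ t)⁻¹ * c) := by
      have e1 : Commute (π ^ t)⁻¹ π := ((Commute.refl π).pow_left t).inv_left
      have e2 : Commute c π := hc
      exact (e1.mul_left e2).eq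
    have h3 := eq_one_of_comm_of_fix h hπ h2 h1
    have h4 : c = π ^ t := by
      have := congrArg (fun g => π ^ t * g) h3
      simpa using this
    rw [h4]
    exact Subgroup.pow_mem _ (Subgroup.mem_zpowers π) t
  -- (iii) the generator
  obtain ⟨n₀, hn₀N, hn₀ord, hn₀gen⟩ := exists_gen h hπ
  set d : ℕ := (Subgroup.centralizer (Subgroup.zpowers π : Set ↥G)).relIndex
    (Subgroup.normalizer (Subgroup.zpowers π : Set ↥G)) with hd
  set τ : ↥G := n₀ ^ p with hτ
  have hτN : τ ∈ Subgroup.normalizer (Subgroup.zpowers π : Set ↥G) :=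
    Subgroup.pow_mem _ hn₀N p
  have hexτ : ex p π τ = ex p π n₀ := by
    rw [hτ, ex_pow hπ hn₀N, ZMod.pow_card]
  have hexτpow : ∀ j : ℕ, ex p π (τ ^ j) = ex p π n₀ ^ j := by
    intro j; rw [ex_pow hπ hτN, hexτ]
  have hex_ne : ∀ n ∈ Subgroup.normalizer (Subgroup.zpowers π : Set ↥G), ex p π n ≠ 0 := by
    intro n hn h0
    have h1 := ex_mul hπ hn (Subgroup.inv_mem _ hn)
    rw [mul_inv_cancel, ex_one hπ, h0, zero_mul] at h1
    exact one_ne_zero h1
  have hmemP : ∀ n ∈ Subgroup.normalizer (Subgroup.zpowers π : Set ↥G), ex p π n = 1 →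
      n ∈ Subgroup.zpowers π := fun n hn h1 => hCP n ((ex_eq_one_iff h hπ hn).1 h1)
  have hτd : τ ^ d = 1 := by
    have h1 : τ ^ d = (n₀ ^ d) ^ p := by rw [hτ, ← pow_mul, ← pow_mul, mul_comm]
    rw [h1]
    apply pow_prime_eq_one_of_mem_zpowers hπ
    apply hmemP _ (Subgroup.pow_mem _ hn₀N d)
    rw [ex_pow hπ hn₀N, ← hn₀ord, pow_orderOf_eq_one]
  have hτord : orderOf τ = d := by
    apply Nat.dvd_antisymm (orderOf_dvd_of_pow_eq_one hτd)
    rw [← hn₀ord, orderOf_dvd_iff_pow_eq_one, ← hexτpow, pow_orderOf_eq_one, ex_one hπ]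
  have hdvd : d ∣ p - 1 := by
    rw [← hn₀ord, orderOf_dvd_iff_pow_eq_one]
    exact ZMod.pow_card_sub_one_eq_one (hex_ne n₀ hn₀N)
  obtain ⟨m, hm⟩ := hdvd
  have hNP : ∀ n : ↥G, n * π * n⁻¹ ∈ Subgroup.zpowers π → ∃ i j : ℕ, n = π ^ i * τ ^ j := by
    intro n hn
    have hnN := mem_normalizer_iff'.2 hn
    obtain ⟨j, hj⟩ := hn₀gen n hnN
    have hτjN : τ ^ j ∈ Subgroup.normalizer (Subgroup.zpowers π : Set ↥G) :=
      Subgroup.pow_mem _ hτN j
    have hcN : n * (τ ^ j)⁻¹ ∈ Subgroup.normalizer (Subgroup.zpowers π : Set ↥G) :=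
      Subgroup.mul_mem _ hnN (Subgroup.inv_mem _ hτjN)
    have h1 : ex p π (n * (τ ^ j)⁻¹) * ex p π (τ ^ j) = ex p π n := by
      rw [← ex_mul hπ hcN hτjN, inv_mul_cancel_right]
    rw [hexτpow, hj] at h1
    have h2 : ex p π (n * (τ ^ j)⁻¹) = 1 := by
      have hne : ex p π n₀ ^ j ≠ 0 := pow_ne_zero _ (hex_ne n₀ hn₀N)
      exact mul_right_cancel₀ hne (by rw [h1, one_mul])
    obtain ⟨i, hi⟩ := exists_pow_of_mem_zpowers (hmemP _ hcN h2)
    refine ⟨i, j, ?_⟩
    rw [← hi, inv_mul_cancel_right]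
  -- (iv) `τ` swaps the two orbits
  have hτa : ¬ Orb π a (τ • a) := by
    intro hcon
    have hpres : ∀ y, Orb π y (τ • y) := orb_smul_self_of_orb h hπ hτN hcon
    have hpow : ∀ j : ℕ, Orb π a ((τ ^ j) • a) := by
      intro j
      induction j with
      | zero => rw [pow_zero, one_smul]; exact orb_refl π a
      | succ j ih =>
        rw [pow_succ', mul_smul]
        exact orb_trans ih (hpres _)
    obtain ⟨i, j, hij⟩ := hNP n₁ hn₁
    apply hn₁a
    rw [hij, mul_smul]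
    exact orb_trans (hpow j) (orb_pow_smul π _ i)
  have hflip : ∀ y, Orb π a (τ • y) ↔ ¬ Orb π a y := swap_of_not_orb h hπ hτN hτa
  have hflip_pow : ∀ (j : ℕ) (y : α), Orb π a ((τ ^ j) • y) ↔ (Orb π a y ↔ Even j) := by
    intro j
    induction j with
    | zero => intro y; simp
    | succ j ih =>
      intro y
      rw [pow_succ', mul_smul, hflip, ih, Nat.even_add_one]
      tauto
  have hdeven : Even d := by
    have h1 := hflip_pow d a
    rw [hτd, one_smul] at h1
    exact h1.1 (orb_refl π a) |>.1 (orb_refl π a)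
  have hodd : ∀ j : ℕ, Odd j → ∀ x : α, (τ ^ j) • x ≠ x := by
    intro j hj x hx
    have h1 := hflip_pow j x
    rw [hx] at h1
    have h2 : ¬ Even j := Nat.not_even_iff_odd.2 hj
    tauto
  have hswap : ∀ (x : α) (j : ℕ), τ • x ≠ (π ^ j) • x := by
    intro x j hx
    have h1 : Orb π x (τ • x) := ⟨j, hx⟩
    have h2 := hflip x
    by_cases hax : Orb π a x
    · exact h2.1 (orb_trans hax h1) hax
    · exact hax (orb_trans (h2.2 hax) (orb_symm hπ h1))
  have heven : ∀ j : ℕ, Even j → ¬ d ∣ j →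
      (Finset.univ.filter fun x : α => (τ ^ j) • x = x).card = 2 := by
    intro j hj hdj
    have hgN : τ ^ j ∈ Subgroup.normalizer (Subgroup.zpowers π : Set ↥G) :=
      Subgroup.pow_mem _ hτN j
    have hgk := ex_spec h hπ hgN
    have hk1 : (((ex p π (τ ^ j)).val : ℕ) : ZMod p) ≠ 1 := by
      rw [ZMod.natCast_zmod_val, hexτpow]
      intro h1
      apply hdj
      rw [← hn₀ord, orderOf_dvd_iff_pow_eq_one]
      exact h1
    have hga : Orb π a ((τ ^ j) • a) := (hflip_pow j a).2 ⟨fun _ => hj, fun _ => orb_refl π a⟩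
    have hpres : ∀ y, Orb π y ((τ ^ j) • y) := orb_smul_self_of_orb h hπ hgN hga
    obtain ⟨b₀, hb₀⟩ := exists_not_orb h hπ a
    obtain ⟨x₁, hx₁o, hx₁⟩ := exists_fix h hπ hgk hk1 (hpres a)
    obtain ⟨x₂, hx₂o, hx₂⟩ := exists_fix h hπ hgk hk1 (hpres b₀)
    have hne : x₁ ≠ x₂ := by
      rintro rfl
      exact hb₀ (orb_trans hx₁o (orb_symm hπ hx₂o))
    have hfilter : (Finset.univ.filter fun x : α => (τ ^ j) • x = x) = {x₁, x₂} := by
      ext x
      simp only [Finset.mem_filter, Finset.mem_univ, true_and, Finset.mem_insert,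
        Finset.mem_singleton]
      constructor
      · intro hx
        by_cases hax : Orb π a x
        · left
          exact (fix_unique h hπ hgk hk1 (orb_trans (orb_symm hπ hx₁o) hax) hx₁ hx).symm
        · right
          have h1 : Orb π b₀ x := orb_of_not_orb h hπ hb₀ hax
          exact (fix_unique h hπ hgk hk1 (orb_trans (orb_symm hπ hx₂o) h1) hx₂ hx).symm
      · rintro (rfl | rfl)
        · exact hx₁
        · exact hx₂
    rw [hfilter, Finset.card_pair hne]
  exact ⟨τ, d, m, mem_normalizer_iff'.1 hτN, hτord, hdeven, hm, hodd, heven, hCP, hNP, hswap⟩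

end Cfsg.Agent.Lib.Helper29.W2p
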