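import Mathlib
import Cfsg.Agent.Lib.Helper12.W2pDefs
import Cfsg.Agent.Lib.Helper29.W2pAffine

/-!
# Wielandt `2p` (S0720), module `[W]` of helper12's project (board #3275)

In Case (I) there is `w ∈ N_G(⟨π⟩)` fixing `a` and a second point `b`, inducing on `⟨π⟩` an
automorphism `x ↦ x^k` with `k` of order `d = |N : C|` modulo `p`.
-/

set_option autoImplicit false
set_option linter.unusedSectionVars false
set_option linter.style.haveILetI false

namespace Cfsg.Agent.Lib.Helper29.W2p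
open Cfsg.Agent.Lib.Helper12.W2p

variable {α : Type*} [Fintype α] [DecidableEq α] {p : ℕ}

/-- MODULE [W] -/
theorem exists_w {G : Subgroup (Equiv.Perm α)} (h : Ctx p G) (π : ↥G) (hπ : orderOf π = p)
    (a : α) (d : ℕ)
    (hd : (Subgroup.centralizer (Subgroup.zpowers π : Set ↥G)).relIndex
      (Subgroup.normalizer (Subgroup.zpowers π : Set ↥G)) = d)
    (hI : CaseI G π a) :
    ∃ (w : ↥G) (b : α) (k : ℕ), w • a = a ∧ w • b = b ∧ b ≠ a ∧ w * π * w⁻¹ = π ^ k ∧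
      orderOf (k : ZMod p) = d := by
  haveI := Fact.mk h.hp
  obtain ⟨b₀, hb₀⟩ := exists_not_orb h hπ a
  have hb₀a : b₀ ≠ a := by
    rintro rfl
    exact hb₀ (orb_refl π _)
  by_cases hd1 : d = 1
  · refine ⟨1, b₀, 1, one_smul _ _, one_smul _ _, hb₀a, by simp, ?_⟩
    rw [hd1]; simp
  obtain ⟨n₀, hn₀N, hn₀ord, -⟩ := exists_gen h hπ
  rw [hd] at hn₀ord
  obtain ⟨c, hcπ, j, hj⟩ := hI n₀ (mem_normalizer_iff'.1 hn₀N)
  have hn₀k := ex_spec h hπ hn₀N
  set k : ℕ := (ex p π n₀).val with hk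
  have hkcast : (k : ZMod p) = ex p π n₀ := by rw [hk, ZMod.natCast_zmod_val]
  set w : ↥G := (π ^ j)⁻¹ * (n₀ * c) with hw
  have hwa : w • a = a := by
    rw [hw, mul_smul, hj, inv_smul_smul]
  have hcc : c * π * c⁻¹ = π := by rw [hcπ]; group
  have hwπ : w * π * w⁻¹ = π ^ k := by
    have h1 : w * π * w⁻¹ = (π ^ j)⁻¹ * (n₀ * (c * π * c⁻¹) * n₀⁻¹) * π ^ j := by
      rw [hw]; group
    rw [h1, hcc, hn₀k]
    have h2 : Commute (π ^ j) (π ^ k) := (Commute.refl π).pow_pow j k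
    calc (π ^ j)⁻¹ * π ^ k * π ^ j = (π ^ j)⁻¹ * (π ^ k * π ^ j) := by rw [mul_assoc]
      _ = (π ^ j)⁻¹ * (π ^ j * π ^ k) := by rw [h2.eq]
      _ = π ^ k := by rw [inv_mul_cancel_left]
  have hwN : w ∈ Subgroup.normalizer (Subgroup.zpowers π : Set ↥G) := by
    rw [mem_normalizer_iff', hwπ]
    exact Subgroup.pow_mem _ (Subgroup.mem_zpowers π) k
  have hk1 : (k : ZMod p) ≠ 1 := by
    intro h1
    rw [hkcast] at h1
    rw [h1, orderOf_one] at hn₀ord
    exact hd1 hn₀ord.symm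
  -- `w` preserves the second orbit
  have horb : Orb π b₀ (w • b₀) :=
    orb_smul_self_of_orb h hπ hwN (by rw [hwa]; exact orb_refl π a) b₀
  obtain ⟨b, hb₀b, hwb⟩ := exists_fix h hπ hwπ hk1 horb
  refine ⟨w, b, k, hwa, hwb, ?_, hwπ, ?_⟩
  · rintro rfl
    exact hb₀ (orb_symm hπ hb₀b)
  · rw [hkcast, hn₀ord]

end Cfsg.Agent.Lib.Helper29.W2p
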