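import Mathlib
import Cfsg.Prelude.Def_Characters
import Cfsg.Agent.Lib.Helper80.CharBasic
import Cfsg.Agent.Lib.Helper81.IrrTwist

/-!
# BP-[L4-E-PROD] (helper29, for helper92's Broué–Puig project)

Characters of an internal direct product `E = Q × L` (`Q` a `p`-group, `L` a `p'`-group, commuting
elementwise): a function `Φ` with `Φ (u s) = ∑ j, ν j u * ζ j s` (`ν j` generalized characters of
`Q`, `ζ j` characters of `L`) restricts to a generalized character of `E`.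
-/

set_option autoImplicit false

namespace Cfsg.Agent.Lib.Helper29.BP

open Cfsg

section Gen
variable {H : Type*} [Group H]

theorem genChar_of_char {χ : H → ℂ} (h : IsCharacter H χ) : IsGeneralizedCharacter H χ :=
  ⟨χ, 0, h, Cfsg.Agent.Lib.Helper80.isCharacter_zero, by simp⟩

theorem genChar_zero : IsGeneralizedCharacter H (0 : H → ℂ) :=
  genChar_of_char Cfsg.Agent.Lib.Helper80.isCharacter_zero

theorem genChar_add {a b : H → ℂ} (ha : IsGeneralizedCharacter H a)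
    (hb : IsGeneralizedCharacter H b) : IsGeneralizedCharacter H (a + b) := by
  obtain ⟨χ, ψ, hχ, hψ, rfl⟩ := ha
  obtain ⟨χ', ψ', hχ', hψ', rfl⟩ := hb
  exact ⟨χ + χ', ψ + ψ', Cfsg.Agent.Lib.Helper80.isCharacter_add hχ hχ',
    Cfsg.Agent.Lib.Helper80.isCharacter_add hψ hψ', by abel⟩

theorem genChar_sum {ι : Type*} (s : Finset ι) (f : ι → H → ℂ)
    (h : ∀ i ∈ s, IsGeneralizedCharacter H (f i)) : IsGeneralizedCharacter H (∑ i ∈ s, f i) := by
  classical
  induction s using Finset.induction_on with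
  | empty => simpa using genChar_zero
  | insert a s ha ih =>
    rw [Finset.sum_insert ha]
    exact genChar_add (h a (Finset.mem_insert_self a s))
      (ih fun i hi => h i (Finset.mem_insert_of_mem hi))

theorem genChar_mul_char {a ζ : H → ℂ} (ha : IsGeneralizedCharacter H a)
    (hζ : IsCharacter H ζ) : IsGeneralizedCharacter H (a * ζ) := by
  obtain ⟨χ, ψ, hχ, hψ, rfl⟩ := ha
  exact ⟨χ * ζ, ψ * ζ, Cfsg.Agent.Lib.Helper80.isCharacter_mul hχ hζ,
    Cfsg.Agent.Lib.Helper80.isCharacter_mul hψ hζ, by ring⟩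

theorem genChar_comp {K : Type*} [Group K] {a : H → ℂ} (ha : IsGeneralizedCharacter H a)
    (φ : K →* H) : IsGeneralizedCharacter K (a ∘ φ) := by
  obtain ⟨χ, ψ, hχ, hψ, rfl⟩ := ha
  exact ⟨χ ∘ φ, ψ ∘ φ, Cfsg.Agent.Lib.Helper81.isCharacter_comp hχ φ,
    Cfsg.Agent.Lib.Helper81.isCharacter_comp hψ φ, by ext x; simp⟩

end Gen

variable {G : Type*} [Group G] [Finite G]

omit [Finite G] in
/-- a `p`-subgroup meets a subgroup without `p`-singular elements trivially -/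
theorem eq_one_of_mem_pgroup_of_mem_pprime {p : ℕ} [Fact p.Prime] {Q L : Subgroup G}
    (hQ : IsPGroup p Q) (hL : ∀ s ∈ L, ¬ p ∣ orderOf s) {x : G} (hxQ : x ∈ Q) (hxL : x ∈ L) :
    x = 1 := by
  obtain ⟨k, hk⟩ := (IsPGroup.iff_orderOf.1 hQ) ⟨x, hxQ⟩
  have hk' : orderOf x = p ^ k := by
    rw [← hk]; exact (Subgroup.orderOf_mk x hxQ).symm
  have hnd := hL x hxL
  rcases Nat.eq_zero_or_pos k with h0 | hpos
  · rw [h0, pow_zero] at hk'
    exact orderOf_eq_one_iff.1 hk'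
  · exfalso; apply hnd; rw [hk']; exact dvd_pow_self p hpos.ne'

/-- BP-[L4-E-PROD] : characters of an internal direct product `E = Q × L`
(exact statement of helper92's `BP_SKEL4`) -/
theorem isGeneralizedCharacter_of_prod {p : ℕ} [Fact p.Prime] {E Q L : Subgroup G} (hQE : Q ≤ E)
    (hLE : L ≤ E) (hQ : IsPGroup p Q) (hL : ∀ s ∈ L, ¬ p ∣ orderOf s)
    (hcomm : ∀ u ∈ Q, ∀ s ∈ L, u * s = s * u) (hgen : ∀ g ∈ E, ∃ u ∈ Q, ∃ s ∈ L, g = u * s)
    {Φ : G → ℂ} {ι : Type*} (J : Finset ι) (ν : ι → Q → ℂ) (ζ : ι → L → ℂ)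
    (hν : ∀ j ∈ J, IsGeneralizedCharacter Q (ν j)) (hζ : ∀ j ∈ J, IsCharacter L (ζ j))
    (hΦ : ∀ (u : Q) (s : L), Φ ((u : G) * (s : G)) = ∑ j ∈ J, ν j u * ζ j s) :
    IsGeneralizedCharacter E (fun e : E => Φ e) := by
  -- the multiplication map `Q × L → E`
  let f : ↥Q × ↥L →* ↥E :=
    { toFun := fun x => ⟨(x.1 : G) * (x.2 : G), E.mul_mem (hQE x.1.2) (hLE x.2.2)⟩
      map_one' := by ext; simp
      map_mul' := by
        rintro ⟨u, s⟩ ⟨u', s'⟩
        ext
        simp only [Prod.mk_mul_mk, Subgroup.coe_mul]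
        have h := hcomm (u' : G) u'.2 (s : G) s.2
        calc (u : G) * u' * (s * s') = u * (u' * s) * s' := by group
          _ = u * (s * u') * s' := by rw [h]
          _ = u * s * (u' * s') := by group }
  have hf_apply : ∀ x : ↥Q × ↥L, ((f x : ↥E) : G) = (x.1 : G) * (x.2 : G) := fun _ => rfl
  have hinj : Function.Injective f := by
    rintro ⟨u, s⟩ ⟨u', s'⟩ h
    have h1 : (u : G) * s = u' * s' := by
      have := congrArg (fun e : ↥E => (e : G)) h
      simpa [hf_apply] using this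
    -- u'⁻¹ u = s' s⁻¹ ∈ Q ∩ L
    have h2 : (u' : G)⁻¹ * u = s' * (s : G)⁻¹ := by
      calc (u' : G)⁻¹ * u = (u' : G)⁻¹ * (u * s) * (s : G)⁻¹ := by group
        _ = (u' : G)⁻¹ * (u' * s') * (s : G)⁻¹ := by rw [h1]
        _ = s' * (s : G)⁻¹ := by group
    have h3 : (u' : G)⁻¹ * u = 1 :=
      eq_one_of_mem_pgroup_of_mem_pprime hQ hL (Q.mul_mem (Q.inv_mem u'.2) u.2)
        (by rw [h2]; exact L.mul_mem s'.2 (L.inv_mem s.2))
    have h4 : (u : G) = u' := by
      have := inv_mul_eq_one.1 h3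
      exact this.symm
    have h5 : (s : G) = s' := by
      rw [h4] at h1; exact mul_left_cancel h1
    exact Prod.ext (Subtype.ext h4) (Subtype.ext h5)
  have hsurj : Function.Surjective f := by
    rintro ⟨g, hg⟩
    obtain ⟨u, hu, s, hs, hus⟩ := hgen g hg
    exact ⟨(⟨u, hu⟩, ⟨s, hs⟩), Subtype.ext hus.symm⟩
  let e : ↥Q × ↥L ≃* ↥E := MulEquiv.ofBijective f ⟨hinj, hsurj⟩
  let πQ : ↥E →* ↥Q := (MonoidHom.fst ↥Q ↥L).comp e.symm.toMonoidHom
  let πL : ↥E →* ↥L := (MonoidHom.snd ↥Q ↥L).comp e.symm.toMonoidHom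
  have hdecomp : ∀ x : ↥E, (x : G) = (πQ x : G) * (πL x : G) := by
    intro x
    have h1 : f (e.symm x) = x := e.apply_symm_apply x
    have h2 := hf_apply (e.symm x)
    rw [h1] at h2
    exact h2
  have hfun : (fun x : ↥E => Φ x) = ∑ j ∈ J, (ν j ∘ πQ) * (ζ j ∘ πL) := by
    funext x
    rw [hdecomp x, hΦ (πQ x) (πL x)]
    simp [Finset.sum_apply]
  rw [hfun]
  refine genChar_sum J _ (fun j hj => ?_)
  exact genChar_mul_char (genChar_comp (hν j hj) πQ)
    (Cfsg.Agent.Lib.Helper81.isCharacter_comp (hζ j hj) πL)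

end Cfsg.Agent.Lib.Helper29.BP
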