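import Mathlib
import Cfsg.Prelude.Def_Characters

/-!
# BP-[L4-E-STR] (helper29, for helper92's Broué–Puig project)

An `r`-elementary group `E` (Prelude `IsElementary r E`: a central element `x` of order prime to `r`
with `⟨x⟩` of `r`-power index) is, for ANY prime `p`, a product `Q L` of a `p`-subgroup `Q` and a
subgroup `L` without elements of order divisible by `p`, commuting elementwise.
-/

set_option autoImplicit false

namespace Cfsg.Agent.Lib.Helper29.BP

open Cfsg
open scoped Pointwise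

section TypeLevel
variable {E : Type*} [Group E] [Finite E]

/-- `E = R ⟨x⟩` for a Sylow `r`-subgroup `R` when `⟨x⟩` has `r`-power index -/
theorem exists_mul_of_index_pow {r : ℕ} [Fact r.Prime] (R : Sylow r E) {x : E}
    (hxc : x ∈ Subgroup.center E) {k : ℕ} (hk : (Subgroup.zpowers x).index = r ^ k) (g : E) :
    ∃ a ∈ (R : Subgroup E), ∃ b ∈ Subgroup.zpowers x, g = a * b := by
  have hr : r.Prime := Fact.out
  have hZc : Subgroup.zpowers x ≤ Subgroup.center E := Subgroup.zpowers_le.2 hxc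
  have : (Subgroup.zpowers x).Normal :=
    ⟨fun n hn g => by
      have : n ∈ Subgroup.center E := hZc hn
      have h2 : g * n * g⁻¹ = n := by
        rw [Subgroup.mem_center_iff] at this
        rw [this g]; group
      rw [h2]; exact hn⟩
  have hW : (R : Subgroup E) ⊔ Subgroup.zpowers x = ⊤ := by
    rw [← Subgroup.index_eq_one]
    have h1 : ((R : Subgroup E) ⊔ Subgroup.zpowers x).index ∣ r ^ k := by
      rw [← hk]; exact Subgroup.index_dvd_of_le le_sup_right
    have h2 : ((R : Subgroup E) ⊔ Subgroup.zpowers x).index ∣ (R : Subgroup E).index :=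
      Subgroup.index_dvd_of_le le_sup_left
    obtain ⟨j, _, hj⟩ := (Nat.dvd_prime_pow hr).1 h1
    rcases Nat.eq_zero_or_pos j with h0 | hpos
    · rw [hj, h0, pow_zero]
    · exfalso
      have : r ∣ (R : Subgroup E).index := by
        refine dvd_trans ?_ h2
        rw [hj]; exact dvd_pow_self r hpos.ne'
      exact R.not_dvd_index this
  have hg : g ∈ ((R : Subgroup E) ⊔ Subgroup.zpowers x : Subgroup E) := by rw [hW]; trivial
  have hset : g ∈ ((R : Subgroup E) : Set E) * (Subgroup.zpowers x : Set E) := by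
    rw [← Subgroup.mul_normal]; exact hg
  obtain ⟨a, ha, b, hb, hab⟩ := Set.mem_mul.1 hset
  exact ⟨a, ha, b, hb, hab.symm⟩

/-- type-level version of BP-[L4-E-STR] -/
theorem exists_p_decomp_of_isElementary_type (p : ℕ) [Fact p.Prime] (r : ℕ) (hr : r.Prime)
    (hE : IsElementary r E) :
    ∃ Q L : Subgroup E, IsPGroup p Q ∧ (∀ s ∈ L, ¬ p ∣ orderOf s) ∧
      (∀ u ∈ Q, ∀ s ∈ L, u * s = s * u) ∧ ∀ g : E, ∃ u ∈ Q, ∃ s ∈ L, g = u * s := by
  have hp : p.Prime := Fact.out
  haveI : Fact r.Prime := ⟨hr⟩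
  obtain ⟨x, hxc, hcop, k, hk⟩ := hE
  have hZc : Subgroup.zpowers x ≤ Subgroup.center E := Subgroup.zpowers_le.2 hxc
  obtain ⟨R⟩ : Nonempty (Sylow r E) := inferInstance
  have hK := exists_mul_of_index_pow R hxc hk
  by_cases hpr : p = r
  · subst hpr
    refine ⟨(R : Subgroup E), Subgroup.zpowers x, R.isPGroup', ?_, ?_, ?_⟩
    · intro s hs hdvd
      have h1 : orderOf s ∣ orderOf x := orderOf_dvd_of_mem_zpowers hs
      have h2 : p ∣ orderOf x := dvd_trans hdvd h1
      have h3 : p ∣ Nat.gcd (orderOf x) p := Nat.dvd_gcd h2 dvd_rfl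
      rw [hcop] at h3
      exact hp.one_lt.ne' (Nat.dvd_one.1 h3)
    · intro u _ s hs
      have := hZc hs
      rw [Subgroup.mem_center_iff] at this
      exact this u
    · intro g
      obtain ⟨a, ha, b, hb, hab⟩ := hK g
      exact ⟨a, ha, b, hb, hab⟩
  · -- p ≠ r
    set n := orderOf x with hn
    have hn0 : n ≠ 0 := (orderOf_pos x).ne'
    set P := ordProj[p] n with hP
    set m := ordCompl[p] n with hm
    have hPm : P * m = n := Nat.ordProj_mul_ordCompl_eq_self n p
    have hcopPm : Nat.Coprime P m := by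
      rw [hP]
      exact Nat.Coprime.pow_left _ (Nat.coprime_ordCompl hp hn0)
    have hm0 : m ≠ 0 := by
      intro h; rw [h, mul_zero] at hPm; exact hn0 hPm.symm
    have hP0 : P ≠ 0 := by
      intro h; rw [h, zero_mul] at hPm; exact hn0 hPm.symm
    have hord_m : orderOf (x ^ m) = P := by
      rw [orderOf_pow_of_dvd hm0 ⟨P, by rw [← hn, ← hPm, mul_comm]⟩, ← hn, ← hPm]
      exact Nat.mul_div_cancel _ (Nat.pos_of_ne_zero hm0)
    have hord_P : orderOf (x ^ P) = m := by
      rw [orderOf_pow_of_dvd hP0 ⟨m, by rw [← hn, ← hPm]⟩, ← hn, ← hPm]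
      exact Nat.mul_div_cancel_left _ (Nat.pos_of_ne_zero hP0)
    have hxmZ : x ^ m ∈ Subgroup.zpowers x := Subgroup.pow_mem _ (Subgroup.mem_zpowers x) _
    have hxPZ : x ^ P ∈ Subgroup.zpowers x := Subgroup.pow_mem _ (Subgroup.mem_zpowers x) _
    have hxPc : x ^ P ∈ Subgroup.center E := hZc hxPZ
    have : (Subgroup.zpowers (x ^ P)).Normal :=
      ⟨fun y hy g => by
        have : y ∈ Subgroup.center E := (Subgroup.zpowers_le.2 hxPc) hy
        have h2 : g * y * g⁻¹ = y := by
          rw [Subgroup.mem_center_iff] at this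
          rw [this g]; group
        rw [h2]; exact hy⟩
    refine ⟨Subgroup.zpowers (x ^ m), (R : Subgroup E) ⊔ Subgroup.zpowers (x ^ P), ?_, ?_, ?_, ?_⟩
    · -- Q is a p-group
      refine IsPGroup.of_card (n := n.factorization p) ?_
      rw [Nat.card_zpowers, hord_m]
    · -- L has no elements of order divisible by p
      intro s hs hdvd
      have hset : s ∈ ((R : Subgroup E) : Set E) * (Subgroup.zpowers (x ^ P) : Set E) := by
        rw [← Subgroup.mul_normal]; exact hs
      obtain ⟨a, ha, b, hb, hab⟩ := Set.mem_mul.1 hset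
      have hbc : b ∈ Subgroup.center E := (Subgroup.zpowers_le.2 hxPc) hb
      have hcomm : Commute a b := by
        rw [Subgroup.mem_center_iff] at hbc
        exact hbc a
      have h1 : orderOf s ∣ Nat.lcm (orderOf a) (orderOf b) := by
        rw [← hab]; exact hcomm.orderOf_mul_dvd_lcm
      have h2 : p ∣ Nat.lcm (orderOf a) (orderOf b) := dvd_trans hdvd h1
      have h3 : p ∣ orderOf a * orderOf b := dvd_trans h2 (Nat.lcm_dvd_mul _ _)
      rcases (Nat.Prime.dvd_mul hp).1 h3 with h4 | h4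
      · -- orderOf a is a power of r
        obtain ⟨j, hj⟩ := (IsPGroup.iff_orderOf.1 R.isPGroup') ⟨a, ha⟩
        have hj' : orderOf a = r ^ j := by
          rw [← hj]; exact (Subgroup.orderOf_mk a ha).symm
        rw [hj'] at h4
        have := (Nat.prime_dvd_prime_iff_eq hp hr).1 (hp.dvd_of_dvd_pow h4)
        exact hpr this
      · have h5 : orderOf b ∣ m := by
          rw [← hord_P]; exact orderOf_dvd_of_mem_zpowers hb
        have h6 : p ∣ m := dvd_trans h4 h5
        exact (Nat.not_dvd_ordCompl hp hn0) h6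
    · intro u hu s _
      have huc : u ∈ Subgroup.center E := hZc ((Subgroup.zpowers_le.2 hxmZ) hu)
      rw [Subgroup.mem_center_iff] at huc
      exact (huc s).symm
    · intro g
      obtain ⟨a, ha, b, hb, hab⟩ := hK g
      obtain ⟨i, hi⟩ := Subgroup.mem_zpowers_iff.1 hb
      obtain ⟨c, d, hcd⟩ := (Nat.isCoprime_iff_coprime.2 hcopPm)
      -- c * P + d * m = 1
      have hx1 : x ^ i = (x ^ m) ^ (d * i) * (x ^ P) ^ (c * i) := by
        have e1 : (x ^ m) ^ (d * i) = x ^ ((m : ℤ) * (d * i)) := by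
          rw [← zpow_natCast x m, ← zpow_mul]
        have e2 : (x ^ P) ^ (c * i) = x ^ ((P : ℤ) * (c * i)) := by
          rw [← zpow_natCast x P, ← zpow_mul]
        rw [e1, e2, ← zpow_add]
        congr 1
        have : (c * (P : ℤ) + d * (m : ℤ)) * i = i := by rw [hcd, one_mul]
        linarith [this]
      have hu : (x ^ m) ^ (d * i) ∈ Subgroup.zpowers (x ^ m) :=
        Subgroup.zpow_mem _ (Subgroup.mem_zpowers _) _
      have huc : (x ^ m) ^ (d * i) ∈ Subgroup.center E :=
        hZc ((Subgroup.zpowers_le.2 hxmZ) hu)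
      refine ⟨(x ^ m) ^ (d * i), hu, a * (x ^ P) ^ (c * i), ?_, ?_⟩
      · exact Subgroup.mul_mem _ (Subgroup.mem_sup_left ha)
          (Subgroup.mem_sup_right (Subgroup.zpow_mem _ (Subgroup.mem_zpowers _) _))
      · rw [hab, ← hi, hx1]
        rw [Subgroup.mem_center_iff] at huc
        rw [← mul_assoc, ← mul_assoc, huc a]

end TypeLevel

/-- BP-[L4-E-STR] : an elementary group is (a `p`-subgroup) × (a `p'`-subgroup), for ANY prime `p`
(exact statement of helper92's `BP_SKEL4`) -/
theorem exists_p_decomp_of_isElementary {G : Type*} [Group G] [Finite G] (p : ℕ) [Fact p.Prime]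
    (E : Subgroup G) (r : ℕ) (hr : r.Prime) (hE : IsElementary r E) :
    ∃ Q L : Subgroup G, Q ≤ E ∧ L ≤ E ∧ IsPGroup p Q ∧ (∀ s ∈ L, ¬ p ∣ orderOf s) ∧
      (∀ u ∈ Q, ∀ s ∈ L, u * s = s * u) ∧ ∀ g ∈ E, ∃ u ∈ Q, ∃ s ∈ L, g = u * s := by
  obtain ⟨Q, L, hQ, hL, hcomm, hgen⟩ := exists_p_decomp_of_isElementary_type p r hr hE
  refine ⟨Q.map E.subtype, L.map E.subtype, ?_, ?_, ?_, ?_, ?_, ?_⟩
  · rintro _ ⟨y, _, rfl⟩; exact y.2
  · rintro _ ⟨y, _, rfl⟩; exact y.2
  · exact hQ.map E.subtype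
  · rintro _ ⟨y, hy, rfl⟩
    have : orderOf (E.subtype y) = orderOf y := orderOf_injective E.subtype E.subtype_injective y
    rw [this]; exact hL y hy
  · rintro _ ⟨u, hu, rfl⟩ _ ⟨s, hs, rfl⟩
    have := hcomm u hu s hs
    have h2 := congrArg E.subtype this
    simpa using h2
  · intro g hg
    obtain ⟨u, hu, s, hs, hus⟩ := hgen ⟨g, hg⟩
    refine ⟨E.subtype u, ⟨u, hu, rfl⟩, E.subtype s, ⟨s, hs, rfl⟩, ?_⟩
    have h2 := congrArg E.subtype hus
    simpa using h2

end Cfsg.Agent.Lib.Helper29.BP
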