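import Mathlib

/-!
# BP-[L4-E-ARITH] (helper29, for helper92's Broué–Puig project)

`int_of_coprime_mul`: a complex number `n` with `m * n ∈ ℤ` (`m ≠ 0`) and `q * n` an algebraic
integer, `m`, `q` coprime, is an integer.  (The stub without `m ≠ 0` is false: `m = 0`, `q = 1`,
`n = √2`.)
-/

set_option autoImplicit false

namespace Cfsg.Agent.Lib.Helper29.BP

/-- a rational number which is an algebraic integer (inside `ℂ`) is an integer -/
theorem exists_int_of_isIntegral_ratCast {r : ℚ} (h : IsIntegral ℤ ((r : ℂ))) :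
    ∃ c : ℤ, (c : ℚ) = r := by
  have h1 : IsIntegral ℤ r := by
    have : (algebraMap ℚ ℂ) r = (r : ℂ) := rfl
    rw [← this] at h
    exact (isIntegral_algebraMap_iff (algebraMap ℚ ℂ).injective).1 h
  obtain ⟨c, hc⟩ := IsIntegrallyClosed.isIntegral_iff.1 h1
  exact ⟨c, by simpa using hc⟩

/-- BP-[L4-E-ARITH] -/
theorem int_of_coprime_mul {n : ℂ} {m q : ℕ} (hm0 : m ≠ 0) (hmq : Nat.Coprime m q)
    (hm : ∃ a : ℤ, (m : ℂ) * n = a) (hq : IsIntegral ℤ ((q : ℂ) * n)) : ∃ b : ℤ, n = b := by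
  obtain ⟨a, ha⟩ := hm
  have hmC : (m : ℂ) ≠ 0 := by exact_mod_cast hm0
  have hn : n = (((a : ℚ) / (m : ℚ) : ℚ) : ℂ) := by
    push_cast
    field_simp
    rw [mul_comm]; exact ha
  have hqn : (q : ℂ) * n = ((((q : ℚ) * a / m : ℚ)) : ℂ) := by
    rw [hn]; push_cast; ring
  rw [hqn] at hq
  obtain ⟨c, hc⟩ := exists_int_of_isIntegral_ratCast hq
  -- c * m = q * a in ℤ
  have hmQ : (m : ℚ) ≠ 0 := by exact_mod_cast hm0
  have h2 : (c : ℚ) * m = (q : ℚ) * a := by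
    rw [hc]; field_simp
  have h3 : c * (m : ℤ) = (q : ℤ) * a := by exact_mod_cast h2
  have hdvd : (m : ℤ) ∣ (q : ℤ) * a := ⟨c, by rw [← h3]; ring⟩
  have hcop : IsCoprime (m : ℤ) (q : ℤ) := Nat.isCoprime_iff_coprime.2 hmq
  obtain ⟨b, hb⟩ := hcop.dvd_of_dvd_mul_left hdvd
  refine ⟨b, ?_⟩
  rw [hn, hb]
  push_cast
  field_simp

end Cfsg.Agent.Lib.Helper29.BP
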