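import Mathlib
import Cfsg.Prelude.Def_Characters
import Cfsg.Agent.Lib.Helper78.CharOrtho

/-!
# S4707 module `[GO]` (helper92's project, board #4190): generalized orthogonality relation
-/

set_option autoImplicit false

namespace Cfsg.Agent.Lib.Helper29.S4707
open Cfsg Cfsg.Agent.Lib.Helper78

open Classical in
/-- MODULE [GO]: `∑ h, χ h⁻¹ * ψ (h * g) = δ_{χψ} |G| χ g / χ 1` -/
theorem gen_orthogonality {G : Type*} [Group G] [Fintype G] (χ ψ : G → ℂ)
    (hχ : IsIrrCharacter G χ) (hψ : IsIrrCharacter G ψ) (g : G) :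
    ∑ h : G, χ h⁻¹ * ψ (h * g) = if χ = ψ then (Nat.card G : ℂ) * χ g / χ 1 else 0 := by
  have hcf : IsClassFunction G (fun h => χ h⁻¹) := by
    intro a b
    have h1 := isClassFunction_irr ⟨χ, hχ⟩
    have e : (b * a * b⁻¹)⁻¹ = b * a⁻¹ * b⁻¹ := by group
    show χ (b * a * b⁻¹)⁻¹ = χ a⁻¹
    rw [e]
    exact h1 a⁻¹ b
  have horth := irr_orthogonality_inv hψ hχ
  obtain ⟨m, σ, hσ, rfl⟩ := hψ
  have hT := weightedSum_eq_smul_of_irreducible hcf σ hσ
  have hcard : (Nat.card G : ℂ) ≠ 0 := by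
    exact_mod_cast Nat.card_pos.ne'
  -- the trace computation
  have htr : ∑ h : G, χ h⁻¹ * σ.character (h * g) =
      LinearMap.trace ℂ (Fin m → ℂ) (weightedSum (fun h => χ h⁻¹) σ * σ g) := by
    unfold weightedSum
    rw [Finset.sum_mul, map_sum]
    apply Finset.sum_congr rfl
    intro h _
    rw [smul_mul_assoc, map_smul, smul_eq_mul, ← map_mul]
    rfl
  rw [htr, hT, smul_mul_assoc, map_smul, one_mul, smul_eq_mul]
  have hsum : ∑ h : G, χ h⁻¹ * σ.character h = (Nat.card G : ℂ) * (if σ.character = χ then 1 else 0) := by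
    rw [← horth, ← mul_assoc, mul_inv_cancel₀ hcard, one_mul]
    apply Finset.sum_congr rfl
    intro h _
    rw [mul_comm]
  have hdim : (Module.finrank ℂ (Fin m → ℂ) : ℂ) = σ.character 1 := by
    rw [Representation.char_one]
  rw [hsum, hdim]
  show _ * σ.character g = _
  by_cases hc : χ = σ.character
  · rw [if_pos hc, if_pos hc.symm, mul_one, hc]
    ring
  · rw [if_neg hc, if_neg (fun e => hc e.symm), mul_zero, zero_div, zero_mul]

end Cfsg.Agent.Lib.Helper29.S4707
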