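import Mathlib
import Cfsg.Prelude.Def_Transfer
import Cfsg.Prelude.Def_PLocal
import Cfsg.Agent.S0649
import Cfsg.Agent.S0650
import Cfsg.Agent.Lib.Helper11.Replacement

/-!
# Small general lemmas used by the `Z(J_e)` development (helper29)

Self-contained copies (so that this library only depends on landed `result`s and `Lib` files):
* `commutator_closure_le'`: commutators of a generated subgroup;
* `mem_image_maxEA`: ambient description of the elementary abelian subgroups of largest order;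
* `replacement_max'`: the maximality argument of Glauberman's replacement theorem.
-/

set_option autoImplicit false

namespace Cfsg.Agent.Lib.Helper29

open Cfsg Cfsg.Agent.Lib.Helper11

open scoped commutatorElement

/-- If `H = closure S` normalizes `K` and the generators commute modulo `K`, then `⁅H, H⁆ ≤ K`. -/
theorem commutator_closure_le' {G : Type*} [Group G] (S : Set G) (K : Subgroup G)
    (hK : Subgroup.closure S ≤ Subgroup.normalizer (K : Set G))
    (hS : ∀ x ∈ S, ∀ y ∈ S, ⁅x, y⁆ ∈ K) :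
    ⁅Subgroup.closure S, Subgroup.closure S⁆ ≤ K := by
  have hconj : ∀ h ∈ Subgroup.closure S, ∀ k ∈ K, h * k * h⁻¹ ∈ K := fun h hh k hk =>
    (Subgroup.mem_normalizer_iff.mp (hK hh) k).mp hk
  have step1 : ∀ x ∈ S, ∀ y ∈ Subgroup.closure S, ⁅x, y⁆ ∈ K := by
    intro x hx y hy
    refine Subgroup.closure_induction (p := fun y _ => ⁅x, y⁆ ∈ K) ?_ ?_ ?_ ?_ hy
    · intro y hy; exact hS x hx y hy
    · simp
    · intro y₁ y₂ hy₁ _ h₁ h₂
      have : ⁅x, y₁ * y₂⁆ = ⁅x, y₁⁆ * (y₁ * ⁅x, y₂⁆ * y₁⁻¹) := by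
        simp only [commutatorElement_def]; group
      rw [this]
      exact K.mul_mem h₁ (hconj y₁ hy₁ _ h₂)
    · intro y hy h
      have : ⁅x, y⁻¹⁆ = y⁻¹ * ⁅x, y⁆⁻¹ * (y⁻¹)⁻¹ := by
        simp only [commutatorElement_def]; group
      rw [this]
      exact hconj y⁻¹ (Subgroup.inv_mem _ hy) _ (K.inv_mem h)
  rw [Subgroup.commutator_le]
  intro x hx y hy
  refine Subgroup.closure_induction (p := fun x _ => ⁅x, y⁆ ∈ K) ?_ ?_ ?_ ?_ hx
  · intro x hx; exact step1 x hx y hy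
  · simp
  · intro x₁ x₂ hx₁ _ h₁ h₂
    have : ⁅x₁ * x₂, y⁆ = x₁ * ⁅x₂, y⁆ * x₁⁻¹ * ⁅x₁, y⁆ := by
      simp only [commutatorElement_def]; group
    rw [this]
    exact K.mul_mem (hconj x₁ hx₁ _ h₂) h₁
  · intro x hx h
    have : ⁅x⁻¹, y⁆ = x⁻¹ * ⁅x, y⁆⁻¹ * (x⁻¹)⁻¹ := by
      simp only [commutatorElement_def]; group
    rw [this]
    exact hconj x⁻¹ (Subgroup.inv_mem _ hx) _ (K.inv_mem h)

theorem mem_image_maxEA {S : Type*} [Group S] [Finite S] (p : ℕ)
    (D U : Subgroup S) :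
    U ∈ Set.image (fun A : Subgroup ↥D => A.map D.subtype) (maxElementaryAbelianSubgroups p ↥D) ↔
      U ≤ D ∧ IsElementaryAbelian p U ∧
        ∀ V : Subgroup S, V ≤ D → IsElementaryAbelian p V → Nat.card V ≤ Nat.card U := by
  constructor
  · rintro ⟨A, ⟨⟨hAc, hAp⟩, hAmax⟩, rfl⟩
    refine ⟨Subgroup.map_subtype_le A, ⟨inferInstance, ?_⟩, ?_⟩
    · rintro _ ⟨a, ha, rfl⟩
      have := hAp a ha
      rw [← map_pow, this, map_one]
    · intro V hVD hVe
      have h1 : Nat.card (V.subgroupOf D) = Nat.card V :=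
        Nat.card_congr (Subgroup.subgroupOfEquivOfLe hVD).toEquiv
      have hVe' : IsElementaryAbelian p (V.subgroupOf D) := by
        have := hVe.1
        refine ⟨inferInstance, ?_⟩
        intro a ha
        apply Subtype.ext
        rw [Subgroup.coe_pow, Subgroup.coe_one]
        exact hVe.2 a.1 ha
      have h2 := hAmax (V.subgroupOf D) hVe'
      rw [h1] at h2
      show Nat.card V ≤ Nat.card (A.map D.subtype)
      rw [Subgroup.card_map_of_injective D.subtype_injective]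
      exact h2
  · rintro ⟨hUD, hUe, hUmax⟩
    have hUe' : IsElementaryAbelian p (U.subgroupOf D) := by
      have := hUe.1
      refine ⟨inferInstance, ?_⟩
      intro a ha
      apply Subtype.ext
      rw [Subgroup.coe_pow, Subgroup.coe_one]
      exact hUe.2 a.1 ha
    refine ⟨U.subgroupOf D, ⟨hUe', ?_⟩, Subgroup.map_subgroupOf_eq_of_le hUD⟩
    intro B' hB'
    have h1 : Nat.card (U.subgroupOf D) = Nat.card U :=
      Nat.card_congr (Subgroup.subgroupOfEquivOfLe hUD).toEquiv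
    rw [h1, ← Subgroup.card_map_of_injective (K := B') D.subtype_injective]
    refine hUmax _ (Subgroup.map_subtype_le B') ⟨?_, ?_⟩
    · have := hB'.1
      infer_instance
    · rintro _ ⟨a, ha, rfl⟩
      have := hB'.2 a ha
      rw [← map_pow, this, map_one]

/-- A family of abelian subgroups closed under Glauberman replacement has the replacement property. -/
theorem replacement_max' {S : Type*} [Group S] [Finite S] {p : ℕ} [Fact p.Prime]
    (hS : IsPGroup p S) (𝒜 : Set (Subgroup S)) (B : Subgroup S) [B.Normal]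
    (hB2 : p = 2 → IsMulCommutative B)
    (hab : ∀ A ∈ 𝒜, IsMulCommutative A)
    (hstar : ∀ A ∈ 𝒜, ∀ b ∈ B, ⁅B, B⁆ ≤ A →
      b ∈ Subgroup.normalizer ((Subgroup.normalizer (A : Set S) : Subgroup S) : Set S) →
      b ∉ Subgroup.normalizer (A : Set S) → starA A b ∈ 𝒜)
    (hex : ∃ U ∈ 𝒜, ⁅B, B⁆ ≤ U ∧ ¬ B ≤ U) :
    ∃ A ∈ 𝒜, ⁅B, B⁆ ≤ A ∧ ¬ B ≤ A ∧ B ≤ Subgroup.normalizer (A : Set S) := by
  classical
  let 𝒞 : Set (Subgroup S) := {A | A ∈ 𝒜 ∧ ⁅B, B⁆ ≤ A ∧ ¬ B ≤ A}
  have h𝒞fin : 𝒞.Finite := Set.toFinite 𝒞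
  have h𝒞ne : 𝒞.Nonempty := by
    obtain ⟨U, hU, h1, h2⟩ := hex
    exact ⟨U, hU, h1, h2⟩
  obtain ⟨A, ⟨hA𝒜, hBA, hnBA⟩, hmax⟩ :=
    Set.exists_max_image 𝒞 (fun A => Nat.card ↥(A ⊓ B)) h𝒞fin h𝒞ne
  refine ⟨A, hA𝒜, hBA, hnBA, ?_⟩
  by_contra hnot
  have hA := hab A hA𝒜
  obtain ⟨b, hb, hbN, hbA⟩ := Cfsg.Agent.S0649.result hS B hB2 A hA hBA hnot
  have hrep := Cfsg.Agent.S0650.result hS B hB2 A hA hBA hnot b hb hbN hbA
  obtain ⟨_, _, h3, h4, h5, _⟩ := hrep
  have hmem : starA A b ∈ 𝒞 := by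
    refine ⟨hstar A hA𝒜 b hb hBA hbN hbA, h3, ?_⟩
    intro hle
    exact absurd (le_antisymm inf_le_right (le_inf hle le_rfl)) (ne_of_lt h5)
  have hcard := hmax (starA A b) hmem
  have heq : A ⊓ B = starA A b ⊓ B := Subgroup.eq_of_le_of_card_ge h4.le hcard
  exact (ne_of_lt h4) heq

end Cfsg.Agent.Lib.Helper29
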