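import Mathlib
import Cfsg.Prelude.Def_Transfer
import Cfsg.Prelude.Def_PLocal
import Cfsg.Agent.Lib.Helper29.ZJE0
import Cfsg.Agent.Lib.Helper11.ZJFam
import Cfsg.Agent.Lib.Helper97.Frattini

/-!
# The centre of the elementary-abelian Thompson subgroup: ambient API (helper29)

`EA p T` is the set of elementary abelian subgroups of `T` of largest order (as subgroups of the
ambient group), `thompsonSubgroupOf p T = sSup (EA p T)`, and `centerThompsonOf p T` is the centre of
that join.
-/

set_option autoImplicit false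

namespace Cfsg.Agent.Lib.Helper29

open Cfsg Cfsg.Agent.Lib.Helper11

universe u

variable {G : Type u} [Group G]

/-- the elementary abelian subgroups of `T` of largest order, as subgroups of the ambient group -/
abbrev EA (p : ℕ) (T : Subgroup G) : Set (Subgroup G) :=
  fam (fun A : Subgroup G => IsElementaryAbelian p A) T

theorem thompsonSubgroupOf_eq_sSup_EA [Finite G] (p : ℕ) (T : Subgroup G) :
    thompsonSubgroupOf p T = sSup (EA p T) := by
  unfold thompsonSubgroupOf thompsonSubgroup
  rw [(Subgroup.gc_map_comap T.subtype).l_sSup, ← sSup_image]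
  congr 1
  ext U
  exact mem_image_maxEA p T U

theorem EA_nonempty [Finite G] (p : ℕ) (T : Subgroup G) : (EA p T).Nonempty :=
  fam_nonempty _ (Cfsg.Agent.Lib.Helper97.isElementaryAbelian_bot p) T

theorem le_thompsonSubgroupOf_of_mem [Finite G] {p : ℕ} {T A : Subgroup G} (hA : A ∈ EA p T) :
    A ≤ thompsonSubgroupOf p T := by
  rw [thompsonSubgroupOf_eq_sSup_EA]
  exact le_sSup hA

theorem isElementaryAbelian_zpowers_of_pow {p : ℕ} {u : G} (hu : u ^ p = 1) :
    IsElementaryAbelian p (Subgroup.zpowers u) := by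
  refine ⟨inferInstance, ?_⟩
  intro a ha
  obtain ⟨k, rfl⟩ := Subgroup.mem_zpowers_iff.mp ha
  rw [← zpow_natCast, ← zpow_mul, mul_comm, zpow_mul, zpow_natCast, hu, one_zpow]

/-- an element of order dividing `p` of `T` centralizing a member of `EA p T` lies in it -/
theorem mem_of_commute_of_pow_eq_one [Finite G] {p : ℕ} {T A : Subgroup G} (hA : A ∈ EA p T)
    {u : G} (huT : u ∈ T) (hup : u ^ p = 1) (hc : ∀ a ∈ A, a * u = u * a) : u ∈ A := by
  have hZ : IsElementaryAbelian p (Subgroup.zpowers u) := isElementaryAbelian_zpowers_of_pow hup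
  have hsup : IsElementaryAbelian p (A ⊔ Subgroup.zpowers u) := by
    apply Cfsg.Agent.Lib.Helper97.isElementaryAbelian_sup hA.2.1 hZ
    intro a ha b hb
    obtain ⟨k, rfl⟩ := Subgroup.mem_zpowers_iff.mp hb
    exact ((Commute.zpow_right (hc a ha) k)).eq
  have hle : A ⊔ Subgroup.zpowers u ≤ T :=
    sup_le hA.1 ((Subgroup.zpowers_le).mpr huT)
  have hcard := hA.2.2 _ hle hsup
  have heq : A = A ⊔ Subgroup.zpowers u := Subgroup.eq_of_le_of_card_ge le_sup_left hcard
  rw [heq]
  exact Subgroup.mem_sup_right (Subgroup.mem_zpowers u)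

theorem thompsonSubgroupOf_mono_of_mem [Finite G] {p : ℕ} {P T A : Subgroup G} (hA : A ∈ EA p P)
    (hAT : A ≤ T) (hTP : T ≤ P) : thompsonSubgroupOf p T ≤ thompsonSubgroupOf p P := by
  rw [thompsonSubgroupOf_eq_sSup_EA, thompsonSubgroupOf_eq_sSup_EA]
  exact sSup_le_sSup (fam_subset_of_le hA hAT hTP)

theorem EA_eq_of_le [Finite G] {p : ℕ} {P T : Subgroup G}
    (hJ : thompsonSubgroupOf p P ≤ T) (hTP : T ≤ P) : EA p T = EA p P := by
  obtain ⟨A₀, hA₀⟩ := EA_nonempty p P
  have hA₀T : A₀ ≤ T := (le_thompsonSubgroupOf_of_mem hA₀).trans hJ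
  apply Set.Subset.antisymm
  · exact fam_subset_of_le hA₀ hA₀T hTP
  · intro A hA
    exact fam_mem_of_le hA ((le_thompsonSubgroupOf_of_mem hA).trans hJ) hTP

theorem thompsonSubgroupOf_eq_of_le [Finite G] {p : ℕ} {P T : Subgroup G}
    (hJ : thompsonSubgroupOf p P ≤ T) (hTP : T ≤ P) :
    thompsonSubgroupOf p T = thompsonSubgroupOf p P := by
  rw [thompsonSubgroupOf_eq_sSup_EA, thompsonSubgroupOf_eq_sSup_EA, EA_eq_of_le hJ hTP]

/-! ### the centre -/

theorem mem_centerThompsonOf_iff {p : ℕ} {T : Subgroup G} {x : G} :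
    x ∈ centerThompsonOf p T ↔
      x ∈ thompsonSubgroupOf p T ∧ ∀ y ∈ thompsonSubgroupOf p T, y * x = x * y := by
  unfold centerThompsonOf
  rw [Subgroup.mem_inf, Subgroup.mem_centralizer_iff]
  rfl

theorem centerThompsonOf_le_thompson (p : ℕ) (T : Subgroup G) :
    centerThompsonOf p T ≤ thompsonSubgroupOf p T := inf_le_left

theorem centerThompsonOf_le (p : ℕ) (T : Subgroup G) : centerThompsonOf p T ≤ T :=
  (centerThompsonOf_le_thompson p T).trans (Cfsg.Agent.Lib.Helper97.thompsonSubgroupOf_le p T)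

theorem centerThompsonOf_comm {p : ℕ} {T : Subgroup G} {x y : G} (hx : x ∈ centerThompsonOf p T)
    (hy : y ∈ centerThompsonOf p T) : x * y = y * x :=
  (mem_centerThompsonOf_iff.mp hy).2 x (centerThompsonOf_le_thompson p T hx)

theorem centerThompsonOf_commute_mem [Finite G] {p : ℕ} {T A : Subgroup G} (hA : A ∈ EA p T)
    {x a : G} (hx : x ∈ centerThompsonOf p T) (ha : a ∈ A) : a * x = x * a :=
  (mem_centerThompsonOf_iff.mp hx).2 a (le_thompsonSubgroupOf_of_mem hA ha)

theorem mem_centerThompsonOf_of_forall [Finite G] {p : ℕ} {T : Subgroup G} {x : G}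
    (hxJ : x ∈ thompsonSubgroupOf p T) (h : ∀ A ∈ EA p T, ∀ a ∈ A, a * x = x * a) :
    x ∈ centerThompsonOf p T := by
  rw [mem_centerThompsonOf_iff]
  refine ⟨hxJ, ?_⟩
  have hle : thompsonSubgroupOf p T ≤ Subgroup.centralizer ({x} : Set G) := by
    rw [thompsonSubgroupOf_eq_sSup_EA]
    apply sSup_le
    intro A hA a ha
    rw [Subgroup.mem_centralizer_iff]
    rintro _ rfl
    exact (h A hA a ha).symm
  intro y hy
  have := Subgroup.mem_centralizer_iff.mp (hle hy) x rfl
  exact this.symm

theorem normalizer_le_normalizer_centralizer' (H : Subgroup G) :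
    Subgroup.normalizer (H : Set G) ≤
      Subgroup.normalizer ((Subgroup.centralizer (H : Set G) : Subgroup G) : Set G) := by
  have key : ∀ m : G, m ∈ Subgroup.normalizer (H : Set G) →
      ∀ c ∈ Subgroup.centralizer (H : Set G), m * c * m⁻¹ ∈ Subgroup.centralizer (H : Set G) := by
    intro m hm c hc
    rw [Subgroup.mem_centralizer_iff] at hc ⊢
    intro h hh
    have h1 : m⁻¹ * h * m ∈ H := by
      have := (Subgroup.mem_normalizer_iff.mp (Subgroup.inv_mem _ hm) h).mp hh
      simpa using this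
    have h2 := hc _ h1
    calc h * (m * c * m⁻¹) = m * ((m⁻¹ * h * m) * c) * m⁻¹ := by group
      _ = m * (c * (m⁻¹ * h * m)) * m⁻¹ := by rw [h2]
      _ = m * c * m⁻¹ * h := by group
  intro n hn
  rw [Subgroup.mem_normalizer_iff]
  intro c
  constructor
  · exact key n hn c
  · intro hc
    have := key n⁻¹ (Subgroup.inv_mem _ hn) _ hc
    have e : n⁻¹ * (n * c * n⁻¹) * n⁻¹⁻¹ = c := by group
    rwa [e] at this

theorem normalizer_thompson_le_normalizer_center (p : ℕ) (T : Subgroup G) :
    Subgroup.normalizer (thompsonSubgroupOf p T : Set G) ≤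
      Subgroup.normalizer (centerThompsonOf p T : Set G) := by
  intro g hg
  have hg2 := normalizer_le_normalizer_centralizer' _ hg
  unfold centerThompsonOf
  rw [Subgroup.mem_normalizer_iff] at hg hg2 ⊢
  intro x
  rw [Subgroup.mem_inf, Subgroup.mem_inf, hg x, hg2 x]

theorem normalizer_le_normalizer_centerThompsonOf (p : ℕ) (T : Subgroup G) :
    Subgroup.normalizer (T : Set G) ≤ Subgroup.normalizer (centerThompsonOf p T : Set G) :=
  (Cfsg.Agent.Lib.Helper97.normalizer_le_normalizer_thompsonSubgroupOf p T).trans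
    (normalizer_thompson_le_normalizer_center p T)

theorem le_normalizer_centerThompsonOf (p : ℕ) (T : Subgroup G) :
    T ≤ Subgroup.normalizer (centerThompsonOf p T : Set G) :=
  Subgroup.le_normalizer.trans (normalizer_le_normalizer_centerThompsonOf p T)

/-- conjugating an element of the centre by an element of `T` -/
theorem conj_mem_centerThompsonOf {p : ℕ} {T : Subgroup G} {t z : G} (ht : t ∈ T)
    (hz : z ∈ centerThompsonOf p T) : t * z * t⁻¹ ∈ centerThompsonOf p T :=
  (Subgroup.mem_normalizer_iff.mp (le_normalizer_centerThompsonOf p T ht) z).mp hz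

/-- `EA` is permuted by the normalizer -/
theorem EA_conj_mem [Finite G] {p : ℕ} {T A : Subgroup G} (hA : A ∈ EA p T) {g : G}
    (hg : g ∈ Subgroup.normalizer (T : Set G)) :
    A.map (MulAut.conj g).toMonoidHom ∈ EA p T := by
  have hT : T.map (MulAut.conj g).toMonoidHom = T := Subgroup.mem_normalizer_iff_map_conj_eq.mp hg
  have := fam_map (good := fun A : Subgroup G => IsElementaryAbelian p A)
    (fun φ A h => Cfsg.Agent.Lib.Helper97.isElementaryAbelian_map φ.toMonoidHom h) (MulAut.conj g) hA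
  rwa [hT] at this

end Cfsg.Agent.Lib.Helper29
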