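import Mathlib
import Cfsg.Prelude.Def_Transfer
import Cfsg.Prelude.Def_PLocal
import Cfsg.Prelude.Def_ConjugacyFunctors
import Cfsg.Agent.Lib.Helper97.Thompson

/-!
# `Z(J_e(-))` (full centre of the elementary-abelian Thompson subgroup) as a characteristic
`p`-functor (helper29)
-/

set_option autoImplicit false

namespace Cfsg.Agent.Lib.Helper29

open Cfsg

universe u

/-- the functor `Q ↦ Z(J_e(Q))` -/
def zjeFun (p : ℕ) : ∀ (Q : Type u) [Group Q], Subgroup Q := fun Q _ =>
  thompsonSubgroup p Q ⊓ Subgroup.centralizer (thompsonSubgroup p Q : Set Q)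

theorem inducedFunctor_zjeFun {G : Type u} [Group G] (p : ℕ) (P : Subgroup G) :
    inducedFunctor (zjeFun p) P = centerThompsonOf p P := by
  unfold inducedFunctor zjeFun centerThompsonOf thompsonSubgroupOf
  ext x
  constructor
  · rintro ⟨y, hy, rfl⟩
    have hy' : y ∈ thompsonSubgroup p ↥P ⊓ Subgroup.centralizer (thompsonSubgroup p ↥P : Set ↥P) := hy
    rw [Subgroup.mem_inf] at hy' ⊢
    refine ⟨⟨y, hy'.1, rfl⟩, ?_⟩
    rw [Subgroup.mem_centralizer_iff]
    rintro _ ⟨w, hw, rfl⟩
    have := Subgroup.mem_centralizer_iff.mp hy'.2 w hw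
    have h2 := congrArg Subtype.val this
    simpa using h2
  · intro hx
    rw [Subgroup.mem_inf] at hx
    obtain ⟨⟨y, hy, rfl⟩, hc⟩ := hx
    refine ⟨y, ?_, rfl⟩
    show y ∈ thompsonSubgroup p ↥P ⊓ Subgroup.centralizer (thompsonSubgroup p ↥P : Set ↥P)
    rw [Subgroup.mem_inf]
    refine ⟨hy, ?_⟩
    rw [Subgroup.mem_centralizer_iff]
    intro w hw
    have := Subgroup.mem_centralizer_iff.mp hc (P.subtype w) ⟨w, hw, rfl⟩
    apply Subtype.ext
    simpa using this

theorem isCharPFunctor_zjeFun (p : ℕ) [Fact p.Prime] : IsCharPFunctor.{u} p (zjeFun p) := by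
  constructor
  · intro Q _ _ hQ hnt h
    -- `J(Q) ≠ ⊥`
    have hdvd : p ∣ Nat.card Q := by
      obtain ⟨n, hn⟩ := IsPGroup.iff_card.mp hQ
      rw [hn]
      have hn0 : n ≠ 0 := by
        rintro rfl
        rw [pow_zero] at hn
        have : Subsingleton Q := (Nat.card_eq_one_iff_unique.mp hn).1
        exact not_subsingleton Q this
      exact dvd_pow_self p hn0
    have hJ : thompsonSubgroup p Q ≠ ⊥ := Cfsg.Agent.Lib.Helper97.thompsonSubgroup_ne_bot hdvd
    have hJp : IsPGroup p ↥(thompsonSubgroup p Q) := hQ.to_subgroup _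
    have hJnt : Nontrivial ↥(thompsonSubgroup p Q) := (Subgroup.nontrivial_iff_ne_bot _).mpr hJ
    have hc : Nontrivial (Subgroup.center ↥(thompsonSubgroup p Q)) := hJp.center_nontrivial
    obtain ⟨⟨z, hz⟩, hz1⟩ := exists_ne (1 : Subgroup.center ↥(thompsonSubgroup p Q))
    have hmem : (z : Q) ∈ zjeFun p Q := by
      show (z : Q) ∈ thompsonSubgroup p Q ⊓ Subgroup.centralizer (thompsonSubgroup p Q : Set Q)
      rw [Subgroup.mem_inf]
      refine ⟨z.2, ?_⟩
      rw [Subgroup.mem_centralizer_iff]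
      intro w hw
      have := Subgroup.mem_center_iff.mp hz ⟨w, hw⟩
      have h2 := congrArg Subtype.val this
      simpa using h2
    rw [h, Subgroup.mem_bot] at hmem
    apply hz1
    apply Subtype.ext
    apply Subtype.ext
    simpa using hmem
  · intro Q R _ _ _ hQ φ
    show (thompsonSubgroup p Q ⊓ Subgroup.centralizer (thompsonSubgroup p Q : Set Q)).map
      φ.toMonoidHom = thompsonSubgroup p R ⊓ Subgroup.centralizer (thompsonSubgroup p R : Set R)
    have hJ := Cfsg.Agent.Lib.Helper97.thompsonSubgroup_map_equiv φ p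
    ext x
    constructor
    · rintro ⟨y, hy, rfl⟩
      rw [SetLike.mem_coe, Subgroup.mem_inf] at hy
      rw [Subgroup.mem_inf]
      refine ⟨by rw [← hJ]; exact ⟨y, hy.1, rfl⟩, ?_⟩
      rw [Subgroup.mem_centralizer_iff]
      intro w hw
      rw [← hJ] at hw
      obtain ⟨v, hv, rfl⟩ := hw
      have := Subgroup.mem_centralizer_iff.mp hy.2 v hv
      show φ v * φ y = φ y * φ v
      rw [← map_mul, ← map_mul, this]
    · intro hx
      rw [Subgroup.mem_inf] at hx
      have hx1 := hx.1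
      rw [← hJ] at hx1
      obtain ⟨y, hy, rfl⟩ := hx1
      refine ⟨y, ?_, rfl⟩
      rw [SetLike.mem_coe, Subgroup.mem_inf]
      refine ⟨hy, ?_⟩
      rw [Subgroup.mem_centralizer_iff]
      intro w hw
      have hw' : φ w ∈ thompsonSubgroup p R := by rw [← hJ]; exact ⟨w, hw, rfl⟩
      have := Subgroup.mem_centralizer_iff.mp hx.2 (φ w) hw'
      apply φ.injective
      rw [map_mul, map_mul]
      exact this

end Cfsg.Agent.Lib.Helper29
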