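import Mathlib
import Cfsg.Agent.Lib.Helper33.PStableSec
import Cfsg.Agent.Lib.Helper97.PCoreQuot
import Cfsg.Agent.Lib.Helper47.SylowLemmas

/-!
# `p`-stability (elementary form `ECN`) plus the Frattini argument (helper29)

For a normal `p`-subgroup `U` of `Y`, the full preimage `K` of `O_p(Y / C_Y(U))` contains every element
acting quadratically on `U`, and `Y = C_Y(U) N_Y(T ∩ K)` for a Sylow `p`-subgroup `T`.
-/

set_option autoImplicit false

namespace Cfsg.Agent.Lib.Helper29

open Cfsg Cfsg.Agent.Lib.Helper33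

open scoped commutatorElement

universe u

variable {Y : Type u} [Group Y]

theorem exists_stab_frattini [Finite Y] {p : ℕ} [Fact p.Prime] (hecn : ECN p Y) (T : Sylow p Y)
    (U : Subgroup Y) [hUn : U.Normal] (hU : IsPGroup p U) :
    ∃ K : Subgroup Y, K.Normal ∧ Subgroup.centralizer (U : Set Y) ≤ K ∧
      (∀ a : Y, ⁅⁅U, Subgroup.zpowers a⁆, Subgroup.zpowers a⁆ = ⊥ → a ∈ K) ∧
      K ≤ ((T : Subgroup Y) ⊓ K) ⊔ Subgroup.centralizer (U : Set Y) ∧
      Subgroup.normalizer ((((T : Subgroup Y) ⊓ K : Subgroup Y)) : Set Y) ⊔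
        Subgroup.centralizer (U : Set Y) = ⊤ ∧
      pCore p Y ≤ K := by
  have hCn : (Subgroup.centralizer (U : Set Y)).Normal := Subgroup.normal_centralizer
  have hKn : ((pCore p (Y ⧸ Subgroup.centralizer (U : Set Y))).comap
      (QuotientGroup.mk' (Subgroup.centralizer (U : Set Y)))).Normal := inferInstance
  have hCK : Subgroup.centralizer (U : Set Y) ≤
      (pCore p (Y ⧸ Subgroup.centralizer (U : Set Y))).comap
      (QuotientGroup.mk' (Subgroup.centralizer (U : Set Y))) := by
    intro c hc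
    rw [Subgroup.mem_comap, QuotientGroup.mk'_apply, (QuotientGroup.eq_one_iff c).mpr hc]
    exact one_mem _
  have hsurj := QuotientGroup.mk'_surjective (Subgroup.centralizer (U : Set Y))
  -- normal subgroups acting as `p`-groups lie in `K`
  have hsub : ∀ N : Subgroup Y, N.Normal →
      (∀ y ∈ N, ∃ k : ℕ, y ^ p ^ k ∈ Subgroup.centralizer (U : Set Y)) →
      N ≤ (pCore p (Y ⧸ Subgroup.centralizer (U : Set Y))).comap
        (QuotientGroup.mk' (Subgroup.centralizer (U : Set Y))) := by
    intro N hN hpow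
    have hNn : (N.map (QuotientGroup.mk' (Subgroup.centralizer (U : Set Y)))).Normal :=
      Subgroup.Normal.map hN _ hsurj
    have hNp : IsPGroup p (N.map (QuotientGroup.mk' (Subgroup.centralizer (U : Set Y)))) := by
      rintro ⟨_, y, hy, rfl⟩
      obtain ⟨k, hk⟩ := hpow y hy
      refine ⟨k, Subtype.ext ?_⟩
      rw [Subgroup.coe_pow, Subgroup.coe_one, ← map_pow]
      exact (QuotientGroup.eq_one_iff _).mpr hk
    intro n hn
    exact Cfsg.Agent.Lib.Helper97.le_pCore_of_normal hNn hNp (Subgroup.mem_map_of_mem _ hn)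
  have hquad : ∀ a : Y, ⁅⁅U, Subgroup.zpowers a⁆, Subgroup.zpowers a⁆ = ⊥ →
      a ∈ (pCore p (Y ⧸ Subgroup.centralizer (U : Set Y))).comap
        (QuotientGroup.mk' (Subgroup.centralizer (U : Set Y))) := by
    intro a ha
    have h1 := hecn U hUn hU a ha
    exact hsub _ Subgroup.normalClosure_normal h1
      (Subgroup.subset_normalClosure (Set.mem_singleton a))
  have hRK : pCore p Y ≤ (pCore p (Y ⧸ Subgroup.centralizer (U : Set Y))).comap
      (QuotientGroup.mk' (Subgroup.centralizer (U : Set Y))) := by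
    apply hsub _ inferInstance
    intro y hy
    obtain ⟨k, hk⟩ := (Cfsg.Agent.Lib.Helper97.isPGroup_pCore p Y) ⟨y, hy⟩
    refine ⟨k, ?_⟩
    have : y ^ p ^ k = 1 := by
      have := congrArg Subtype.val hk
      simpa using this
    rw [this]
    exact one_mem _
  generalize hK : (pCore p (Y ⧸ Subgroup.centralizer (U : Set Y))).comap
      (QuotientGroup.mk' (Subgroup.centralizer (U : Set Y))) = K at hKn hCK hquad hRK
  have := hKn
  obtain ⟨T', hT'⟩ := Cfsg.Agent.Lib.Helper47.exists_sylow_eq_subgroupOf_of_normal T K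
  have hfrat := Sylow.normalizer_sup_eq_top T'
  have hTmap : (T' : Subgroup ↥K).map K.subtype = (T : Subgroup Y) ⊓ K := by
    rw [hT', Subgroup.subgroupOf_map_subtype]
  rw [hTmap] at hfrat
  have hKTC : K ≤ ((T : Subgroup Y) ⊓ K) ⊔ Subgroup.centralizer (U : Set Y) := by
    intro k hk
    have hk' : (QuotientGroup.mk k : Y ⧸ Subgroup.centralizer (U : Set Y)) ∈
        pCore p (Y ⧸ Subgroup.centralizer (U : Set Y)) := by
      rw [← hK] at hk; exact hk
    obtain ⟨s, hs, c, hc, rfl⟩ := Cfsg.Agent.Lib.Helper97.exists_mem_sylow_mk_eq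
      (Subgroup.centralizer (U : Set Y)) (pCore p (Y ⧸ Subgroup.centralizer (U : Set Y)))
      (Cfsg.Agent.Lib.Helper97.isPGroup_pCore p _) T hk'
    have hsK : s ∈ K := by
      have : s = (s * c) * c⁻¹ := by group
      rw [this]; exact K.mul_mem hk (K.inv_mem (hCK hc))
    exact Subgroup.mul_mem_sup ⟨hs, hsK⟩ hc
  refine ⟨K, hKn, hCK, hquad, hKTC, ?_, hRK⟩
  rw [eq_top_iff, ← hfrat]
  apply sup_le le_sup_left
  exact hKTC.trans (sup_le (Subgroup.le_normalizer.trans le_sup_left) le_sup_right)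

end Cfsg.Agent.Lib.Helper29
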