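import Mathlib
import Cfsg.Agent.Lib.Helper29.ZJE1
import Cfsg.Agent.Lib.Helper29.ZJE3
import Cfsg.Agent.S0028
import Cfsg.Agent.Lib.Helper24.Omega
import Cfsg.Agent.Lib.Helper47.PClosed
import Cfsg.Agent.Lib.Helper47.Subnormal
import Cfsg.Agent.Lib.Helper97.Replacement4

/-!
# `Z(J_e(T))` is normal when some member of `A_e(T)` lies in `O_p(Y)` (helper29)

Ingredients: `C_Y(J_e(O_p(Y))) ≤ O_p(Y)` (A×B-lemma and the Ω₁-lemma for odd `p`), a generation lemma
(`C = O^p(C)(T ∩ C)`), and the Thompson replacement theorem in the form of Kurzweil–Stellmacher 9.2.3.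
-/

set_option autoImplicit false

namespace Cfsg.Agent.Lib.Helper29

open Cfsg Cfsg.Agent.Lib.Helper11 Cfsg.Agent.Lib.Helper33

open scoped commutatorElement

universe u

variable {Y : Type u} [Group Y]

theorem isPGroup_of_forall_coprime_eq_one' [Finite Y] {p : ℕ} [Fact p.Prime] (N : Subgroup Y)
    (h : ∀ y ∈ N, (orderOf y).Coprime p → y = 1) : IsPGroup p N := by
  have hp : p.Prime := Fact.out
  rintro ⟨x, hx⟩
  have hpos : orderOf x ≠ 0 := (orderOf_pos x).ne'
  obtain ⟨k, m, hm, hkm⟩ := Nat.exists_eq_pow_mul_and_not_dvd hpos p hp.ne_one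
  refine ⟨k, Subtype.ext ?_⟩
  rw [Subgroup.coe_pow, Subgroup.coe_one]
  apply h _ (N.pow_mem hx _)
  have h1 : (x ^ p ^ k) ^ m = 1 := by
    rw [← pow_mul, ← hkm, pow_orderOf_eq_one]
  have h2 : orderOf (x ^ p ^ k) ∣ m := orderOf_dvd_of_pow_eq_one h1
  exact Nat.Coprime.coprime_dvd_left h2 ((Nat.Prime.coprime_iff_not_dvd hp).mpr hm).symm

theorem eq_one_of_mem_of_coprime {p : ℕ} [Fact p.Prime] {R : Subgroup Y} (hR : IsPGroup p R) {x : Y}
    (hx : x ∈ R) (hco : (orderOf x).Coprime p) : x = 1 := by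
  obtain ⟨k, hk⟩ := hR ⟨x, hx⟩
  have hk' : x ^ p ^ k = 1 := by
    have := congrArg Subtype.val hk
    simpa using this
  have hd : orderOf x ∣ p ^ k := orderOf_dvd_of_pow_eq_one hk'
  have h1 : orderOf x = 1 := Nat.Coprime.eq_one_of_dvd (Nat.Coprime.pow_right k hco) hd
  exact orderOf_eq_one_iff.mp h1

/-- `C_Y(J_e(O_p(Y))) ≤ O_p(Y)` for odd `p` when `C_Y(O_p(Y)) ≤ O_p(Y)`. -/
theorem centralizer_thompson_pCore_le [Finite Y] {p : ℕ} [Fact p.Prime] (hp : p ≠ 2)
    (hc : Subgroup.centralizer (pCore p Y : Set Y) ≤ pCore p Y) :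
    Subgroup.centralizer (thompsonSubgroupOf p (pCore p Y) : Set Y) ≤ pCore p Y := by
  have hRp : IsPGroup p (pCore p Y) := Cfsg.Agent.Lib.Helper97.isPGroup_pCore p Y
  have hRn : (pCore p Y).Normal := inferInstance
  have hRtop : Subgroup.normalizer (pCore p Y : Set Y) = ⊤ := Subgroup.normalizer_eq_top_iff.mpr hRn
  have hNn : (thompsonSubgroupOf p (pCore p Y)).Normal := by
    rw [← Subgroup.normalizer_eq_top_iff, eq_top_iff, ← hRtop]
    exact Cfsg.Agent.Lib.Helper97.normalizer_le_normalizer_thompsonSubgroupOf p _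
  have hCn : (Subgroup.centralizer (thompsonSubgroupOf p (pCore p Y) : Set Y)).Normal :=
    Subgroup.normal_centralizer
  apply Cfsg.Agent.Lib.Helper97.le_pCore_of_normal hCn
  apply isPGroup_of_forall_coprime_eq_one'
  intro x hx hco
  obtain ⟨A₁, hA₁⟩ := EA_nonempty p (pCore p Y)
  have hA₁N : A₁ ≤ thompsonSubgroupOf p (pCore p Y) := le_thompsonSubgroupOf_of_mem hA₁
  have hxA : ∀ a ∈ A₁, a * x = x * a := fun a ha =>
    Subgroup.mem_centralizer_iff.mp hx a (hA₁N ha)
  have hKp : IsPGroup p ↥(pCore p Y ⊓ Subgroup.centralizer (A₁ : Set Y)) := hRp.to_le inf_le_left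
  have hxK : x ∈ Subgroup.normalizer ((pCore p Y ⊓ Subgroup.centralizer (A₁ : Set Y) : Subgroup Y) : Set Y) := by
    have hxc : x ∈ Subgroup.centralizer (A₁ : Set Y) := by
      rw [Subgroup.mem_centralizer_iff]; exact hxA
    have h1 : x ∈ Subgroup.normalizer ((Subgroup.centralizer (A₁ : Set Y) : Subgroup Y) : Set Y) :=
      normalizer_le_normalizer_centralizer' A₁ (Subgroup.centralizer_le_normalizer _ hxc)
    have h2 : x ∈ Subgroup.normalizer (pCore p Y : Set Y) := by rw [hRtop]; exact Subgroup.mem_top x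
    rw [Subgroup.mem_normalizer_iff] at h1 h2 ⊢
    intro y
    rw [Subgroup.mem_inf, Subgroup.mem_inf, h1 y, h2 y]
  have hfix : ∀ u ∈ pCore p Y ⊓ Subgroup.centralizer (A₁ : Set Y), u ^ p = 1 → x * u = u * x := by
    intro u hu hup
    have huA : u ∈ A₁ := mem_of_commute_of_pow_eq_one hA₁ hu.1 hup
      (fun a ha => Subgroup.mem_centralizer_iff.mp hu.2 a ha)
    exact (hxA u huA).symm
  have hall := Cfsg.Agent.Lib.Helper24.centralizes_of_centralizes_omega p hp x hco _ hKp hxK hfix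
  have hQ : Subgroup.zpowers x ≤ Subgroup.centralizer (pCore p Y : Set Y) := by
    apply Cfsg.Agent.S0028.result p A₁ (Subgroup.zpowers x) (pCore p Y) (hRp.to_le hA₁.1)
      (by rw [Nat.card_zpowers]; exact hco) hRp
    · intro a ha
      rw [Subgroup.mem_centralizer_iff]
      intro h hh
      obtain ⟨k, rfl⟩ := Subgroup.mem_zpowers_iff.mp hh
      have : Commute x a := (hxA a ha).symm
      exact (this.zpow_left k).eq
    · rw [hRtop]; exact le_top
    · rw [hRtop]; exact le_top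
    · intro u hu
      rw [Subgroup.mem_centralizer_iff]
      intro h hh
      obtain ⟨k, rfl⟩ := Subgroup.mem_zpowers_iff.mp hh
      have : Commute x u := hall u hu
      exact (this.zpow_left k).eq
  have hxR : x ∈ pCore p Y := hc (hQ (Subgroup.mem_zpowers x))
  exact eq_one_of_mem_of_coprime hRp hxR hco

/-- `A = O^p(A) S` for a Sylow `p`-subgroup `S` of `A` (ambient form). -/
theorem opOf_sup_eq' [Finite Y] {p : ℕ} [Fact p.Prime] {S A : Subgroup Y} (hS : IsPGroup p ↥S)
    (hSA : S ≤ A) (h : ¬ p ∣ S.relIndex A) : Cfsg.Agent.Lib.Helper47.opOf p A ⊔ S = A := by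
  have hS' : IsPGroup p ↥(S.subgroupOf A) := hS.comap_subtype
  have h' : ¬ p ∣ (S.subgroupOf A).index := h
  have h1 := Cfsg.Agent.Lib.Helper47.pResidual_sup_sylow (hS'.toSylow h')
  rw [IsPGroup.toSylow_coe] at h1
  have h2 := congrArg (Subgroup.map A.subtype) h1
  rw [Subgroup.map_sup, Subgroup.subgroupOf_map_subtype, inf_of_le_left hSA,
    ← MonoidHom.range_eq_map, Subgroup.range_subtype] at h2
  exact h2

/-- a normal subgroup normalizes `Z` as soon as a Sylow `p`-subgroup and its `p'`-elements do -/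
theorem le_normalizer_of_sylow_of_coprime [Finite Y] {p : ℕ} [Fact p.Prime] (T : Sylow p Y)
    (C : Subgroup Y) [C.Normal] (Z : Subgroup Y)
    (hT : (T : Subgroup Y) ≤ Subgroup.normalizer (Z : Set Y))
    (hco : ∀ x ∈ C, (orderOf x).Coprime p → x ∈ Subgroup.normalizer (Z : Set Y)) :
    C ≤ Subgroup.normalizer (Z : Set Y) := by
  have hS := Cfsg.Agent.Lib.Helper97.sylIn_inf_of_normal' T C
  have h1 := opOf_sup_eq' hS.isPGroup hS.le hS.not_dvd
  rw [← h1]
  apply sup_le
  · rw [Cfsg.Agent.Lib.Helper47.opOf_eq_closure, Subgroup.closure_le]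
    rintro x ⟨hxC, hx⟩
    exact hco x hxC hx
  · exact inf_le_left.trans hT

/-- Thompson replacement (KS 9.2.3): if every member of `A_e(T)` acting quadratically on the normal
elementary abelian subgroup `E` centralizes `E`, then every member of `A_e(T)` centralizes `E`. -/
theorem commutator_eq_bot_of_quadratic [Finite Y] {p : ℕ} [Fact p.Prime] (T E : Subgroup Y)
    (hET : E ≤ T) (hEn : T ≤ Subgroup.normalizer (E : Set Y)) (hE : IsElementaryAbelian p E)
    (hq : ∀ A₀ ∈ EA p T, ⁅⁅E, A₀⁆, A₀⁆ = ⊥ → ⁅E, A₀⁆ = ⊥) :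
    ∀ A ∈ EA p T, ⁅E, A⁆ = ⊥ := by
  intro A hA
  obtain ⟨A', hA', rfl⟩ := (mem_image_maxEA p T A).mpr hA
  have hVn : (E.subgroupOf T).Normal := by
    refine ⟨fun n hn g => ?_⟩
    rw [Subgroup.mem_subgroupOf] at hn ⊢
    have := (Subgroup.mem_normalizer_iff.mp (hEn g.2) (n : Y)).mp hn
    simpa using this
  have hV : IsElementaryAbelian p (E.subgroupOf T) :=
    Cfsg.Agent.Lib.Helper97.isElementaryAbelian_subgroupOf T hE
  have hVmap : (E.subgroupOf T).map T.subtype = E := by
    rw [Subgroup.subgroupOf_map_subtype, inf_of_le_left hET]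
  generalize E.subgroupOf T = V at hVn hV hVmap
  have := hVn
  obtain ⟨h1, h2, h3⟩ := Cfsg.Agent.Lib.Helper97.thompson_replacement_max V hV A' hA'
  have hinj : Function.Injective T.subtype := T.subtype_injective
  have hA₀ : (⁅V, A'⁆ ⊔ (A' ⊓ Subgroup.centralizer
      ((⁅V, A'⁆ : Subgroup ↥T) : Set ↥T))).map T.subtype ∈ EA p T :=
    (mem_image_maxEA p T _).mp ⟨_, h1, rfl⟩
  generalize ⁅V, A'⁆ ⊔ (A' ⊓ Subgroup.centralizer ((⁅V, A'⁆ : Subgroup ↥T) : Set ↥T)) = A₀'
    at h1 h2 h3 hA₀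
  have hq1 := hq _ hA₀ (by
    rw [← hVmap, ← Subgroup.map_commutator, ← Subgroup.map_commutator, h2, Subgroup.map_bot])
  rw [← hVmap, ← Subgroup.map_commutator, Subgroup.map_eq_bot_iff_of_injective _ hinj] at hq1
  have h4 : ⁅V, A'⁆ = ⊥ := by
    by_contra hne
    exact h3 hne hq1
  show ⁅E, A'.map T.subtype⁆ = ⊥
  rw [← hVmap, ← Subgroup.map_commutator, h4, Subgroup.map_bot]

/-- **Step A.** If some member of `A_e(T)` lies in `O_p(Y)` then `Z(J_e(T))` is normal in `Y`
(given the inductive hypothesis for proper subgroups containing `T`). -/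
theorem centerThompsonOf_normal_of_mem_le_pCore [Finite Y] {p : ℕ} [Fact p.Prime] (hp : p ≠ 2)
    (hecn : ECN p Y) (hc : Subgroup.centralizer (pCore p Y : Set Y) ≤ pCore p Y) (T : Sylow p Y)
    (IH : ∀ H : Subgroup Y, (T : Subgroup Y) ≤ H → H ≠ ⊤ →
      H ≤ Subgroup.normalizer (centerThompsonOf p (T : Subgroup Y) : Set Y))
    {A₁ : Subgroup Y} (hA₁ : A₁ ∈ EA p (T : Subgroup Y)) (hA₁R : A₁ ≤ pCore p Y) :
    (centerThompsonOf p (T : Subgroup Y)).Normal := by
  have hRp : IsPGroup p (pCore p Y) := Cfsg.Agent.Lib.Helper97.isPGroup_pCore p Y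
  have hRn : (pCore p Y).Normal := inferInstance
  have hRtop : Subgroup.normalizer (pCore p Y : Set Y) = ⊤ := Subgroup.normalizer_eq_top_iff.mpr hRn
  have hRT : pCore p Y ≤ (T : Subgroup Y) := Cfsg.Agent.Lib.Helper97.pCore_le_sylow' T
  have hTZ := le_normalizer_centerThompsonOf p (T : Subgroup Y)
  -- A1
  have hsub : EA p (pCore p Y) ⊆ EA p (T : Subgroup Y) := fam_subset_of_le hA₁ hA₁R hRT
  have hNJ : thompsonSubgroupOf p (pCore p Y) ≤ thompsonSubgroupOf p (T : Subgroup Y) :=
    thompsonSubgroupOf_mono_of_mem hA₁ hA₁R hRT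
  -- A2
  have hR₁R := centralizer_thompson_pCore_le hp hc
  -- A3
  have hZR₁ : centerThompsonOf p (T : Subgroup Y) ≤
      Subgroup.centralizer (thompsonSubgroupOf p (pCore p Y) : Set Y) := by
    intro z hz
    rw [Subgroup.mem_centralizer_iff]
    intro y hy
    exact (mem_centerThompsonOf_iff.mp hz).2 y (hNJ hy)
  -- A4
  have hEn : (famInf (fun A : Subgroup Y => IsElementaryAbelian p A) (pCore p Y)).Normal := by
    rw [← Subgroup.normalizer_eq_top_iff, eq_top_iff, ← hRtop]
    exact normalizer_le_normalizer_famInf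
      (fun φ A h => Cfsg.Agent.Lib.Helper97.isElementaryAbelian_map φ.toMonoidHom h) _
  have hA₁' : A₁ ∈ EA p (pCore p Y) := fam_mem_of_le hA₁ hA₁R hRT
  have hEA₁ : famInf (fun A : Subgroup Y => IsElementaryAbelian p A) (pCore p Y) ≤ A₁ :=
    famInf_le_mem hA₁'
  have hE : IsElementaryAbelian p (famInf (fun A : Subgroup Y => IsElementaryAbelian p A) (pCore p Y)) :=
    Cfsg.Agent.Lib.Helper97.isElementaryAbelian_mono hEA₁ hA₁.2.1
  have hER : famInf (fun A : Subgroup Y => IsElementaryAbelian p A) (pCore p Y) ≤ pCore p Y :=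
    hEA₁.trans hA₁R
  have hEp : IsPGroup p ↥(famInf (fun A : Subgroup Y => IsElementaryAbelian p A) (pCore p Y)) :=
    hRp.to_le hER
  have hΩ : ∀ u ∈ Subgroup.centralizer (thompsonSubgroupOf p (pCore p Y) : Set Y), u ^ p = 1 →
      u ∈ famInf (fun A : Subgroup Y => IsElementaryAbelian p A) (pCore p Y) := by
    intro u hu hup
    unfold famInf
    rw [Subgroup.mem_sInf]
    intro A₀ hA₀
    apply mem_of_commute_of_pow_eq_one hA₀ (hR₁R hu) hup
    intro a ha
    exact Subgroup.mem_centralizer_iff.mp hu a (le_thompsonSubgroupOf_of_mem hA₀ ha)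
  generalize hEdef : famInf (fun A : Subgroup Y => IsElementaryAbelian p A) (pCore p Y) = E
    at hEn hEA₁ hE hER hEp hΩ
  have := hEn
  -- A5
  have hCEn : (Subgroup.centralizer (E : Set Y)).Normal := Subgroup.normal_centralizer
  have hNn : (thompsonSubgroupOf p (pCore p Y)).Normal := by
    rw [← Subgroup.normalizer_eq_top_iff, eq_top_iff, ← hRtop]
    exact Cfsg.Agent.Lib.Helper97.normalizer_le_normalizer_thompsonSubgroupOf p _
  have hR₁n : (Subgroup.centralizer (thompsonSubgroupOf p (pCore p Y) : Set Y)).Normal :=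
    Subgroup.normal_centralizer
  have hCEZ : Subgroup.centralizer (E : Set Y) ≤
      Subgroup.normalizer (centerThompsonOf p (T : Subgroup Y) : Set Y) := by
    apply le_normalizer_of_sylow_of_coprime T _ _ hTZ
    intro x hx hco
    -- `x` centralizes `R₁`
    have hxn : x ∈ Subgroup.normalizer
        ((Subgroup.centralizer (thompsonSubgroupOf p (pCore p Y) : Set Y) : Subgroup Y) : Set Y) := by
      rw [Subgroup.normalizer_eq_top_iff.mpr hR₁n]; exact Subgroup.mem_top x
    have hfix : ∀ u ∈ Subgroup.centralizer (thompsonSubgroupOf p (pCore p Y) : Set Y), u ^ p = 1 →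
        x * u = u * x := by
      intro u hu hup
      exact (Subgroup.mem_centralizer_iff.mp hx u (hΩ u hu hup)).symm
    have hall := Cfsg.Agent.Lib.Helper24.centralizes_of_centralizes_omega p hp x hco _
      (hRp.to_le hR₁R) hxn hfix
    apply Subgroup.centralizer_le_normalizer
    rw [Subgroup.mem_centralizer_iff]
    intro z hz
    exact (hall z (hZR₁ hz)).symm
  -- A6
  obtain ⟨K, hKn, hCK, hquad, hKTC, hfrat, hRK⟩ := exists_stab_frattini hecn T E hEp
  have := hKn
  by_cases hH : Subgroup.normalizer ((((T : Subgroup Y) ⊓ K : Subgroup Y)) : Set Y) = ⊤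
  swap
  · have hTH : (T : Subgroup Y) ≤ Subgroup.normalizer ((((T : Subgroup Y) ⊓ K : Subgroup Y)) : Set Y) := by
      intro t ht
      rw [Subgroup.mem_normalizer_iff]
      intro y
      rw [Subgroup.mem_inf, Subgroup.mem_inf]
      constructor
      · rintro ⟨h1, h2⟩
        exact ⟨(T : Subgroup Y).mul_mem ((T : Subgroup Y).mul_mem ht h1) ((T : Subgroup Y).inv_mem ht),
          hKn.conj_mem y h2 t⟩
      · rintro ⟨h1, h2⟩
        refine ⟨?_, ?_⟩
        · have := (T : Subgroup Y).mul_mem ((T : Subgroup Y).mul_mem ((T : Subgroup Y).inv_mem ht) h1) ht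
          have e : t⁻¹ * (t * y * t⁻¹) * t = y := by group
          rwa [e] at this
        · have := hKn.conj_mem _ h2 t⁻¹
          have e : t⁻¹ * (t * y * t⁻¹) * t⁻¹⁻¹ = y := by group
          rwa [e] at this
    have h1 := IH _ hTH hH
    rw [← Subgroup.normalizer_eq_top_iff, eq_top_iff, ← hfrat]
    exact sup_le h1 hCEZ
  · -- `T ⊓ K` is normal, hence inside `O_p(Y)`
    have hTKn : ((T : Subgroup Y) ⊓ K).Normal := Subgroup.normalizer_eq_top_iff.mp hH
    have hTKR : (T : Subgroup Y) ⊓ K ≤ pCore p Y :=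
      Cfsg.Agent.Lib.Helper97.le_pCore_of_normal hTKn (T.isPGroup'.to_le inf_le_left)
    have hET : E ≤ (T : Subgroup Y) := hER.trans hRT
    have hEnT : (T : Subgroup Y) ≤ Subgroup.normalizer (E : Set Y) := by
      rw [Subgroup.normalizer_eq_top_iff.mpr hEn]; exact le_top
    have hcent : ∀ A ∈ EA p (T : Subgroup Y), ⁅E, A⁆ = ⊥ := by
      apply commutator_eq_bot_of_quadratic (T : Subgroup Y) E hET hEnT hE
      intro A₀ hA₀ hq
      have hA₀K : A₀ ≤ K := by
        intro a ha
        apply hquad a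
        rw [eq_bot_iff, ← hq]
        have hza : Subgroup.zpowers a ≤ A₀ := (Subgroup.zpowers_le).mpr ha
        exact Subgroup.commutator_mono (Subgroup.commutator_mono le_rfl hza) hza
      have hA₀R : A₀ ≤ pCore p Y := (le_inf hA₀.1 hA₀K).trans hTKR
      have hA₀' : A₀ ∈ EA p (pCore p Y) := fam_mem_of_le hA₀ hA₀R hRT
      have hEA₀ : E ≤ A₀ := by rw [← hEdef]; exact famInf_le_mem hA₀'
      rw [eq_bot_iff]
      calc ⁅E, A₀⁆ ≤ ⁅A₀, A₀⁆ := Subgroup.commutator_mono hEA₀ le_rfl
        _ = ⊥ := Subgroup.commutator_self_eq_bot_iff.mpr hA₀.2.1.1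
    have hJC : thompsonSubgroupOf p (T : Subgroup Y) ≤ Subgroup.centralizer (E : Set Y) := by
      rw [thompsonSubgroupOf_eq_sSup_EA]
      apply sSup_le
      intro A hA
      have h1 := hcent A hA
      rw [Subgroup.commutator_comm] at h1
      exact Subgroup.commutator_eq_bot_iff_le_centralizer.mp h1
    rw [← Subgroup.normalizer_eq_top_iff, eq_top_iff]
    intro g _
    obtain ⟨m, hm, hmg⟩ := Cfsg.Agent.Lib.Helper97.frattini_thompson T
      (Subgroup.centralizer (E : Set Y)) hJC g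
    have h1 := normalizer_thompson_le_normalizer_center p _ hmg
    have h2 := hCEZ hm
    have e : g = m⁻¹ * (m * g) := by group
    rw [e]
    exact Subgroup.mul_mem _ (Subgroup.inv_mem _ h2) h1

end Cfsg.Agent.Lib.Helper29
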