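import Mathlib
import Cfsg.Agent.Lib.Helper29.ZJE0
import Cfsg.Agent.Lib.Helper29.ZJE1
import Cfsg.Agent.Lib.Helper11.Replacement2
import Cfsg.Agent.Lib.Helper97.Replacement3
import Cfsg.Agent.Lib.Helper97.Thompson2

/-!
# Replacement for elementary abelian subgroups of largest order, `B' ≤ Z(B)` centralizing them
(helper29)

Let `S` be a finite `p`-group, `p` odd, `B ⊴ S` with `D = [B, B]` central in `B` and commuting with every
elementary abelian subgroup of `S` of largest order.  Then some elementary abelian subgroup of largest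
order is normalized by `B`.  (Glauberman's replacement theorem applied to the abelian groups `A D`.)
-/

set_option autoImplicit false

namespace Cfsg.Agent.Lib.Helper29

open Cfsg Cfsg.Agent.Lib.Helper11

open scoped commutatorElement

variable {S : Type*} [Group S]

theorem comm_of_isMulCommutative' (A : Subgroup S) (hA : IsMulCommutative A) :
    ∀ x ∈ A, ∀ y ∈ A, x * y = y * x := fun x hx y hy =>
  congrArg Subtype.val (hA.is_comm.comm (⟨x, hx⟩ : A) ⟨y, hy⟩)

theorem isMulCommutative_sup_of_commute {U D : Subgroup S} (hU : IsMulCommutative U)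
    (hD : IsMulCommutative D) (hUD : ∀ u ∈ U, ∀ d ∈ D, u * d = d * u) : IsMulCommutative ↥(U ⊔ D) := by
  have : U ⊔ D = Subgroup.closure ((U : Set S) ∪ D) := by
    rw [Subgroup.closure_union, Subgroup.closure_eq, Subgroup.closure_eq]
  rw [this]
  apply Subgroup.isMulCommutative_closure
  intro x hx y hy
  rcases hx with hx | hx <;> rcases hy with hy | hy
  · exact comm_of_isMulCommutative' U hU x hx y hy
  · exact hUD x hx y hy
  · exact (hUD y hy x hx).symm
  · exact comm_of_isMulCommutative' D hD x hx y hy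

theorem isElementaryAbelian_omegaOne_of_comm (p : ℕ) (X : Subgroup S) (hX : IsMulCommutative X) :
    IsElementaryAbelian p (omegaOne p X) := by
  have hXc := comm_of_isMulCommutative' X hX
  refine ⟨⟨⟨?_⟩⟩, ?_⟩
  · rintro ⟨a, ha⟩ ⟨b, hb⟩
    apply Subtype.ext
    exact hXc a ((mem_omegaOne_iff_of_comm p X hXc a).mp ha).1 b
      ((mem_omegaOne_iff_of_comm p X hXc b).mp hb).1
  · intro a ha
    exact ((mem_omegaOne_iff_of_comm p X hXc a).mp ha).2

theorem omegaOne_le' (p : ℕ) (X : Subgroup S) : omegaOne p X ≤ X := by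
  unfold omegaOne
  rw [Subgroup.closure_le]
  intro y hy; exact hy.1

theorem normalizer_le_normalizer_omegaOne (p : ℕ) (X : Subgroup S) :
    Subgroup.normalizer (X : Set S) ≤ Subgroup.normalizer ((omegaOne p X : Subgroup S) : Set S) := by
  have key : ∀ g ∈ Subgroup.normalizer (X : Set S), ∀ x ∈ omegaOne p X, g * x * g⁻¹ ∈ omegaOne p X := by
    intro g hg x hx
    have hmap : (omegaOne p X).map (MulAut.conj g).toMonoidHom ≤ omegaOne p X := by
      unfold omegaOne
      rw [MonoidHom.map_closure, Subgroup.closure_le]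
      rintro _ ⟨y, ⟨hyX, hyp⟩, rfl⟩
      apply Subgroup.subset_closure
      refine ⟨?_, ?_⟩
      · show g * y * g⁻¹ ∈ X
        exact (Subgroup.mem_normalizer_iff.mp hg y).mp hyX
      · show (MulAut.conj g y) ^ p = 1
        rw [← map_pow, hyp, map_one]
    exact hmap ⟨x, hx, rfl⟩
  intro g hg
  rw [Subgroup.mem_normalizer_iff]
  intro x
  constructor
  · exact key g hg x
  · intro hx
    have := key g⁻¹ (Subgroup.inv_mem _ hg) _ hx
    have e : g⁻¹ * (g * x * g⁻¹) * g⁻¹⁻¹ = x := by group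
    rwa [e] at this

/-- `Ω₁(U D) = U` for `U` elementary abelian of largest order and `D` abelian commuting with `U`. -/
theorem omegaOne_sup_eq [Finite S] {p : ℕ} {U D : Subgroup S}
    (hU : U ∈ maxElementaryAbelianSubgroups p S) (hD : IsMulCommutative D)
    (hUD : ∀ u ∈ U, ∀ d ∈ D, u * d = d * u) : omegaOne p (U ⊔ D) = U := by
  have hXc := comm_of_isMulCommutative' _ (isMulCommutative_sup_of_commute hU.1.1 hD hUD)
  apply le_antisymm
  · intro x hx
    obtain ⟨hxX, hxp⟩ := (mem_omegaOne_iff_of_comm p _ hXc x).mp hx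
    have hZ : IsElementaryAbelian p (Subgroup.zpowers x) := isElementaryAbelian_zpowers_of_pow hxp
    have hsup : IsElementaryAbelian p (U ⊔ Subgroup.zpowers x) := by
      apply Cfsg.Agent.Lib.Helper97.isElementaryAbelian_sup hU.1 hZ
      intro a ha b hb
      obtain ⟨k, rfl⟩ := Subgroup.mem_zpowers_iff.mp hb
      have : Commute a x := hXc a (Subgroup.mem_sup_left ha) x hxX
      exact (this.zpow_right k).eq
    have hcard := hU.2 _ hsup
    have heq : U = U ⊔ Subgroup.zpowers x := Subgroup.eq_of_le_of_card_ge le_sup_left hcard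
    rw [heq]
    exact Subgroup.mem_sup_right (Subgroup.mem_zpowers x)
  · intro u hu
    exact Subgroup.subset_closure ⟨Subgroup.mem_sup_left hu, hU.1.2 u hu⟩

section main

variable [Finite S] {p : ℕ} [Fact p.Prime]

/-- closure of the family under the star operation -/
theorem star_mem_family (hS : IsPGroup p S) (hp : p ≠ 2) (B : Subgroup S) [hBn : B.Normal]
    (h1 : ∀ d ∈ ⁅B, B⁆, ∀ b ∈ B, d * b = b * d)
    (X : Subgroup S) (hX : IsMulCommutative X) (hDX : ⁅B, B⁆ ≤ X)
    (hXΩ : X ≤ omegaOne p X ⊔ ⁅B, B⁆)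
    (hmax : omegaOne p X ∈ maxElementaryAbelianSubgroups p S)
    (b : S) (hb : b ∈ B)
    (hbN : b ∈ Subgroup.normalizer ((Subgroup.normalizer (X : Set S) : Subgroup S) : Set S)) :
    IsMulCommutative (starA X b) ∧ ⁅B, B⁆ ≤ starA X b ∧
      starA X b ≤ omegaOne p (starA X b) ⊔ ⁅B, B⁆ ∧
      omegaOne p (starA X b) ∈ maxElementaryAbelianSubgroups p S := by
  have hB2 : p = 2 → IsMulCommutative B := fun h => absurd h hp
  have hXc := comm_of_isMulCommutative' X hX
  have hstar := starA_isMulCommutative hS X B b hB2 hX hDX hb hbN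
  have hstarc := comm_of_isMulCommutative' _ hstar
  have hDn : (⁅B, B⁆).Normal := Subgroup.commutator_normal B B
  have hDinter : ⁅B, B⁆ ≤ interA X b := by
    intro d hd
    refine ⟨hDX hd, ?_⟩
    show d ∈ conjA X b
    rw [mem_conjA]
    exact hDX (hDn.conj_mem d hd b)
  -- decomposition of elements of `X`
  have hdec : ∀ x ∈ X, ∃ a ∈ X, a ^ p = 1 ∧ ∃ d ∈ ⁅B, B⁆, x = a * d := by
    intro x hx
    obtain ⟨a, ha, d, hd, rfl⟩ := Cfsg.Agent.Lib.Helper97.exists_mul_of_mem_sup_of_commute'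
      (H := omegaOne p X) (K := ⁅B, B⁆)
      (fun h hh k hk => hXc h (omegaOne_le' p X hh) k (hDX hk)) (hXΩ hx)
    obtain ⟨haX, hap⟩ := (mem_omegaOne_iff_of_comm p X hXc a).mp ha
    exact ⟨a, haX, hap, d, hd, rfl⟩
  refine ⟨hstar, hDinter.trans le_sup_left, ?_, ?_⟩
  · apply sup_le
    · intro x hx
      obtain ⟨a, haX, hap, d, hd, rfl⟩ := hdec x hx.1
      have haI : a ∈ interA X b := by
        have : a = (a * d) * d⁻¹ := by group
        rw [this]
        exact Subgroup.mul_mem _ hx (Subgroup.inv_mem _ (hDinter hd))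
      have haΩ : a ∈ omegaOne p (starA X b) :=
        (mem_omegaOne_iff_of_comm p _ hstarc a).mpr ⟨(le_sup_left : interA X b ≤ starA X b) haI, hap⟩
      exact Subgroup.mul_mem_sup haΩ hd
    · rw [Subgroup.closure_le]
      rintro _ ⟨x, hx, rfl⟩
      obtain ⟨a, haX, hap, d, hd, rfl⟩ := hdec x hx
      have hdb : d * b⁻¹ = b⁻¹ * d := by
        have := h1 d hd b hb
        have h2 : Commute d b := this
        exact h2.inv_right.eq
      have hda : a * d = d * a := hXc a haX d (hDX hd)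
      have hgen : (a * d) * b⁻¹ * (a * d)⁻¹ * b = a * b⁻¹ * a⁻¹ * b := by
        calc (a * d) * b⁻¹ * (a * d)⁻¹ * b = a * (d * b⁻¹) * d⁻¹ * a⁻¹ * b := by group
          _ = a * (b⁻¹ * d) * d⁻¹ * a⁻¹ * b := by rw [hdb]
          _ = a * b⁻¹ * a⁻¹ * b := by group
      rw [hgen]
      have hgp := gen_pow_eq_one X b hX hbN hp a haX hap
      have hgs : a * b⁻¹ * a⁻¹ * b ∈ starA X b :=
        (le_sup_right : commA X b ≤ starA X b) (Subgroup.subset_closure ⟨a, haX, rfl⟩)
      exact Subgroup.mem_sup_left ((mem_omegaOne_iff_of_comm p _ hstarc _).mpr ⟨hgs, hgp⟩)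
  · refine ⟨isElementaryAbelian_omegaOne_of_comm p _ hstar, ?_⟩
    intro V hV
    exact (hmax.2 V hV).trans (card_omegaOne_le_starA hS X B b hB2 hX hDX hb hbN hp)

/-- **Replacement.**  Some elementary abelian subgroup of largest order is normalized by `B`. -/
theorem exists_maxEA_normalized (hS : IsPGroup p S) (hp : p ≠ 2) (B : Subgroup S) [hBn : B.Normal]
    (h1 : ∀ d ∈ ⁅B, B⁆, ∀ b ∈ B, d * b = b * d)
    (h2 : ∀ A ∈ maxElementaryAbelianSubgroups p S, ∀ a ∈ A, ∀ d ∈ ⁅B, B⁆, a * d = d * a) :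
    ∃ A ∈ maxElementaryAbelianSubgroups p S, B ≤ Subgroup.normalizer (A : Set S) := by
  have hDB : ⁅B, B⁆ ≤ B := by
    rw [Subgroup.commutator_le]
    intro x hx y hy
    exact B.mul_mem (B.mul_mem (B.mul_mem hx hy) (B.inv_mem hx)) (B.inv_mem hy)
  have hDc : IsMulCommutative (⁅B, B⁆ : Subgroup S) :=
    ⟨⟨fun x y => Subtype.ext (h1 x.1 x.2 y.1 (hDB y.2))⟩⟩
  by_cases hall : ∀ U ∈ maxElementaryAbelianSubgroups p S, B ≤ U ⊔ ⁅B, B⁆
  · obtain ⟨U, hU⟩ := Cfsg.Agent.Lib.Helper97.maxElementaryAbelian_nonempty (G := S) p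
    refine ⟨U, hU, ?_⟩
    have hle : U ⊔ ⁅B, B⁆ ≤ Subgroup.centralizer (U : Set S) := by
      apply sup_le
      · intro u hu
        rw [Subgroup.mem_centralizer_iff]
        intro v hv
        exact comm_of_isMulCommutative' U hU.1.1 v hv u hu
      · intro d hd
        rw [Subgroup.mem_centralizer_iff]
        intro v hv
        exact h2 U hU v hv d hd
    exact (hall U hU).trans (hle.trans (Subgroup.centralizer_le_normalizer _))
  · push Not at hall
    obtain ⟨U, hU, hBU⟩ := hall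
    have hB2 : p = 2 → IsMulCommutative B := fun h => absurd h hp
    let 𝓕 : Set (Subgroup S) := {X | IsMulCommutative X ∧ ⁅B, B⁆ ≤ X ∧
      X ≤ omegaOne p X ⊔ ⁅B, B⁆ ∧ omegaOne p X ∈ maxElementaryAbelianSubgroups p S}
    have hab : ∀ X ∈ 𝓕, IsMulCommutative X := fun X hX => hX.1
    have hstar : ∀ X ∈ 𝓕, ∀ b ∈ B, ⁅B, B⁆ ≤ X →
        b ∈ Subgroup.normalizer ((Subgroup.normalizer (X : Set S) : Subgroup S) : Set S) →
        b ∉ Subgroup.normalizer (X : Set S) → starA X b ∈ 𝓕 := by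
      intro X hX b hb hDX hbN _
      exact star_mem_family hS hp B h1 X hX.1 hDX hX.2.2.1 hX.2.2.2 b hb hbN
    have hex : ∃ X ∈ 𝓕, ⁅B, B⁆ ≤ X ∧ ¬ B ≤ X := by
      have hΩ := omegaOne_sup_eq hU hDc (h2 U hU)
      refine ⟨U ⊔ ⁅B, B⁆, ⟨isMulCommutative_sup_of_commute hU.1.1 hDc (h2 U hU), le_sup_right, ?_, ?_⟩,
        le_sup_right, hBU⟩
      · rw [hΩ]
      · rw [hΩ]; exact hU
    obtain ⟨X, hX, _, _, hBX⟩ := replacement_max' hS 𝓕 B hB2 hab hstar hex
    exact ⟨omegaOne p X, hX.2.2.2, hBX.trans (normalizer_le_normalizer_omegaOne p X)⟩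

end main

end Cfsg.Agent.Lib.Helper29
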