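import Mathlib
import Cfsg.Agent.Lib.Helper29.ZJE2
import Cfsg.Agent.Lib.Helper29.ZJE4
import Cfsg.Agent.Lib.Helper29.ZJER
import Cfsg.Agent.Lib.Helper11.ZJ
import Cfsg.Agent.Lib.Helper34.ThompsonSections

/-!
# The ZJ-theorem for the full centre of the elementary-abelian Thompson subgroup (helper29)

`zje_normal`: for an odd prime `p` and a finite group `Y` with `C_Y(O_p(Y)) ≤ O_p(Y)` all of whose sections
are `p`-stable (in the elementary form `ECN`), `Z(J_e(T))` is normal in `Y` for every Sylow `p`-subgroup `T`.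
-/

set_option autoImplicit false

namespace Cfsg.Agent.Lib.Helper29

open Cfsg Cfsg.Agent.Lib.Helper11 Cfsg.Agent.Lib.Helper33

open scoped commutatorElement

universe u

variable {Y : Type u} [Group Y]

theorem le_normalizer_inf_of_normal (T K : Subgroup Y) [hKn : K.Normal] :
    T ≤ Subgroup.normalizer (((T ⊓ K : Subgroup Y)) : Set Y) := by
  intro t ht
  rw [Subgroup.mem_normalizer_iff]
  intro y
  rw [Subgroup.mem_inf, Subgroup.mem_inf]
  constructor
  · rintro ⟨h1, h2⟩
    exact ⟨T.mul_mem (T.mul_mem ht h1) (T.inv_mem ht), hKn.conj_mem y h2 t⟩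
  · rintro ⟨h1, h2⟩
    refine ⟨?_, ?_⟩
    · have := T.mul_mem (T.mul_mem (T.inv_mem ht) h1) ht
      have e : t⁻¹ * (t * y * t⁻¹) * t = y := by group
      rwa [e] at this
    · have := hKn.conj_mem _ h2 t⁻¹
      have e : t⁻¹ * (t * y * t⁻¹) * t⁻¹⁻¹ = y := by group
      rwa [e] at this

/-- **Step B.** `Z(J_e(T)) ∩ B` is normal for every normal `p`-subgroup `B`. -/
theorem centerThompsonOf_inf_normal [Finite Y] {p : ℕ} [Fact p.Prime] (hp : p ≠ 2)
    (hecn : ECN p Y) (hc : Subgroup.centralizer (pCore p Y : Set Y) ≤ pCore p Y) (T : Sylow p Y)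
    (IH : ∀ H : Subgroup Y, (T : Subgroup Y) ≤ H → H ≠ ⊤ →
      H ≤ Subgroup.normalizer (centerThompsonOf p (T : Subgroup Y) : Set Y)) :
    ∀ (n : ℕ) (B : Subgroup Y), Nat.card B ≤ n → B.Normal → IsPGroup p B →
      (centerThompsonOf p (T : Subgroup Y) ⊓ B).Normal := by
  intro n
  induction n with
  | zero =>
    intro B hn
    have := Nat.card_pos (α := B)
    omega
  | succ n ih =>
    intro B hcard hBn hBp
    have := hBn
    have hZT : centerThompsonOf p (T : Subgroup Y) ≤ (T : Subgroup Y) := centerThompsonOf_le p _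
    have hTNZ := le_normalizer_centerThompsonOf p (T : Subgroup Y)
    have hBT : B ≤ (T : Subgroup Y) := hBp.le_sylow_of_normal T
    by_cases hBbot : B = ⊥
    · rw [hBbot, inf_bot_eq]; infer_instance
    have hB₁B : Subgroup.normalClosure ((centerThompsonOf p (T : Subgroup Y) ⊓ B : Subgroup Y) : Set Y) ≤ B :=
      Subgroup.normalClosure_le_normal (fun x hx => hx.2)
    have hZ₁B₁ : centerThompsonOf p (T : Subgroup Y) ⊓ B ≤
        Subgroup.normalClosure ((centerThompsonOf p (T : Subgroup Y) ⊓ B : Subgroup Y) : Set Y) :=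
      Subgroup.subset_normalClosure
    by_cases hB₁ : Subgroup.normalClosure ((centerThompsonOf p (T : Subgroup Y) ⊓ B : Subgroup Y) : Set Y) = B
    swap
    · have hlt : Nat.card (Subgroup.normalClosure
          ((centerThompsonOf p (T : Subgroup Y) ⊓ B : Subgroup Y) : Set Y)) < Nat.card B :=
        card_lt_of_lt (lt_of_le_of_ne hB₁B hB₁)
      have hn1 := ih _ (by omega) Subgroup.normalClosure_normal (hBp.to_le hB₁B)
      have : centerThompsonOf p (T : Subgroup Y) ⊓ Subgroup.normalClosure
          ((centerThompsonOf p (T : Subgroup Y) ⊓ B : Subgroup Y) : Set Y) =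
          centerThompsonOf p (T : Subgroup Y) ⊓ B :=
        le_antisymm (inf_le_inf_left _ hB₁B) (le_inf inf_le_left hZ₁B₁)
      rw [this] at hn1; exact hn1
    -- now `B` is the normal closure of `Z ⊓ B`
    have hDlt : ⁅B, B⁆ < B := commutator_lt_of_isPGroup B hBp hBbot
    have hDn : (⁅B, B⁆).Normal := Subgroup.commutator_normal B B
    have hDcard : Nat.card ↥⁅B, B⁆ < Nat.card B := card_lt_of_lt hDlt
    have hYn : (centerThompsonOf p (T : Subgroup Y) ⊓ ⁅B, B⁆).Normal :=
      ih _ (by omega) hDn (hBp.to_le hDlt.le)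
    -- Claim 1
    have hc1 : ∀ z ∈ centerThompsonOf p (T : Subgroup Y) ⊓ B, ∀ b ∈ B,
        ⁅z, b⁆ ∈ centerThompsonOf p (T : Subgroup Y) ⊓ ⁅B, B⁆ := by
      intro z hz b hb
      refine ⟨?_, Subgroup.commutator_mem_commutator hz.2 hb⟩
      have hbN : b ∈ Subgroup.normalizer (centerThompsonOf p (T : Subgroup Y) : Set Y) := hTNZ (hBT hb)
      have h1 : b * z⁻¹ * b⁻¹ ∈ centerThompsonOf p (T : Subgroup Y) :=
        (Subgroup.mem_normalizer_iff.mp hbN z⁻¹).mp (Subgroup.inv_mem _ hz.1)
      have h2 : ⁅z, b⁆ = z * (b * z⁻¹ * b⁻¹) := by rw [commutatorElement_def]; group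
      show ⁅z, b⁆ ∈ centerThompsonOf p (T : Subgroup Y)
      rw [h2]; exact Subgroup.mul_mem _ hz.1 h1
    -- Claim 2
    have hcl : Subgroup.closure (Group.conjugatesOfSet
        ((centerThompsonOf p (T : Subgroup Y) ⊓ B : Subgroup Y) : Set Y)) = B := hB₁
    have hc2 : ⁅B, B⁆ ≤ centerThompsonOf p (T : Subgroup Y) ⊓ ⁅B, B⁆ := by
      have key := commutator_closure_le' (Group.conjugatesOfSet
          ((centerThompsonOf p (T : Subgroup Y) ⊓ B : Subgroup Y) : Set Y))
          (centerThompsonOf p (T : Subgroup Y) ⊓ ⁅B, B⁆)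
          (by rw [Subgroup.normalizer_eq_top]; exact le_top) ?_
      · rwa [hcl] at key
      · intro x hx y hy
        have hyB : y ∈ B := by rw [← hcl]; exact Subgroup.subset_closure hy
        rw [Group.mem_conjugatesOfSet_iff] at hx
        obtain ⟨z, hz, hzx⟩ := hx
        obtain ⟨g, rfl⟩ := isConj_iff.mp hzx
        have h1 := hc1 z hz (g⁻¹ * y * g) (by
          have := hBn.conj_mem y hyB g⁻¹
          simpa using this)
        have h2 : ⁅g * z * g⁻¹, y⁆ = g * ⁅z, g⁻¹ * y * g⁆ * g⁻¹ := by
          simp only [commutatorElement_def]; group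
        rw [h2]; exact hYn.conj_mem _ h1 g
    have hDZ : ⁅B, B⁆ ≤ centerThompsonOf p (T : Subgroup Y) := hc2.trans inf_le_left
    -- `[B, B]` is central in `B`
    have hDB : ∀ d ∈ ⁅B, B⁆, ∀ b ∈ B, d * b = b * d := by
      have hle : B ≤ Subgroup.centralizer ((⁅B, B⁆ : Subgroup Y) : Set Y) := by
        refine (le_of_eq hcl.symm).trans ?_
        rw [Subgroup.closure_le]
        intro x hx
        rw [Group.mem_conjugatesOfSet_iff] at hx
        obtain ⟨z, hz, hzx⟩ := hx
        obtain ⟨g, rfl⟩ := isConj_iff.mp hzx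
        rw [SetLike.mem_coe, Subgroup.mem_centralizer_iff]
        intro d hd
        have hd' : g⁻¹ * d * g ∈ centerThompsonOf p (T : Subgroup Y) := by
          have := hDn.conj_mem d hd g⁻¹
          rw [inv_inv] at this
          exact hDZ this
        have h1 : (g⁻¹ * d * g) * z = z * (g⁻¹ * d * g) := centerThompsonOf_comm hd' hz.1
        calc d * (g * z * g⁻¹) = g * ((g⁻¹ * d * g) * z) * g⁻¹ := by group
          _ = g * (z * (g⁻¹ * d * g)) * g⁻¹ := by rw [h1]
          _ = g * z * g⁻¹ * d := by group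
      intro d hd b hb
      exact Subgroup.mem_centralizer_iff.mp (hle hb) d hd
    -- replacement inside `T`
    have hB'n : (B.subgroupOf (T : Subgroup Y)).Normal := inferInstance
    have hcomm_map : ∀ x ∈ ⁅B.subgroupOf (T : Subgroup Y), B.subgroupOf (T : Subgroup Y)⁆,
        ((x : ↥(T : Subgroup Y)) : Y) ∈ ⁅B, B⁆ := by
      intro x hx
      have h1 : (T : Subgroup Y).subtype x ∈
          (⁅B.subgroupOf (T : Subgroup Y), B.subgroupOf (T : Subgroup Y)⁆).map (T : Subgroup Y).subtype :=
        Subgroup.mem_map_of_mem _ hx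
      rw [Subgroup.map_commutator, Subgroup.subgroupOf_map_subtype] at h1
      exact Subgroup.commutator_mono inf_le_left inf_le_left h1
    obtain ⟨A', hA', hBA'⟩ := exists_maxEA_normalized (S := ↥(T : Subgroup Y)) T.isPGroup' hp
      (B.subgroupOf (T : Subgroup Y))
      (by
        intro d hd b hb
        apply Subtype.ext
        have := hDB _ (hcomm_map d hd) _ (Subgroup.mem_subgroupOf.mp hb)
        simpa using this)
      (by
        intro A'' hA'' a ha d hd
        apply Subtype.ext
        have hAmem : A''.map (T : Subgroup Y).subtype ∈ EA p (T : Subgroup Y) :=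
          (mem_image_maxEA p (T : Subgroup Y) _).mp ⟨A'', hA'', rfl⟩
        have := centerThompsonOf_commute_mem hAmem (hDZ (hcomm_map d hd))
          (Subgroup.mem_map_of_mem (T : Subgroup Y).subtype ha)
        simpa using this)
    have hA : A'.map (T : Subgroup Y).subtype ∈ EA p (T : Subgroup Y) :=
      (mem_image_maxEA p (T : Subgroup Y) _).mp ⟨A', hA', rfl⟩
    have hBNA : B ≤ Subgroup.normalizer ((A'.map (T : Subgroup Y).subtype : Subgroup Y) : Set Y) := by
      intro x hx
      have hx' : (⟨x, hBT hx⟩ : ↥(T : Subgroup Y)) ∈ Subgroup.normalizer (A' : Set ↥(T : Subgroup Y)) :=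
        hBA' (by rw [Subgroup.mem_subgroupOf]; exact hx)
      exact Subgroup.le_normalizer_map (T : Subgroup Y).subtype ⟨_, hx', rfl⟩
    generalize A'.map (T : Subgroup Y).subtype = A at hA hBNA
    have hAc : IsMulCommutative A := hA.2.1.1
    -- `p`-stability
    obtain ⟨K, hKn, hCK, hquad, hKTC, hfrat, hRK⟩ := exists_stab_frattini hecn T B hBp
    have := hKn
    have hAK : A ≤ K := by
      intro a ha
      apply hquad a
      have hza : Subgroup.zpowers a ≤ A := (Subgroup.zpowers_le).mpr ha
      have h1 : ⁅B, Subgroup.zpowers a⁆ ≤ A :=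
        (Subgroup.commutator_mono le_rfl hza).trans
          (Subgroup.le_normalizer_iff_commutator_le_right.mp hBNA)
      rw [eq_bot_iff]
      calc ⁅⁅B, Subgroup.zpowers a⁆, Subgroup.zpowers a⁆ ≤ ⁅A, A⁆ := Subgroup.commutator_mono h1 hza
        _ = ⊥ := Subgroup.commutator_self_eq_bot_iff.mpr hAc
    by_cases hH : Subgroup.normalizer ((((T : Subgroup Y) ⊓ K : Subgroup Y)) : Set Y) = ⊤
    swap
    · have h1 := IH _ (le_normalizer_inf_of_normal (T : Subgroup Y) K) hH
      have hNT : Subgroup.normalizer ((((T : Subgroup Y) ⊓ K : Subgroup Y)) : Set Y) ≤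
          Subgroup.normalizer ((centerThompsonOf p (T : Subgroup Y) ⊓ B : Subgroup Y) : Set Y) := by
        intro g hg
        have hgZ := h1 hg
        rw [Subgroup.mem_normalizer_iff] at hgZ ⊢
        intro x
        constructor
        · rintro ⟨hx1, hx2⟩; exact ⟨(hgZ x).mp hx1, hBn.conj_mem x hx2 g⟩
        · rintro ⟨hx1, hx2⟩
          refine ⟨(hgZ x).mpr hx1, ?_⟩
          have := hBn.conj_mem _ hx2 g⁻¹
          simpa [mul_assoc] using this
      have hNC : Subgroup.centralizer (B : Set Y) ≤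
          Subgroup.normalizer ((centerThompsonOf p (T : Subgroup Y) ⊓ B : Subgroup Y) : Set Y) := by
        intro c hc'
        apply Subgroup.mem_normalizer_fintype
        intro x hx
        have hxB : x ∈ B := hx.2
        have h1 : x * c = c * x := Subgroup.mem_centralizer_iff.mp hc' x hxB
        have : c * x * c⁻¹ = x := by rw [← h1]; group
        rw [this]; exact hx
      rw [← Subgroup.normalizer_eq_top_iff, eq_top_iff, ← hfrat]
      exact sup_le hNT hNC
    · have hTKn : ((T : Subgroup Y) ⊓ K).Normal := Subgroup.normalizer_eq_top_iff.mp hH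
      have hTKR : (T : Subgroup Y) ⊓ K ≤ pCore p Y :=
        Cfsg.Agent.Lib.Helper97.le_pCore_of_normal hTKn (T.isPGroup'.to_le inf_le_left)
      have hAR : A ≤ pCore p Y := (le_inf hA.1 hAK).trans hTKR
      have hZn := centerThompsonOf_normal_of_mem_le_pCore hp hecn hc T IH hA hAR
      infer_instance

/-- **Step C.** The inductive step: `Z(J_e(T))` is normal, given the statement for proper subgroups
containing `T`. -/
theorem centerThompsonOf_normal_of_IH [Finite Y] {p : ℕ} [Fact p.Prime] (hp : p ≠ 2)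
    (hecn : ECN p Y) (hc : Subgroup.centralizer (pCore p Y : Set Y) ≤ pCore p Y) (T : Sylow p Y)
    (IH : ∀ H : Subgroup Y, (T : Subgroup Y) ≤ H → H ≠ ⊤ →
      H ≤ Subgroup.normalizer (centerThompsonOf p (T : Subgroup Y) : Set Y)) :
    (centerThompsonOf p (T : Subgroup Y)).Normal := by
  have hRp : IsPGroup p (pCore p Y) := Cfsg.Agent.Lib.Helper97.isPGroup_pCore p Y
  have hRn : (pCore p Y).Normal := inferInstance
  have hRT : pCore p Y ≤ (T : Subgroup Y) := Cfsg.Agent.Lib.Helper97.pCore_le_sylow' T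
  have hTNZ := le_normalizer_centerThompsonOf p (T : Subgroup Y)
  have h1 := centerThompsonOf_inf_normal hp hecn hc T IH _ (pCore p Y) le_rfl hRn hRp
  have hZR : centerThompsonOf p (T : Subgroup Y) ≤ pCore p Y := by
    intro z hz
    have hzz : Subgroup.zpowers z ≤ centerThompsonOf p (T : Subgroup Y) := (Subgroup.zpowers_le).mpr hz
    have hquad : ⁅⁅pCore p Y, Subgroup.zpowers z⁆, Subgroup.zpowers z⁆ = ⊥ := by
      have h2 : ⁅pCore p Y, Subgroup.zpowers z⁆ ≤ centerThompsonOf p (T : Subgroup Y) :=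
        (Subgroup.commutator_mono le_rfl hzz).trans
          (Subgroup.le_normalizer_iff_commutator_le_right.mp (hRT.trans hTNZ))
      rw [eq_bot_iff, Subgroup.commutator_le]
      intro x hx y hy
      rw [Subgroup.mem_bot, commutatorElement_eq_one_iff_commute]
      exact centerThompsonOf_comm (h2 hx) (hzz hy)
    have hN := hecn (pCore p Y) hRn hRp z hquad
    have hNp : IsPGroup p ↥(Subgroup.normalClosure ({z} : Set Y)) := by
      rintro ⟨y, hy⟩
      obtain ⟨k, hk⟩ := hN y hy
      obtain ⟨m, hm⟩ := hRp ⟨y ^ p ^ k, hc hk⟩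
      refine ⟨k + m, Subtype.ext ?_⟩
      have hm' : (y ^ p ^ k) ^ p ^ m = 1 := by
        have := congrArg Subtype.val hm
        simpa using this
      rw [Subgroup.coe_pow, Subgroup.coe_one, pow_add, pow_mul]
      exact hm'
    exact Cfsg.Agent.Lib.Helper97.le_pCore_of_normal Subgroup.normalClosure_normal hNp
      (Subgroup.subset_normalClosure (Set.mem_singleton z))
  rw [inf_of_le_left hZR] at h1
  exact h1

end Cfsg.Agent.Lib.Helper29
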