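import Mathlib
import Cfsg.Agent.Lib.Helper29.ZJE5

/-!
# The ZJ-theorem for `Z(J_e(T))` (full centre, elementary-abelian Thompson subgroup) (helper29)

`zje_normal`: `p` odd, `Y` finite with `C_Y(O_p(Y)) ≤ O_p(Y)` and all sections `p`-stable in the elementary
form (`SecProp (ECN p) Y`): then `centerThompsonOf p T` is normal in `Y` for every Sylow `p`-subgroup `T`.
`zjeFun_normal`: the same for `inducedFunctor (zjeFun p) T`.
-/

set_option autoImplicit false

namespace Cfsg.Agent.Lib.Helper29

open Cfsg Cfsg.Agent.Lib.Helper11 Cfsg.Agent.Lib.Helper33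

universe u

/-- a subgroup containing `O_p(Y)` of a constrained group is constrained -/
theorem constrained_subgroup {Y : Type u} [Group Y] [Finite Y] {p : ℕ} [Fact p.Prime]
    (hc : Subgroup.centralizer (pCore p Y : Set Y) ≤ pCore p Y) (H : Subgroup Y)
    (hRH : pCore p Y ≤ H) :
    Subgroup.centralizer (pCore p ↥H : Set ↥H) ≤ pCore p ↥H := by
  have hRp : IsPGroup p (pCore p Y) := Cfsg.Agent.Lib.Helper97.isPGroup_pCore p Y
  have hR'n : ((pCore p Y).subgroupOf H).Normal := inferInstance
  have hR'p : IsPGroup p ↥((pCore p Y).subgroupOf H) := hRp.comap_subtype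
  have hR' : (pCore p Y).subgroupOf H ≤ pCore p ↥H :=
    Cfsg.Agent.Lib.Helper97.le_pCore_of_normal hR'n hR'p
  intro x hx
  apply hR'
  rw [Subgroup.mem_subgroupOf]
  apply hc
  rw [Subgroup.mem_centralizer_iff]
  intro r hr
  have h1 := Subgroup.mem_centralizer_iff.mp hx ⟨r, hRH hr⟩
    (hR' (by rw [Subgroup.mem_subgroupOf]; exact hr))
  have h2 := congrArg Subtype.val h1
  simpa using h2

/-- **The ZJ-theorem for `Z(J_e(T))`.** -/
theorem zje_normal {p : ℕ} [Fact p.Prime] (hp : p ≠ 2) :
    ∀ (n : ℕ) (Y : Type u) [Group Y] [Finite Y], Nat.card Y ≤ n → SecProp (ECN p) Y →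
      Subgroup.centralizer (pCore p Y : Set Y) ≤ pCore p Y → ∀ T : Sylow p Y,
        (centerThompsonOf p (T : Subgroup Y)).Normal := by
  intro n
  induction n with
  | zero =>
    intro Y _ _ hn
    have := Nat.card_pos (α := Y)
    omega
  | succ n ih =>
    intro Y _ _ hcard hsec hc T
    apply centerThompsonOf_normal_of_IH hp hsec.self hc T
    intro H hTH hH
    have hlt : Nat.card ↥H < Nat.card Y := by
      by_contra hcon
      push Not at hcon
      apply hH
      exact Subgroup.eq_top_of_le_card H hcon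
    have hRT : pCore p Y ≤ (T : Subgroup Y) := Cfsg.Agent.Lib.Helper97.pCore_le_sylow' T
    have hcH := constrained_subgroup hc H (hRT.trans hTH)
    have hN := ih ↥H (by omega) (hsec.subgroup H) hcH (T.subtype hTH)
    rw [Sylow.coe_subtype] at hN
    -- transport to `Y`
    have hT'p : IsPGroup p ↥((T : Subgroup Y).subgroupOf H) := T.isPGroup'.comap_subtype
    have hmap := Cfsg.Agent.Lib.Helper34.inducedFunctor_map_of_injOn (zjeFun p)
      (isCharPFunctor_zjeFun p) H.subtype ((T : Subgroup Y).subgroupOf H) hT'p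
      (fun x _ hx => by
        apply Subtype.ext
        simpa using hx)
    rw [Subgroup.map_subgroupOf_eq_of_le hTH, inducedFunctor_zjeFun, inducedFunctor_zjeFun] at hmap
    rw [hmap]
    have h1 := Subgroup.le_normalizer_map (H := centerThompsonOf p ((T : Subgroup Y).subgroupOf H))
      H.subtype
    rw [Subgroup.normalizer_eq_top_iff.mpr hN, ← MonoidHom.range_eq_map, Subgroup.range_subtype] at h1
    exact h1

/-- The ZJ-theorem for the functor `zjeFun`. -/
theorem zjeFun_normal {p : ℕ} [Fact p.Prime] (hp : p ≠ 2) (Y : Type u) [Group Y] [Finite Y]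
    (hsec : SecProp (ECN p) Y) (hc : Constrained p Y) (T : Sylow p Y) :
    (inducedFunctor (zjeFun p) (T : Subgroup Y)).Normal := by
  rw [inducedFunctor_zjeFun]
  exact zje_normal hp _ Y le_rfl hsec hc T

end Cfsg.Agent.Lib.Helper29
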