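import Mathlib
import Cfsg.Prelude.Def_TwoFusion
import Cfsg.Prelude.Def_CaseTheorems

/-!
Consequences of Glauberman's Z*-theorem, stated with the theorem as an explicit hypothesis
`ZStarStatement` (the statement of S0215 for one universe), so that they can be instantiated as
soon as S0215 is available.
-/

set_option autoImplicit false

namespace Cfsg.Agent.Lib.Helper29

open Cfsg

universe u

/-- The statement of Glauberman's Z*-theorem for groups in universe `u`. -/
def ZStarStatement : Prop :=
  ∀ (Γ : Type u) [Group Γ] [Finite Γ] (P : Sylow 2 Γ) (t : Γ), orderOf t = 2 → t ∈ P →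
    (∀ g : Γ, g * t * g⁻¹ ∈ P → g * t * g⁻¹ = t) →
    ∃ N : Subgroup Γ, N.Normal ∧ Odd (Nat.card N) ∧ ∀ g : Γ, t * g * t⁻¹ * g⁻¹ ∈ N

section

variable {G : Type u} [Group G] [Finite G]

/-- An isolated involution (in the commuting sense) is central in every 2-subgroup containing it,
hence is the only one of its conjugates in any Sylow 2-subgroup containing it. -/
theorem isolated_unique_in_sylow {z : G} (hz : Cfsg.IsIsolatedInvolution z) (P : Sylow 2 G)
    (hzP : z ∈ P) : ∀ g : G, g * z * g⁻¹ ∈ P → g * z * g⁻¹ = z := by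
  classical
  -- z is central in P
  have hcen : ∀ x ∈ (P : Subgroup G), x * z = z * x := by
    set zP : ↥(P : Subgroup G) := ⟨z, hzP⟩ with hzPdef
    haveI : Fact (Nat.Prime 2) := ⟨Nat.prime_two⟩
    haveI : Group.IsNilpotent ↥(P : Subgroup G) := P.isPGroup'.isNilpotent
    set C : Subgroup ↥(P : Subgroup G) := Subgroup.centralizer {zP} with hC
    by_cases htop : C = ⊤
    · intro x hx
      have : (⟨x, hx⟩ : ↥(P : Subgroup G)) ∈ C := by rw [htop]; exact Subgroup.mem_top _
      rw [hC, Subgroup.mem_centralizer_singleton_iff] at this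
      exact congrArg Subtype.val this
    · exfalso
      have hlt : C < ⊤ := lt_top_iff_ne_top.mpr htop
      have hnc := Group.normalizerCondition_of_isNilpotent (G := ↥(P : Subgroup G)) C hlt
      obtain ⟨q, hqN, hqC⟩ := SetLike.exists_of_lt hnc
      have hzC : zP ∈ C := by
        rw [hC, Subgroup.mem_centralizer_singleton_iff]
      have hq := (Subgroup.mem_normalizer_iff.mp hqN zP).mp hzC
      -- q zP q⁻¹ ∈ C, so it commutes with zP
      rw [hC, Subgroup.mem_centralizer_singleton_iff] at hq
      have hcomm : Commute z ((q : G) * z * (q : G)⁻¹) := by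
        have := congrArg Subtype.val hq
        simp only [Subgroup.coe_mul, Subgroup.coe_inv, hzPdef] at this
        exact this.symm
      have heq := hz.2 (q : G) hcomm
      apply hqC
      rw [hC, Subgroup.mem_centralizer_singleton_iff]
      apply Subtype.ext
      simp only [Subgroup.coe_mul, hzPdef]
      calc (q : G) * z = ((q : G) * z * (q : G)⁻¹) * (q : G) := by group
        _ = z * (q : G) := by rw [heq]
  intro g hg
  apply hz.2 g
  exact (hcen _ hg).symm

/-- **Z\*-theorem, isolated-involution form.** -/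
theorem oddCore_of_isolated (hZ : ZStarStatement.{u}) (z : G)
    (hz : Cfsg.IsIsolatedInvolution z) : ∀ g : G, z * g * z⁻¹ * g⁻¹ ∈ Cfsg.oddCore G := by
  haveI : Fact (Nat.Prime 2) := ⟨Nat.prime_two⟩
  have hzp : IsPGroup 2 (Subgroup.zpowers z) := by
    apply IsPGroup.of_card (n := 1)
    rw [Nat.card_zpowers, hz.1, pow_one]
  obtain ⟨P, hP⟩ := hzp.exists_le_sylow
  have hzP : z ∈ P := hP (Subgroup.mem_zpowers z)
  obtain ⟨N, hN, hodd, hcomm⟩ := hZ G P z hz.1 hzP (isolated_unique_in_sylow hz P hzP)
  have hle : N ≤ Cfsg.oddCore G := le_sSup ⟨hN, hodd.coprime_two_right⟩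
  intro g
  exact hle (hcomm g)

end

end Cfsg.Agent.Lib.Helper29
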