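import Mathlib

set_option autoImplicit false

namespace Cfsg.Agent.Lib.Helper29

/-- A normal subgroup `K` of odd order and 2-power index in a normal subgroup `G₀` of `G` is
normal in `G`. -/
theorem normal_map_of_odd {G : Type*} [Group G] [Finite G] (G₀ : Subgroup G) [G₀.Normal]
    (K : Subgroup G₀) [K.Normal] (hodd : Odd (Nat.card K)) (j : ℕ) (hidx : K.index = 2 ^ j) :
    (K.map G₀.subtype).Normal := by
  -- elements of odd order of `G₀` lie in `K`
  have hmem : ∀ y : G₀, Odd (orderOf y) → y ∈ K := by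
    intro y hy
    have h1 : orderOf (QuotientGroup.mk' K y) ∣ orderOf y := orderOf_map_dvd _ y
    have h2 : orderOf (QuotientGroup.mk' K y) ∣ 2 ^ j := by
      rw [← hidx, Subgroup.index_eq_card]
      exact orderOf_dvd_natCard _
    have h3 : Nat.Coprime (orderOf y) (2 ^ j) :=
      (Nat.Coprime.pow_left j (Nat.coprime_two_left.mpr hy)).symm
    have h4 : orderOf (QuotientGroup.mk' K y) = 1 :=
      Nat.eq_one_of_dvd_coprimes h3 h1 h2
    rw [orderOf_eq_one_iff] at h4
    rwa [← QuotientGroup.ker_mk' K, MonoidHom.mem_ker]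
  refine ⟨fun x hx g => ?_⟩
  obtain ⟨k, hk, rfl⟩ := Subgroup.mem_map.mp hx
  have hmemG₀ : g * (k : G) * g⁻¹ ∈ G₀ := ‹G₀.Normal›.conj_mem _ k.2 g
  refine Subgroup.mem_map.mpr ⟨⟨g * (k : G) * g⁻¹, hmemG₀⟩, ?_, rfl⟩
  apply hmem
  rw [Subgroup.orderOf_mk]
  have h5 : orderOf (g * (k : G) * g⁻¹) = orderOf k := by
    rw [← Subgroup.orderOf_coe k]
    exact orderOf_injective (MulAut.conj g).toMonoidHom (MulAut.conj g).injective (k : G)
  rw [h5]
  have h6 : orderOf (⟨k, hk⟩ : K) = orderOf k := Subgroup.orderOf_mk k hk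
  rw [← h6]
  exact Odd.of_dvd_nat hodd (orderOf_dvd_natCard _)

/-- every `p`-subgroup is conjugate into a given Sylow `p`-subgroup (elementwise form). -/
theorem exists_conj_mem_sylow {J : Type*} [Group J] [Finite J] {p : ℕ} [Fact p.Prime]
    (P : Sylow p J) (R : Subgroup J) (hR : IsPGroup p R) :
    ∃ k : J, ∀ r ∈ R, k⁻¹ * r * k ∈ (P : Subgroup J) := by
  obtain ⟨Q, hQ⟩ := hR.exists_le_sylow
  obtain ⟨k, hk⟩ := MulAction.exists_smul_eq J P Q
  refine ⟨k, fun r hr => ?_⟩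
  have h1 : r ∈ (Q : Subgroup J) := hQ hr
  rw [← hk, Sylow.coe_subgroup_smul, Subgroup.mem_pointwise_smul_iff_inv_smul_mem] at h1
  simpa [MulAut.smul_def, MulAut.conj_apply] using h1

/-- relative version: if a Sylow subgroup `U` of `G` lies in `H`, every `p`-subgroup of `H` is
`H`-conjugate into `U`. -/
theorem exists_conj_mem_sylow_of_le {J : Type*} [Group J] [Finite J] {p : ℕ} [Fact p.Prime]
    (U : Sylow p J) (H : Subgroup J) (hUH : (U : Subgroup J) ≤ H) (D : Subgroup J) (hDH : D ≤ H)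
    (hD : IsPGroup p D) :
    ∃ c ∈ H, ∀ d ∈ D, c⁻¹ * d * c ∈ (U : Subgroup J) := by
  obtain ⟨k, hk⟩ := exists_conj_mem_sylow (U.subtype hUH) (D.subgroupOf H) hD.comap_subtype
  refine ⟨k, k.2, fun d hd => ?_⟩
  have := hk ⟨d, hDH hd⟩ (by simpa [Subgroup.mem_subgroupOf] using hd)
  rw [Sylow.coe_subtype, Subgroup.mem_subgroupOf] at this
  simpa using this

theorem conj_inv_smul {G : Type*} [Group G] (g x : G) :
    (MulAut.conj g)⁻¹ • x = g⁻¹ * x * g := by
  simp [MulAut.smul_def]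

end Cfsg.Agent.Lib.Helper29
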