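import Mathlib
import Cfsg.Agent.Lib.Helper29.ZStarCor
import Cfsg.Agent.Lib.Helper97.Cores
import Cfsg.Agent.Lib.Helper29.SylowConjAux

set_option autoImplicit false

namespace Cfsg.Agent.Lib.Helper29

open Cfsg
open scoped Pointwise

universe u

section

variable {G : Type u} [Group G] [Finite G]

/-- Powers of a weakly closed element of a Sylow subgroup are weakly closed. -/
theorem weaklyClosed_of_mem_zpowers {p : ℕ} [Fact p.Prime] (P : Sylow p G) {x : G} (hxP : x ∈ P)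
    (hx : ∀ g : G, g * x * g⁻¹ ∈ P → g * x * g⁻¹ = x) {y : G} (hy : y ∈ Subgroup.zpowers x) :
    ∀ g : G, g * y * g⁻¹ ∈ P → g * y * g⁻¹ = y := by
  classical
  have hxc : ∀ s ∈ (P : Subgroup G), s * x = x * s := by
    intro s hs
    have h1 := hx s ((P : Subgroup G).mul_mem ((P : Subgroup G).mul_mem hs hxP) ((P : Subgroup G).inv_mem hs))
    calc s * x = (s * x * s⁻¹) * s := by group
      _ = x * s := by rw [h1]
  have hyc : ∀ s : G, s * x = x * s → s * y = y * s := by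
    intro s hs
    obtain ⟨k, rfl⟩ := Subgroup.mem_zpowers_iff.mp hy
    have : Commute s x := hs
    exact (this.zpow_right k).eq
  intro g hv
  set v : G := g * y * g⁻¹ with hvdef
  set D : Subgroup G := Subgroup.centralizer ({v} : Set G) with hD
  have hle : ((g • P : Sylow p G) : Subgroup G) ≤ D := by
    intro t ht
    rw [Sylow.coe_subgroup_smul, Subgroup.mem_pointwise_smul_iff_inv_smul_mem] at ht
    have ht' : g⁻¹ * t * g ∈ (P : Subgroup G) := by
      rwa [Cfsg.Agent.Lib.Helper29.conj_inv_smul] at ht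
    have h1 := hyc _ (hxc _ ht')
    rw [hD, Subgroup.mem_centralizer_singleton_iff, hvdef]
    calc t * (g * y * g⁻¹) = g * ((g⁻¹ * t * g) * y) * g⁻¹ := by group
      _ = g * (y * (g⁻¹ * t * g)) * g⁻¹ := by rw [h1]
      _ = g * y * g⁻¹ * t := by group
  have hxD : x ∈ D := by
    rw [hD, Subgroup.mem_centralizer_singleton_iff]
    exact (hxc v hv).symm
  have hxp : IsPGroup p (Subgroup.zpowers x) :=
    P.isPGroup'.to_le (by rw [Subgroup.zpowers_le]; exact hxP)
  obtain ⟨c, hcD, hc⟩ := Cfsg.Agent.Lib.Helper29.exists_conj_mem_sylow_of_le (g • P) D hle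
    (Subgroup.zpowers x) (by rw [Subgroup.zpowers_le]; exact hxD) hxp
  have h1 : c⁻¹ * x * c ∈ ((g • P : Sylow p G) : Subgroup G) := hc x (Subgroup.mem_zpowers x)
  rw [Sylow.coe_subgroup_smul, Subgroup.mem_pointwise_smul_iff_inv_smul_mem] at h1
  have h2 : (g⁻¹ * c⁻¹) * x * (g⁻¹ * c⁻¹)⁻¹ ∈ (P : Subgroup G) := by
    have : (g⁻¹ * c⁻¹) * x * (g⁻¹ * c⁻¹)⁻¹ = g⁻¹ * (c⁻¹ * x * c) * g := by group
    rw [this]
    rwa [Cfsg.Agent.Lib.Helper29.conj_inv_smul] at h1
  have h3 := hx _ h2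
  -- (c g) commutes with x
  have h4 : (c * g) * x = x * (c * g) := by
    calc (c * g) * x = (c * g) * ((g⁻¹ * c⁻¹) * x * (g⁻¹ * c⁻¹)⁻¹) := by rw [h3]
      _ = x * (c * g) := by group
  have h5 := hyc _ h4
  have h6 : c * v = v * c := Subgroup.mem_centralizer_singleton_iff.mp hcD
  calc v = c * v * c⁻¹ := by rw [h6]; group
    _ = (c * g) * y * (c * g)⁻¹ := by rw [hvdef]; group
    _ = y := by rw [h5]; group

omit [Finite G] in
theorem eq_one_of_pow_two_pow_of_mem_odd {g : G} {k : ℕ} (hg : g ^ (2 ^ k) = 1) (N : Subgroup G)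
    [Finite N] (hN : Odd (Nat.card N)) (hgN : g ∈ N) : g = 1 := by
  have h1 : orderOf g ∣ 2 ^ k := orderOf_dvd_of_pow_eq_one hg
  have h2 : orderOf (⟨g, hgN⟩ : N) ∣ Nat.card N := orderOf_dvd_natCard _
  rw [Subgroup.orderOf_mk] at h2
  have h3 : (Nat.card N).Coprime (2 ^ k) := (hN.coprime_two_right).pow_right k
  have h4 : orderOf g = 1 := Nat.eq_one_of_dvd_coprimes h3 h2 h1
  exact orderOf_eq_one_iff.mp h4

omit [Finite G] in
/-- A nontrivial element of a 2-group has an involution among its powers. -/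
theorem exists_involution_zpowers (P : Sylow 2 G) {x : G} (hxP : x ∈ P) (hx1 : x ≠ 1) :
    ∃ u ∈ Subgroup.zpowers x, orderOf u = 2 := by
  obtain ⟨k, hk⟩ := P.isPGroup' ⟨x, hxP⟩
  have hk' : x ^ (2 ^ k) = 1 := by
    have := congrArg Subtype.val hk
    simpa using this
  obtain ⟨j, hjk, hj⟩ := (Nat.dvd_prime_pow Nat.prime_two).mp (orderOf_dvd_of_pow_eq_one hk')
  have hj0 : j ≠ 0 := by
    rintro rfl
    rw [pow_zero, orderOf_eq_one_iff] at hj
    exact hx1 hj
  refine ⟨x ^ (2 ^ (j - 1)), Subgroup.npow_mem_zpowers x _, ?_⟩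
  rw [orderOf_pow_of_dvd (by positivity) (by rw [hj]; exact pow_dvd_pow 2 (Nat.sub_le j 1)), hj]
  have : 2 ^ j = 2 ^ (j - 1) * 2 := by
    rw [← pow_succ]; congr 1; omega
  rw [this, Nat.mul_div_cancel_left _ (by positivity)]

end

end Cfsg.Agent.Lib.Helper29
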