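import Mathlib
import Cfsg.Agent.Lib.Helper29.ZStarCor
import Cfsg.Agent.Lib.Helper97.Cores
import Cfsg.Agent.Lib.Helper29.SylowConjAux
import Cfsg.Agent.Lib.Helper29.ZStarEl1

set_option autoImplicit false

namespace Cfsg.Agent.Lib.Helper29

open Cfsg
open scoped Pointwise

universe u

theorem isPGroup_zpowers_of_pow_eq_one {G : Type*} [Group G] {g : G} {p k : ℕ}
    (h : g ^ (p ^ k) = 1) : IsPGroup p (Subgroup.zpowers g) := by
  rintro ⟨a, ha⟩
  obtain ⟨m, rfl⟩ := Subgroup.mem_zpowers_iff.mp ha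
  refine ⟨k, ?_⟩
  apply Subtype.ext
  simp only [Subgroup.coe_pow, Subgroup.coe_one]
  rw [← zpow_natCast, ← zpow_mul, mul_comm, zpow_mul, zpow_natCast, h, one_zpow]

theorem mem_zpowers_iff_of_mul_self {G : Type*} [Group G] {b : G} (hb : b * b = 1) (a : G) :
    a ∈ Subgroup.zpowers b ↔ a = 1 ∨ a = b := by
  constructor
  · intro h
    obtain ⟨k, rfl⟩ := Subgroup.mem_zpowers_iff.mp h
    obtain ⟨m, rfl | rfl⟩ := Int.even_or_odd' k
    · left
      rw [zpow_mul, zpow_two, hb, one_zpow]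
    · right
      rw [zpow_add, zpow_mul, zpow_two, hb, one_zpow, one_mul, zpow_one]
  · rintro (rfl | rfl)
    · exact one_mem _
    · exact Subgroup.mem_zpowers _

theorem zstar_element_aux (hZ : ZStarStatement.{u}) :
    ∀ (n : ℕ) (G : Type u) [Group G] [Finite G], Nat.card G = n → ∀ (P : Sylow 2 G) (x : G),
      x ∈ P → (∀ g : G, g * x * g⁻¹ ∈ P → g * x * g⁻¹ = x) →
      ∀ g : G, x * g * x⁻¹ * g⁻¹ ∈ Cfsg.oddCore G := by
  intro n
  induction n using Nat.strong_induction_on with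
  | _ n ih =>
  intro G _ _ hn P x hxP hx
  classical
  have : Fact (Nat.Prime 2) := ⟨Nat.prime_two⟩
  by_cases hx1 : x = 1
  · intro g
    subst hx1
    simp
  obtain ⟨u, huz, hu2⟩ := exists_involution_zpowers P hxP hx1
  have huP : u ∈ P := (Subgroup.zpowers_le.mpr hxP) huz
  have huw := weaklyClosed_of_mem_zpowers P hxP hx huz
  obtain ⟨N, hN, hNodd, hNc⟩ := hZ G P u hu2 huP huw
  set O : Subgroup G := Cfsg.oddCore G with hOdef
  have hOn : O.Normal := Cfsg.Agent.Lib.Helper97.pPrimeCore_normal 2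
  have hOodd : Odd (Nat.card O) := Cfsg.Agent.Lib.Helper97.odd_card_oddCore
  have hcu : ∀ g : G, u * g * u⁻¹ * g⁻¹ ∈ O := fun g =>
    (Cfsg.Agent.Lib.Helper97.le_oddCore_of_normal_of_odd hN hNodd) (hNc g)
  have hu1 : u ≠ 1 := by
    intro h
    rw [h, orderOf_one] at hu2
    exact absurd hu2 (by decide)
  have huu : u * u = 1 := by
    have := pow_orderOf_eq_one u
    rwa [hu2, sq] at this
  have huinv : u⁻¹ = u := inv_eq_of_mul_eq_one_left huu
  have hxc : ∀ s ∈ (P : Subgroup G), s * x = x * s := by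
    intro s hs
    have h1 := hx s ((P : Subgroup G).mul_mem ((P : Subgroup G).mul_mem hs hxP)
      ((P : Subgroup G).inv_mem hs))
    calc s * x = (s * x * s⁻¹) * s := by group
      _ = x * s := by rw [h1]
  -- the quotient maps
  let π₁ : G →* G ⧸ O := QuotientGroup.mk' O
  have hπ₁s : Function.Surjective π₁ := QuotientGroup.mk'_surjective O
  set ū : G ⧸ O := π₁ u with hū
  have hūc : ∀ a : G ⧸ O, a * ū = ū * a := by
    intro a
    obtain ⟨g, rfl⟩ := hπ₁s a
    rw [hū, ← map_mul, ← map_mul]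
    show ((g * u : G) : G ⧸ O) = ((u * g : G) : G ⧸ O)
    rw [QuotientGroup.eq]
    have h1 := hcu g⁻¹
    have h2 : (g * u)⁻¹ * (u * g) = u⁻¹ * (u * g⁻¹ * u⁻¹ * g⁻¹⁻¹)⁻¹ * u⁻¹⁻¹ := by group
    rw [h2]
    exact hOn.conj_mem _ (O.inv_mem h1) _
  have hū2 : ū * ū = 1 := by rw [hū, ← map_mul, huu, map_one]
  let Zb : Subgroup (G ⧸ O) := Subgroup.zpowers ū
  have hZbn : Zb.Normal := by
    constructor
    intro a ha b
    obtain ⟨k, rfl⟩ := Subgroup.mem_zpowers_iff.mp ha
    have : Commute b ū := hūc b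
    have h2 : b * ū ^ k * b⁻¹ = ū ^ k := by
      rw [(this.zpow_right k).eq]; group
    rw [h2]
    exact ha
  let π₂ : (G ⧸ O) →* (G ⧸ O) ⧸ Zb := QuotientGroup.mk' Zb
  let π : G →* (G ⧸ O) ⧸ Zb := π₂.comp π₁
  have hπs : Function.Surjective π :=
    (QuotientGroup.mk'_surjective Zb).comp hπ₁s
  have hker : ∀ g : G, π g = 1 ↔ g ∈ O ∨ u⁻¹ * g ∈ O := by
    intro g
    show π₂ (π₁ g) = 1 ↔ _
    rw [show π₂ (π₁ g) = ((π₁ g : G ⧸ O) : (G ⧸ O) ⧸ Zb) from rfl, QuotientGroup.eq_one_iff,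
      mem_zpowers_iff_of_mul_self hū2]
    constructor
    · rintro (h | h)
      · left
        exact (QuotientGroup.eq_one_iff g).mp h
      · right
        have : ((u : G) : G ⧸ O) = ((g : G) : G ⧸ O) := h.symm
        exact QuotientGroup.eq.mp this
    · rintro (h | h)
      · left
        exact (QuotientGroup.eq_one_iff g).mpr h
      · right
        have : ((u : G) : G ⧸ O) = ((g : G) : G ⧸ O) := QuotientGroup.eq.mpr h
        exact this.symm
  have hπu : π u = 1 := (hker u).mpr (Or.inr (by simp))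
  -- the image Sylow subgroup and weak closure there
  let Pt : Sylow 2 ((G ⧸ O) ⧸ Zb) := P.mapSurjective hπs
  have hcent : (P : Subgroup G) ⊔ O ≤ (Subgroup.centralizer ({π x} : Set ((G ⧸ O) ⧸ Zb))).comap π := by
    apply sup_le
    · intro s hs
      rw [Subgroup.mem_comap, Subgroup.mem_centralizer_singleton_iff, ← map_mul, ← map_mul,
        hxc s hs]
    · intro o ho
      rw [Subgroup.mem_comap, Subgroup.mem_centralizer_singleton_iff]
      have : π o = 1 := (hker o).mpr (Or.inl ho)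
      rw [this, one_mul, mul_one]
  have hxt : ∀ a : (G ⧸ O) ⧸ Zb, a * π x * a⁻¹ ∈ Pt → a * π x * a⁻¹ = π x := by
    intro a ha
    obtain ⟨g, rfl⟩ := hπs a
    set y : G := g * x * g⁻¹ with hy
    have hπy : π g * π x * (π g)⁻¹ = π y := by rw [hy, map_mul, map_mul, map_inv]
    rw [hπy] at ha ⊢
    have ha' : π y ∈ (P : Subgroup G).map π := ha
    obtain ⟨s, hs, hsy⟩ := ha'
    have hk : π (s⁻¹ * y) = 1 := by rw [map_mul, map_inv, hsy, inv_mul_cancel]
    have hyH : y ∈ (P : Subgroup G) ⊔ O := by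
      rcases (hker _).mp hk with h | h
      · have e : y = s * (s⁻¹ * y) := by group
        rw [e]
        exact mul_mem ((le_sup_left : (P : Subgroup G) ≤ _) hs) ((le_sup_right : O ≤ _) h)
      · have e : y = (s * u) * (u⁻¹ * (s⁻¹ * y)) := by group
        rw [e]
        exact mul_mem ((le_sup_left : (P : Subgroup G) ≤ _) (mul_mem hs huP))
          ((le_sup_right : O ≤ _) h)
    obtain ⟨k, hk2⟩ := P.isPGroup' ⟨x, hxP⟩
    have hk2' : x ^ (2 ^ k) = 1 := by
      have := congrArg Subtype.val hk2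
      simpa using this
    have hyk : y ^ (2 ^ k) = 1 := by
      rw [hy, conj_pow, hk2']; group
    obtain ⟨c, hcH, hc⟩ := Cfsg.Agent.Lib.Helper29.exists_conj_mem_sylow_of_le P ((P : Subgroup G) ⊔ O)
      le_sup_left (Subgroup.zpowers y) (by rw [Subgroup.zpowers_le]; exact hyH)
      (isPGroup_zpowers_of_pow_eq_one hyk)
    have h1 : c⁻¹ * y * c ∈ (P : Subgroup G) := hc y (Subgroup.mem_zpowers y)
    have h2 : (c⁻¹ * g) * x * (c⁻¹ * g)⁻¹ = x := by
      apply hx
      have e : (c⁻¹ * g) * x * (c⁻¹ * g)⁻¹ = c⁻¹ * y * c := by rw [hy]; group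
      rw [e]; exact h1
    have hyc : y = c * x * c⁻¹ := by
      calc y = c * ((c⁻¹ * g) * x * (c⁻¹ * g)⁻¹) * c⁻¹ := by rw [hy]; group
        _ = c * x * c⁻¹ := by rw [h2]
    have hcx : π c * π x = π x * π c :=
      Subgroup.mem_centralizer_singleton_iff.mp (hcent hcH)
    rw [hyc, map_mul, map_mul, map_inv, hcx]; group
  -- induction hypothesis
  have hcard : Nat.card ((G ⧸ O) ⧸ Zb) < n := by
    rw [← hn]
    have := Fintype.ofFinite G
    have := Fintype.ofFinite ((G ⧸ O) ⧸ Zb)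
    rw [Nat.card_eq_fintype_card, Nat.card_eq_fintype_card]
    apply Fintype.card_lt_of_surjective_not_injective π hπs
    intro hinj
    exact hu1 (hinj (by rw [hπu, map_one]))
  have hIH := ih _ hcard ((G ⧸ O) ⧸ Zb) rfl Pt (π x) (Subgroup.mem_map_of_mem π hxP) hxt
  -- the preimage M of the odd core of the quotient
  set Ot : Subgroup ((G ⧸ O) ⧸ Zb) := Cfsg.oddCore ((G ⧸ O) ⧸ Zb) with hOt
  have hOtn : Ot.Normal := Cfsg.Agent.Lib.Helper97.pPrimeCore_normal 2
  have hOtodd : Odd (Nat.card Ot) := Cfsg.Agent.Lib.Helper97.odd_card_oddCore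
  set M : Subgroup G := Ot.comap π with hM
  have hMn : M.Normal := hOtn.comap π
  have hxgM : ∀ g : G, x * g * x⁻¹ * g⁻¹ ∈ M := by
    intro g
    rw [hM, Subgroup.mem_comap]
    have := hIH (π g)
    simpa using this
  have huM : u ∈ M := by
    rw [hM, Subgroup.mem_comap, hπu]
    exact one_mem _
  have hOM : ∀ o ∈ O, o ∈ M := by
    intro o ho
    rw [hM, Subgroup.mem_comap, (hker o).mpr (Or.inl ho)]
    exact one_mem _
  set uM : ↥M := ⟨u, huM⟩ with huMdef
  have huM2 : uM * uM = 1 := Subtype.ext (by simpa using huu)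
  have huM1 : uM ≠ 1 := fun h => hu1 (congrArg Subtype.val h)
  obtain ⟨S, hS⟩ := (isPGroup_zpowers_of_pow_eq_one (g := uM) (p := 2) (k := 1)
    (by rw [pow_one, sq]; exact huM2)).exists_le_sylow
  have huS : uM ∈ S := hS (Subgroup.mem_zpowers uM)
  have hS2 : ∀ s : ↥M, s ∈ S → s = 1 ∨ s = uM := by
    intro s hs
    obtain ⟨k, hk⟩ := S.isPGroup' ⟨s, hs⟩
    have hk' : (s : G) ^ (2 ^ k) = 1 := by
      have := congrArg Subtype.val (congrArg Subtype.val hk)
      simpa using this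
    have hπs1 : π (s : G) = 1 :=
      eq_one_of_pow_two_pow_of_mem_odd (k := k) (by rw [← map_pow, hk', map_one]) Ot hOtodd s.2
    rcases (hker _).mp hπs1 with h | h
    · left
      apply Subtype.ext
      exact eq_one_of_pow_two_pow_of_mem_odd hk' O hOodd h
    · right
      have hmem : uM⁻¹ * s ∈ S := mul_mem (inv_mem huS) hs
      obtain ⟨k2, hk2⟩ := S.isPGroup' ⟨uM⁻¹ * s, hmem⟩
      have hk2' : (u⁻¹ * (s : G)) ^ (2 ^ k2) = 1 := by
        have := congrArg Subtype.val (congrArg Subtype.val hk2)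
        simpa using this
      have h1 : u⁻¹ * (s : G) = 1 := eq_one_of_pow_two_pow_of_mem_odd hk2' O hOodd h
      apply Subtype.ext
      show (s : G) = u
      calc (s : G) = u * (u⁻¹ * (s : G)) := by group
        _ = u := by rw [h1, mul_one]
  have hNC : Subgroup.normalizer (S : Set ↥M) ≤ Subgroup.centralizer (S : Set ↥M) := by
    intro m hm
    rw [Subgroup.mem_centralizer_iff]
    intro s hs
    rcases hS2 s hs with rfl | rfl
    · simp
    · have h1 : m * uM * m⁻¹ ∈ (S : Set ↥M) := (Subgroup.mem_set_normalizer_iff.mp hm uM).mp huS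
      rcases hS2 _ h1 with h | h
      · exfalso
        apply huM1
        calc uM = m⁻¹ * (m * uM * m⁻¹) * m := by group
          _ = 1 := by rw [h]; group
      · calc uM * m = (m * uM * m⁻¹) * m := by rw [h]
          _ = m * uM := by group
  set M₀ : Subgroup ↥M := (MonoidHom.transferSylow S hNC).ker with hM₀
  have hcompl : Subgroup.IsComplement' M₀ (S : Subgroup ↥M) :=
    MonoidHom.ker_transferSylow_isComplement' S hNC
  have hM₀odd : Odd (Nat.card M₀) := by
    have := MonoidHom.not_dvd_card_ker_transferSylow S hNC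
    exact Nat.odd_iff.mpr (Nat.two_dvd_ne_zero.mp this)
  obtain ⟨j, hj⟩ := S.isPGroup'.exists_card_eq
  have hidx : M₀.index = 2 ^ j := by rw [hcompl.symm.index_eq_card, hj]
  have hM₀n : (M₀.map M.subtype).Normal := Cfsg.Agent.Lib.Helper29.normal_map_of_odd M M₀ hM₀odd j hidx
  have hM₀card : Nat.card (M₀.map M.subtype) = Nat.card M₀ :=
    Nat.card_congr (M₀.equivMapOfInjective _ M.subtype_injective).toEquiv.symm
  have hM₀O : M₀.map M.subtype ≤ O :=
    Cfsg.Agent.Lib.Helper97.le_oddCore_of_normal_of_odd hM₀n (by rw [hM₀card]; exact hM₀odd)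
  -- every element of M lies in O or O u
  have hMdec : ∀ c ∈ M, c ∈ O ∨ c * u⁻¹ ∈ O := by
    intro c hc
    obtain ⟨⟨⟨m₀, hm₀⟩, ⟨s, hs⟩⟩, hms⟩ := hcompl.2 ⟨c, hc⟩
    have hms' : (m₀ : G) * (s : G) = c := congrArg Subtype.val hms
    have hm₀O : (m₀ : G) ∈ O := hM₀O ⟨m₀, hm₀, rfl⟩
    rcases hS2 s hs with h | h
    · left
      rw [← hms', h]
      simpa using hm₀O
    · right
      rw [← hms', h]
      simpa [huMdef] using hm₀O
  -- the centralizer of x modulo O
  set C₁ : Subgroup G := (Subgroup.centralizer ({π₁ x} : Set (G ⧸ O))).comap π₁ with hC₁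
  have hmemC₁ : ∀ g : G, g ∈ C₁ ↔ x * g * x⁻¹ * g⁻¹ ∈ O := by
    intro g
    rw [hC₁, Subgroup.mem_comap, Subgroup.mem_centralizer_singleton_iff, ← map_mul, ← map_mul]
    show ((g * x : G) : G ⧸ O) = ((x * g : G) : G ⧸ O) ↔ _
    rw [QuotientGroup.eq]
    constructor
    · intro h
      have e : x * g * x⁻¹ * g⁻¹ = (g * x) * ((g * x)⁻¹ * (x * g)) * (g * x)⁻¹ := by group
      rw [e]
      exact hOn.conj_mem _ h _
    · intro h
      have e : (g * x)⁻¹ * (x * g) = (g * x)⁻¹ * (x * g * x⁻¹ * g⁻¹) * (g * x)⁻¹⁻¹ := by group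
      rw [e]
      exact hOn.conj_mem _ h _
  have hnotC₁ : ∀ g : G, g ∉ C₁ → π₁ x * π₁ g * (π₁ x)⁻¹ = ū * π₁ g := by
    intro g hg
    rw [hmemC₁] at hg
    have h1 := (hMdec _ (hxgM g)).resolve_left hg
    have h2 : ((x * g * x⁻¹ * g⁻¹ * u⁻¹ : G) : G ⧸ O) = 1 := (QuotientGroup.eq_one_iff _).mpr h1
    have h3 : π₁ x * π₁ g * (π₁ x)⁻¹ * (π₁ g)⁻¹ * ū⁻¹ = 1 := by
      rw [hū, ← map_inv, ← map_inv, ← map_inv, ← map_mul, ← map_mul, ← map_mul, ← map_mul]
      exact h2
    calc π₁ x * π₁ g * (π₁ x)⁻¹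
        = (π₁ x * π₁ g * (π₁ x)⁻¹ * (π₁ g)⁻¹ * ū⁻¹) * ū * π₁ g := by group
      _ = ū * π₁ g := by rw [h3, one_mul]
  have hPC₁ : (P : Subgroup G) ≤ C₁ := by
    intro s hs
    rw [hmemC₁]
    have : x * s * x⁻¹ * s⁻¹ = 1 := by rw [← hxc s hs]; group
    rw [this]
    exact one_mem _
  have hC₁top : C₁ = ⊤ := by
    by_contra hne
    obtain ⟨a, ha⟩ : ∃ a : G, a ∉ C₁ := by
      by_contra hcon
      push Not at hcon
      exact hne (eq_top_iff.mpr fun g _ => hcon g)
    have hidx2 : C₁.index = 2 := by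
      rw [Subgroup.index_eq_two_iff]
      refine ⟨a, fun b => ?_⟩
      by_cases hb : b ∈ C₁
      · right
        refine ⟨hb, fun hba => ha ?_⟩
        have := C₁.mul_mem (C₁.inv_mem hb) hba
        simpa using this
      · left
        refine ⟨?_, hb⟩
        rw [hC₁, Subgroup.mem_comap, Subgroup.mem_centralizer_singleton_iff]
        have hb' := hnotC₁ b hb
        have ha' := hnotC₁ a ha
        have e : π₁ x * π₁ (b * a) * (π₁ x)⁻¹ = π₁ (b * a) := by
          calc π₁ x * π₁ (b * a) * (π₁ x)⁻¹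
              = (π₁ x * π₁ b * (π₁ x)⁻¹) * (π₁ x * π₁ a * (π₁ x)⁻¹) := by rw [map_mul]; group
            _ = (ū * π₁ b) * (ū * π₁ a) := by rw [hb', ha']
            _ = (π₁ b * ū) * ū * π₁ a := by rw [hūc (π₁ b)]; group
            _ = π₁ b * (ū * ū) * π₁ a := by group
            _ = π₁ (b * a) := by rw [hū2, mul_one, map_mul]
        calc π₁ (b * a) * π₁ x = (π₁ x * π₁ (b * a) * (π₁ x)⁻¹) * π₁ x := by rw [e]
          _ = π₁ x * π₁ (b * a) := by group
    have h1 : C₁.index ∣ (P : Subgroup G).index := Subgroup.index_dvd_of_le hPC₁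
    rw [hidx2] at h1
    exact P.not_dvd_index h1
  intro g
  rw [← hmemC₁, hC₁top]
  exact Subgroup.mem_top g

/-- **Z\*-theorem for 2-elements** (from the involution form): an element `x` of a Sylow
2-subgroup `P` that is the only `G`-conjugate of itself in `P` is central modulo `O(G)`. -/
theorem zstar_element (hZ : ZStarStatement.{u}) {G : Type u} [Group G] [Finite G] (P : Sylow 2 G)
    (x : G) (hxP : x ∈ P) (hx : ∀ g : G, g * x * g⁻¹ ∈ P → g * x * g⁻¹ = x) :
    ∀ g : G, x * g * x⁻¹ * g⁻¹ ∈ Cfsg.oddCore G :=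
  zstar_element_aux hZ _ G rfl P x hxP hx

end Cfsg.Agent.Lib.Helper29
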