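import Mathlib
import Cfsg.Prelude.Def_Involutions
import Cfsg.Agent.Lib.Helper21.StronglyEmbedded
import Cfsg.Agent.Lib.Helper21.ElemAbCent
import Cfsg.Agent.Lib.Helper32.AbCentDefs
import Cfsg.Agent.Lib.Helper51.UniqueOrderP

/-!
# S2202 module `[B]` (helper32's project, board #4377): basic structure of a group with abelian
involution centralizers and noncyclic, nonnormal Sylow 2-subgroup
-/

set_option autoImplicit false

namespace Cfsg.Agent.Lib.Helper29.AbCent

open Cfsg Cfsg.Agent.Lib.Helper32.AbCent Cfsg.Agent.Lib.Helper21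

set_option linter.unusedSectionVars false

variable {G : Type*} [Group G] [Finite G] {H M : Subgroup G}

/-- the centralizer of an involution is commutative, elementwise form -/
theorem comm_of_invCentAb (hG : InvCentAb G) {t : G} (ht : orderOf t = 2) {x y : G}
    (hx : x * t = t * x) (hy : y * t = t * y) : x * y = y * x := by
  have hxc : x ∈ Subgroup.centralizer ({t} : Set G) := by
    rw [Subgroup.mem_centralizer_singleton_iff]; exact hx
  have hyc : y ∈ Subgroup.centralizer ({t} : Set G) := by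
    rw [Subgroup.mem_centralizer_singleton_iff]; exact hy
  have hcomm := (hG t ht).is_comm.comm ⟨x, hxc⟩ ⟨y, hyc⟩
  exact congrArg Subtype.val hcomm

/-- if the involutions `s`, `t` commute then they have the same centralizer -/
theorem commute_iff_of_commute_involutions (hG : InvCentAb G) {s t : G} (hs : orderOf s = 2)
    (_ht : orderOf t = 2) (hst : s * t = t * s) {x : G} (hx : x * s = s * x) : x * t = t * x := by
  -- `x` and `t` both centralize `s`
  exact comm_of_invCentAb hG hs hx hst.symm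

/-- The data of the basic structure: a central involution `z` of `T`, with `M = C(z)`. -/
theorem basic_aux (hG : InvCentAb G) (T : Sylow 2 G) (hnc : ¬ IsCyclic (T : Subgroup G)) :
    ∃ z : G, z ∈ (T : Subgroup G) ∧ orderOf z = 2 ∧
      (T : Subgroup G) ≤ Subgroup.centralizer ({z} : Set G) ∧
      (∀ x ∈ Subgroup.centralizer ({z} : Set G), ∀ y ∈ Subgroup.centralizer ({z} : Set G),
        x * y = y * x) ∧
      (∀ t ∈ Subgroup.centralizer ({z} : Set G), orderOf t = 2 →
        ∀ g : G, g * t = t * g ↔ g ∈ Subgroup.centralizer ({z} : Set G)) := by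
  obtain ⟨z, hzT, hz2, hzc⟩ := eab_exists_central_involution (T := T) hnc
  refine ⟨z, hzT, hz2, ?_, ?_, ?_⟩
  · intro t ht
    rw [Subgroup.mem_centralizer_singleton_iff]
    exact hzc t ht
  · intro x hx y hy
    rw [Subgroup.mem_centralizer_singleton_iff] at hx hy
    exact comm_of_invCentAb hG hz2 hx hy
  · intro t ht ht2 g
    rw [Subgroup.mem_centralizer_singleton_iff] at ht
    rw [Subgroup.mem_centralizer_singleton_iff]
    constructor
    · intro hg
      exact commute_iff_of_commute_involutions hG ht2 hz2 ht hg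
    · intro hg
      exact commute_iff_of_commute_involutions hG hz2 ht2 ht.symm hg

/-- a `2`-subgroup of an abelian overgroup `M` of the Sylow `2`-subgroup `T` lies in `T` -/
theorem le_sylow_of_le_comm (T : Sylow 2 G) {M P : Subgroup G} (hTM : (T : Subgroup G) ≤ M)
    (hM : ∀ x ∈ M, ∀ y ∈ M, x * y = y * x) (hP : IsPGroup 2 P) (hPM : P ≤ M) :
    P ≤ (T : Subgroup G) := by
  have hPN : P ≤ Subgroup.normalizer ((T : Subgroup G) : Set G) := by
    intro x hx
    rw [Subgroup.mem_normalizer_iff]
    intro h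
    constructor
    · intro hh
      have : x * h * x⁻¹ = h := by
        rw [hM x (hPM hx) h (hTM hh)]; group
      rw [this]; exact hh
    · intro hh
      have hh' : x * h * x⁻¹ ∈ M := hTM hh
      have hhM : h ∈ M := by
        have : h = x⁻¹ * (x * h * x⁻¹) * x := by group
        rw [this]
        exact M.mul_mem (M.mul_mem (M.inv_mem (hPM hx)) hh') (hPM hx)
      have : x * h * x⁻¹ = h := by
        rw [hM x (hPM hx) h hhM]; group
      rw [this] at hh; exact hh
  have h3 : IsPGroup 2 (P ⊔ (T : Subgroup G) : Subgroup G) :=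
    IsPGroup.to_sup_of_normal_right' hP T.isPGroup' hPN
  have h4 := T.is_maximal' h3 le_sup_right
  rw [← h4]
  exact le_sup_left

/-- a noncyclic abelian Sylow `2`-subgroup has two distinct involutions -/
theorem exists_two_involutions (T : Sylow 2 G) (hnc : ¬ IsCyclic (T : Subgroup G))
    (hcomm : ∀ x ∈ (T : Subgroup G), ∀ y ∈ (T : Subgroup G), x * y = y * x) :
    ∃ a b : G, a ∈ (T : Subgroup G) ∧ b ∈ (T : Subgroup G) ∧ orderOf a = 2 ∧ orderOf b = 2 ∧
      a ≠ b := by
  by_contra hno
  push Not at hno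
  apply hnc
  have : Fact (Nat.Prime 2) := ⟨Nat.prime_two⟩
  apply Cfsg.Agent.Lib.Helper51.isCyclic_of_comm_uniqueOrderP (p := 2) T.isPGroup'
  · intro a b
    apply Subtype.ext
    exact hcomm a a.2 b b.2
  · intro A B hA hB
    have h2A : 2 ∣ Nat.card A := by rw [hA]
    have h2B : 2 ∣ Nat.card B := by rw [hB]
    obtain ⟨a, ha⟩ := exists_prime_orderOf_dvd_card' (G := A) 2 h2A
    obtain ⟨b, hb⟩ := exists_prime_orderOf_dvd_card' (G := B) 2 h2B
    have ha2 : orderOf ((a : (T : Subgroup G)) : G) = 2 := by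
      rw [Subgroup.orderOf_coe, Subgroup.orderOf_coe]; exact ha
    have hb2 : orderOf ((b : (T : Subgroup G)) : G) = 2 := by
      rw [Subgroup.orderOf_coe, Subgroup.orderOf_coe]; exact hb
    have hab : ((a : (T : Subgroup G)) : G) = ((b : (T : Subgroup G)) : G) :=
      hno _ _ (a : (T : Subgroup G)).2 (b : (T : Subgroup G)).2 ha2 hb2
    have hab' : (a : (T : Subgroup G)) = (b : (T : Subgroup G)) := Subtype.ext hab
    have hzA : Subgroup.zpowers (a : (T : Subgroup G)) = A := by
      apply Subgroup.eq_of_le_of_card_ge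
      · rw [Subgroup.zpowers_le]; exact a.2
      · rw [Nat.card_zpowers, Subgroup.orderOf_coe, ha, hA]
    have hzB : Subgroup.zpowers (b : (T : Subgroup G)) = B := by
      apply Subgroup.eq_of_le_of_card_ge
      · rw [Subgroup.zpowers_le]; exact b.2
      · rw [Nat.card_zpowers, Subgroup.orderOf_coe, hb, hB]
    rw [← hzA, ← hzB, hab']

/-- MODULE [B] -/
theorem basic (hG : InvCentAb G) (T : Sylow 2 G) (hnc : ¬ IsCyclic (T : Subgroup G))
    (hnn : ¬ (T : Subgroup G).Normal) :
    ∃ M : Subgroup G, (T : Subgroup G) ≤ M ∧ M ≤ Subgroup.normalizer ((T : Subgroup G) : Set G) ∧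
      (∀ h ∈ Subgroup.normalizer ((T : Subgroup G) : Set G), ∀ x ∈ M, h * x * h⁻¹ ∈ M) ∧
      (∀ x ∈ M, ∀ y ∈ M, x * y = y * x) ∧
      (∀ t ∈ Subgroup.normalizer ((T : Subgroup G) : Set G), orderOf t = 2 →
        t ∈ (T : Subgroup G) ∧ ∀ g : G, g * t = t * g → g ∈ M) ∧
      IsStronglyEmbedded (Subgroup.normalizer ((T : Subgroup G) : Set G)) ∧
      (∃ a b : G, a ∈ (T : Subgroup G) ∧ b ∈ (T : Subgroup G) ∧ orderOf a = 2 ∧ orderOf b = 2 ∧
        a ≠ b) := by
  obtain ⟨z, hzT, hz2, hTM, hMc, hcen⟩ := basic_aux hG T hnc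
  obtain ⟨M, hMdef⟩ : ∃ M : Subgroup G, M = Subgroup.centralizer ({z} : Set G) := ⟨_, rfl⟩
  rw [← hMdef] at hTM hMc hcen
  have hTcomm : ∀ x ∈ (T : Subgroup G), ∀ y ∈ (T : Subgroup G), x * y = y * x :=
    fun x hx y hy => hMc x (hTM hx) y (hTM hy)
  have hMN : M ≤ Subgroup.normalizer ((T : Subgroup G) : Set G) := by
    intro x hx
    rw [Subgroup.mem_normalizer_iff]
    intro h
    constructor
    · intro hh
      have : x * h * x⁻¹ = h := by
        rw [hMc x hx h (hTM hh)]; group
      rw [this]; exact hh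
    · intro hh
      have hh' : x * h * x⁻¹ ∈ M := hTM hh
      have hhM : h ∈ M := by
        have : h = x⁻¹ * (x * h * x⁻¹) * x := by group
        rw [this]
        exact M.mul_mem (M.mul_mem (M.inv_mem hx) hh') hx
      have : x * h * x⁻¹ = h := by
        rw [hMc x hx h hhM]; group
      rw [this] at hh; exact hh
  -- conjugation by `g` maps `M` into `M` as soon as some involution `s ∈ T` has `g s g⁻¹ ∈ T`
  have hconjM : ∀ g s : G, s ∈ (T : Subgroup G) → orderOf s = 2 → g * s * g⁻¹ ∈ (T : Subgroup G) →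
      ∀ x ∈ M, g * x * g⁻¹ ∈ M := by
    intro g s hsT hs2 hgs x hx
    have hs'2 : orderOf (g * s * g⁻¹) = 2 := orderOf_conj_eq_two hs2 g
    have h1 : x * s = s * x := (hcen s (hTM hsT) hs2 x).mpr hx
    apply (hcen (g * s * g⁻¹) (hTM hgs) hs'2 (g * x * g⁻¹)).mp
    calc g * x * g⁻¹ * (g * s * g⁻¹) = g * (x * s) * g⁻¹ := by group
      _ = g * (s * x) * g⁻¹ := by rw [h1]
      _ = g * s * g⁻¹ * (g * x * g⁻¹) := by group
  have hinvT : ∀ t ∈ Subgroup.normalizer ((T : Subgroup G) : Set G), orderOf t = 2 →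
      t ∈ (T : Subgroup G) := fun t htN ht2 => eab_involution_mem_of_mem_normalizer ht2 htN
  refine ⟨M, hTM, hMN, ?_, hMc, ?_, ?_, exists_two_involutions T hnc hTcomm⟩
  · intro h hh x hx
    have hzc : h * z * h⁻¹ ∈ (T : Subgroup G) :=
      ((Subgroup.mem_normalizer_iff.mp hh) z).mp hzT
    exact hconjM h z hzT hz2 hzc x hx
  · intro t htN ht2
    have htT := hinvT t htN ht2
    exact ⟨htT, fun g hg => (hcen t (hTM htT) ht2 g).mp hg⟩
  · have : Fact (Nat.Prime 2) := ⟨Nat.prime_two⟩
    obtain ⟨N, hNdef⟩ : ∃ N : Subgroup G, N = Subgroup.normalizer ((T : Subgroup G) : Set G) :=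
      ⟨_, rfl⟩
    rw [← hNdef]
    refine ⟨?_, ?_, ?_⟩
    · intro h
      rw [hNdef] at h
      exact hnn (Subgroup.normalizer_eq_top_iff.mp h)
    · have hzN : z ∈ N := by rw [hNdef]; exact Subgroup.le_normalizer hzT
      have h1 : orderOf (⟨z, hzN⟩ : N) ∣ Nat.card N := orderOf_dvd_natCard _
      rw [Subgroup.orderOf_mk, hz2] at h1
      exact even_iff_two_dvd.mpr h1
    · intro g hg
      by_contra hodd
      rw [Nat.not_odd_iff_even] at hodd
      have hdvd : 2 ∣ Nat.card ↥(N ⊓ N.map (MulAut.conj g).toMonoidHom) :=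
        even_iff_two_dvd.mp hodd
      obtain ⟨t, ht⟩ := exists_prime_orderOf_dvd_card'
        (G := ↥(N ⊓ N.map (MulAut.conj g).toMonoidHom)) 2 hdvd
      have ht2 : orderOf (t : G) = 2 := by rw [← ht, Subgroup.orderOf_coe]
      obtain ⟨htN, htNg⟩ := Subgroup.mem_inf.mp t.2
      rw [mem_map_conj_iff] at htNg
      have htN' : (t : G) ∈ Subgroup.normalizer ((T : Subgroup G) : Set G) := by
        rw [← hNdef]; exact htN
      have htNg' : g⁻¹ * (t : G) * g ∈ Subgroup.normalizer ((T : Subgroup G) : Set G) := by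
        rw [← hNdef]; exact htNg
      have htT : (t : G) ∈ (T : Subgroup G) := hinvT _ htN' ht2
      have ht2' : orderOf (g⁻¹ * (t : G) * g) = 2 := by
        have := orderOf_conj_eq_two ht2 g⁻¹
        simpa using this
      have htT' : g⁻¹ * (t : G) * g ∈ (T : Subgroup G) := hinvT _ htNg' ht2'
      -- conjugation by `g` and by `g⁻¹` preserve `M`
      have hgM : ∀ x ∈ M, g * x * g⁻¹ ∈ M := by
        have e : g * (g⁻¹ * (t : G) * g) * g⁻¹ = (t : G) := by group
        exact hconjM g (g⁻¹ * (t : G) * g) htT' ht2' (by rw [e]; exact htT)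
      have hgM' : ∀ x ∈ M, g⁻¹ * x * g ∈ M := by
        intro x hx
        have := hconjM g⁻¹ (t : G) htT ht2 (by simpa using htT') x hx
        simpa using this
      apply hg
      rw [hNdef, Subgroup.mem_normalizer_iff]
      intro h
      constructor
      · intro hh
        -- `g h g⁻¹` lies in the `2`-subgroup `g T g⁻¹ ≤ M`
        have hP : IsPGroup 2 ((T : Subgroup G).map (MulAut.conj g).toMonoidHom) :=
          T.isPGroup'.map _
        have hPM : (T : Subgroup G).map (MulAut.conj g).toMonoidHom ≤ M := by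
          rintro _ ⟨y, hy, rfl⟩
          exact hgM y (hTM hy)
        exact le_sylow_of_le_comm T hTM hMc hP hPM ⟨h, hh, rfl⟩
      · intro hh
        have hP : IsPGroup 2 ((T : Subgroup G).map (MulAut.conj g⁻¹).toMonoidHom) :=
          T.isPGroup'.map _
        have hPM : (T : Subgroup G).map (MulAut.conj g⁻¹).toMonoidHom ≤ M := by
          rintro _ ⟨y, hy, rfl⟩
          have := hgM' y (hTM hy)
          simpa using this
        have hmem : g⁻¹ * (g * h * g⁻¹) * g ∈ (T : Subgroup G) :=
          le_sylow_of_le_comm T hTM hMc hP hPM ⟨g * h * g⁻¹, hh, by simp⟩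
        have e : g⁻¹ * (g * h * g⁻¹) * g = h := by group
        rwa [e] at hmem

end Cfsg.Agent.Lib.Helper29.AbCent
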