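import Mathlib
import Cfsg.Prelude.Def_Involutions
import Cfsg.Agent.Lib.Helper32.AbCentDefs
import Cfsg.Agent.Lib.Helper97.CoprimeQuot
import Cfsg.Agent.Lib.Helper48.Generation
import Cfsg.Agent.Lib.Helper29.AbCentB

/-!
# S2202 modules `[A1]`, `[A2]` (helper32's project, board #4377)
-/

set_option autoImplicit false

namespace Cfsg.Agent.Lib.Helper29.AbCent

open Cfsg Cfsg.Agent.Lib.Helper32.AbCent

set_option linter.unusedSectionVars false

variable {G : Type*} [Group G] [Finite G] {H M : Subgroup G}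

/-- an element of order `2` of `G ⧸ K`, `K` of odd order, lifts to an element of order `2` -/
theorem exists_involution_lift (K : Subgroup G) [K.Normal] (hK : Odd (Nat.card K))
    (tb : G ⧸ K) (htb : orderOf tb = 2) : ∃ t : G, orderOf t = 2 ∧ (QuotientGroup.mk t : G ⧸ K) = tb := by
  obtain ⟨g, rfl⟩ := QuotientGroup.mk_surjective tb
  obtain ⟨k, hk⟩ := hK
  have hsq : (QuotientGroup.mk g : G ⧸ K) ^ 2 = 1 := by
    rw [← htb]; exact pow_orderOf_eq_one _
  have hg2 : g ^ 2 ∈ K := by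
    rw [← QuotientGroup.eq_one_iff]
    exact hsq
  have hg2k : (g ^ 2) ^ Nat.card K = 1 := by
    have := pow_card_eq_one' (G := K) (x := ⟨g ^ 2, hg2⟩)
    exact congrArg Subtype.val this
  refine ⟨g ^ Nat.card K, ?_, ?_⟩
  · apply orderOf_eq_prime
    · rw [← pow_mul, mul_comm, pow_mul]; exact hg2k
    · intro h1
      have h2 : (QuotientGroup.mk g : G ⧸ K) ^ Nat.card K = 1 := by
        rw [← QuotientGroup.mk_pow, h1]; rfl
      have h3 : (QuotientGroup.mk g : G ⧸ K) ^ Nat.card K = QuotientGroup.mk g := by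
        rw [hk, pow_succ, pow_mul, hsq, one_pow, one_mul]
      rw [h3] at h2
      rw [h2, orderOf_one] at htb
      omega
  · rw [QuotientGroup.mk_pow, hk, pow_succ, pow_mul, hsq, one_pow, one_mul]

/-- MODULE [A1] -/
theorem invCentAb_quotient (hG : InvCentAb G) (K : Subgroup G) [K.Normal] (hK : Odd (Nat.card K)) :
    InvCentAb (G ⧸ K) := by
  intro tb htb
  obtain ⟨t, ht, rfl⟩ := exists_involution_lift K hK tb htb
  have : Fact (Nat.Prime 2) := ⟨Nat.prime_two⟩
  have hV : IsPGroup 2 (Subgroup.zpowers t) := by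
    rw [IsPGroup.iff_card]
    exact ⟨1, by rw [Nat.card_zpowers, ht, pow_one]⟩
  have hcop : (Nat.card K).Coprime 2 := Nat.Coprime.symm (Nat.coprime_two_left.mpr hK)
  have key := Cfsg.Agent.Lib.Helper97.centralizer_map_mk_of_coprime (V := Subgroup.zpowers t)
    (N := K) hV hcop
  have hlift : ∀ x : G ⧸ K, x ∈ Subgroup.centralizer ({(QuotientGroup.mk t : G ⧸ K)} : Set (G ⧸ K)) →
      ∃ y : G, y * t = t * y ∧ (QuotientGroup.mk y : G ⧸ K) = x := by
    intro x hx
    have hx' : x ∈ Subgroup.centralizer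
        (((Subgroup.zpowers t).map (QuotientGroup.mk' K) : Subgroup (G ⧸ K)) : Set (G ⧸ K)) := by
      rw [Subgroup.mem_centralizer_iff]
      rintro _ ⟨v, hv, rfl⟩
      obtain ⟨n, rfl⟩ := Subgroup.mem_zpowers_iff.mp hv
      have hc : Commute (QuotientGroup.mk t : G ⧸ K) x :=
        (Subgroup.mem_centralizer_iff.mp hx) _ rfl
      have := (hc.zpow_left n)
      simpa using this.eq
    rw [key] at hx'
    obtain ⟨y, hy, rfl⟩ := hx'
    refine ⟨y, ?_, rfl⟩
    exact ((Subgroup.mem_centralizer_iff.mp hy) t (Subgroup.mem_zpowers t)).symm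
  refine ⟨⟨?_⟩⟩
  rintro ⟨a, ha⟩ ⟨b, hb⟩
  obtain ⟨x, hx, rfl⟩ := hlift a ha
  obtain ⟨y, hy, rfl⟩ := hlift b hb
  apply Subtype.ext
  have hxc : x ∈ Subgroup.centralizer ({t} : Set G) := by
    rw [Subgroup.mem_centralizer_iff]
    rintro _ rfl
    exact hx.symm
  have hyc : y ∈ Subgroup.centralizer ({t} : Set G) := by
    rw [Subgroup.mem_centralizer_iff]
    rintro _ rfl
    exact hy.symm
  have hcomm := (hG t ht).is_comm.comm ⟨x, hxc⟩ ⟨y, hyc⟩
  have hxy : x * y = y * x := congrArg Subtype.val hcomm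
  show (QuotientGroup.mk x : G ⧸ K) * QuotientGroup.mk y = QuotientGroup.mk y * QuotientGroup.mk x
  rw [← QuotientGroup.mk_mul, ← QuotientGroup.mk_mul, hxy]

/-- MODULE [A2] -/
theorem normal_odd_le_centralizer (hG : InvCentAb G) (T : Sylow 2 G)
    (hnc : ¬ IsCyclic (T : Subgroup G))
    (K : Subgroup G) [K.Normal] (hK : Odd (Nat.card K)) :
    K ≤ Subgroup.centralizer ((T : Subgroup G) : Set G) := by
  have : Fact (Nat.Prime 2) := ⟨Nat.prime_two⟩
  obtain ⟨z, hzT, hz2, hTM, hMc, hcen⟩ := basic_aux hG T hnc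
  have hTcomm : ∀ x ∈ (T : Subgroup G), ∀ y ∈ (T : Subgroup G), x * y = y * x :=
    fun x hx y hy => hMc x (hTM hx) y (hTM hy)
  obtain ⟨a, b, haT, hbT, ha2, hb2, hab⟩ := exists_two_involutions T hnc hTcomm
  -- `A = Ω₁(T)`
  let A : Subgroup G :=
    { carrier := {x | x ∈ (T : Subgroup G) ∧ x ^ 2 = 1}
      one_mem' := ⟨(T : Subgroup G).one_mem, one_pow 2⟩
      mul_mem' := by
        rintro x y ⟨hx, hx2⟩ ⟨hy, hy2⟩
        refine ⟨(T : Subgroup G).mul_mem hx hy, ?_⟩
        have hc : Commute x y := hTcomm x hx y hy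
        rw [hc.mul_pow, hx2, hy2, one_mul]
      inv_mem' := by
        rintro x ⟨hx, hx2⟩
        exact ⟨(T : Subgroup G).inv_mem hx, by rw [inv_pow, hx2, inv_one]⟩ }
  have hA_mem : ∀ x : G, x ∈ A ↔ x ∈ (T : Subgroup G) ∧ x ^ 2 = 1 := fun x => Iff.rfl
  have haA : a ∈ A := (hA_mem a).mpr ⟨haT, by rw [← ha2]; exact pow_orderOf_eq_one a⟩
  have hbA : b ∈ A := (hA_mem b).mpr ⟨hbT, by rw [← hb2]; exact pow_orderOf_eq_one b⟩
  have hAcard : 2 ^ 2 ≤ Nat.card A := by
    -- `zpowers a < A`, both of `2`-power order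
    have hle : Subgroup.zpowers a ≤ A := by rw [Subgroup.zpowers_le]; exact haA
    have hdvd : Nat.card (Subgroup.zpowers a) ∣ Nat.card A := Subgroup.card_dvd_of_le hle
    rw [Nat.card_zpowers, ha2] at hdvd
    obtain ⟨m, hm⟩ := hdvd
    have hpos : 0 < Nat.card A := Nat.card_pos
    have hm1 : m ≠ 1 := by
      intro h1
      have hcard : Nat.card A ≤ Nat.card (Subgroup.zpowers a) := by
        rw [Nat.card_zpowers, ha2, hm, h1]
      have heq := Subgroup.eq_of_le_of_card_ge hle hcard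
      have hbz : b ∈ Subgroup.zpowers a := by rw [heq]; exact hbA
      obtain ⟨n, hn⟩ := Subgroup.mem_zpowers_iff.mp hbz
      -- `a ^ n` is `1` or `a`
      have ha_sq : a ^ (2 : ℤ) = 1 := by
        have : a ^ 2 = 1 := by rw [← ha2]; exact pow_orderOf_eq_one a
        exact_mod_cast this
      rcases Int.even_or_odd n with ⟨k, hk⟩ | ⟨k, hk⟩
      · have : a ^ n = 1 := by
          rw [hk, ← two_mul, zpow_mul, ha_sq, one_zpow]
        rw [this] at hn
        rw [← hn, orderOf_one] at hb2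
        omega
      · have : a ^ n = a := by
          rw [hk, zpow_add, zpow_mul, ha_sq, one_zpow, one_mul, zpow_one]
        rw [this] at hn
        exact hab hn
    have hm0 : m ≠ 0 := by
      intro h0
      rw [h0, mul_zero] at hm
      omega
    have : 2 ≤ m := by omega
    calc 2 ^ 2 = 2 * 2 := by norm_num
      _ ≤ 2 * m := Nat.mul_le_mul_left 2 this
      _ = Nat.card A := hm.symm
  have hK2 : ¬ 2 ∣ Nat.card K := by
    intro h
    exact (Nat.not_even_iff_odd.mpr hK) (even_iff_two_dvd.mpr h)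
  have hAK : A ≤ Subgroup.normalizer (K : Set G) := by
    rw [Subgroup.normalizer_eq_top]
    exact le_top
  have hKM : K ≤ Subgroup.centralizer ({z} : Set G) := by
    apply Cfsg.Agent.Lib.Helper48.elemAb_generation (p := 2) A
      (fun x hx y hy => hTcomm x ((hA_mem x).mp hx).1 y ((hA_mem y).mp hy).1)
      (fun x hx => ((hA_mem x).mp hx).2) hAcard K _ hK2 hAK
    intro u huA hu1 x hx
    obtain ⟨hxK, hxu⟩ := Subgroup.mem_inf.mp hx
    obtain ⟨huT, hu2⟩ := (hA_mem u).mp huA
    have hu_ord : orderOf u = 2 := orderOf_eq_prime hu2 hu1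
    rw [Subgroup.mem_centralizer_singleton_iff] at hxu
    exact (hcen u (hTM huT) hu_ord x).mp hxu
  intro x hx
  rw [Subgroup.mem_centralizer_iff]
  intro t ht
  exact hMc t (hTM ht) x (hKM hx)

end Cfsg.Agent.Lib.Helper29.AbCent
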