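import Mathlib
import Cfsg.Prelude.Def_Involutions
import Cfsg.Agent.Lib.Helper21.StronglyEmbedded
import Cfsg.Agent.Lib.Helper32.AbCentDefs

/-!
# S2202 module `[II-1]` (helper32's project, board #4377): an overgroup of a strongly embedded
subgroup is strongly embedded
-/

set_option autoImplicit false

namespace Cfsg.Agent.Lib.Helper29.AbCent

open Cfsg Cfsg.Agent.Lib.Helper32.AbCent Cfsg.Agent.Lib.Helper21

variable {G : Type*} [Group G] [Finite G] {H M : Subgroup G}

/-- every involution of an overgroup `L` of `H` is `L`-conjugate into `H` -/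
theorem exists_conj_mem_of_le {L : Subgroup G} (hH : IsStronglyEmbedded H) (hHL : H ≤ L)
    {s : G} (hs : orderOf s = 2) (hsL : s ∈ L) : ∃ l ∈ L, l⁻¹ * s * l ∈ H := by
  obtain ⟨t, htH, ht⟩ := se_exists_involution hH
  rcases Nat.even_or_odd (orderOf (s * t)) with heven | hodd
  · have hpos : 0 < orderOf (s * t) := orderOf_pos _
    obtain ⟨z, hz, hzt, hzs⟩ := exists_involution_commute_of_even ht hs heven hpos
    have hzH : z ∈ H := se_centralizer_le hH ht htH hzt
    have hsH : s ∈ H := se_centralizer_le hH hz hzH hzs.symm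
    exact ⟨1, L.one_mem, by simpa using hsH⟩
  · obtain ⟨i, _, hi, hicl⟩ := exists_involution_conj_of_odd ht hs hodd
    have hiL : i ∈ L := by
      have hle : Subgroup.closure ({t, s} : Set G) ≤ L := by
        rw [Subgroup.closure_le]
        intro x hx
        rcases hx with rfl | rfl
        · exact hHL htH
        · exact hsL
      exact hle hicl
    refine ⟨i, hiL, ?_⟩
    rw [← hi]
    have : i⁻¹ * (i * t * i⁻¹) * i = t := by group
    rw [this]
    exact htH

/-- MODULE [II-1] -/
theorem se_of_le {L : Subgroup G} (hH : IsStronglyEmbedded H) (hHL : H ≤ L) (hL : L ≠ ⊤) :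
    IsStronglyEmbedded L := by
  refine ⟨hL, ?_, ?_⟩
  · obtain ⟨k, hk⟩ := Subgroup.card_dvd_of_le hHL
    rw [hk]
    exact hH.2.1.mul_right k
  · intro g hg
    by_contra hodd
    rw [Nat.not_odd_iff_even] at hodd
    have h2 : 2 ∣ Nat.card ↥(L ⊓ L.map (MulAut.conj g).toMonoidHom) := even_iff_two_dvd.mp hodd
    have : Fact (Nat.Prime 2) := ⟨Nat.prime_two⟩
    obtain ⟨s, hs⟩ := exists_prime_orderOf_dvd_card'
      (G := ↥(L ⊓ L.map (MulAut.conj g).toMonoidHom)) 2 h2
    have hs2 : orderOf (s : G) = 2 := by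
      rw [← hs]
      exact (Subgroup.orderOf_coe s)
    have hsL : (s : G) ∈ L := (Subgroup.mem_inf.mp s.2).1
    have hsg : g⁻¹ * (s : G) * g ∈ L := (mem_map_conj_iff g (s : G)).mp (Subgroup.mem_inf.mp s.2).2
    obtain ⟨l, hlL, hl⟩ := exists_conj_mem_of_le hH hHL hs2 hsL
    have hs'2 : orderOf (g⁻¹ * (s : G) * g) = 2 := by
      have := orderOf_conj_eq_two hs2 g⁻¹
      simpa using this
    obtain ⟨l', hl'L, hl'⟩ := exists_conj_mem_of_le hH hHL hs'2 hsg
    have hx : (s : G) • (QuotientGroup.mk l : G ⧸ H) = QuotientGroup.mk l :=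
      (smul_mk_eq_mk_iff (s : G) l).mpr hl
    have hy : (s : G) • (QuotientGroup.mk (g * l') : G ⧸ H) = QuotientGroup.mk (g * l') := by
      rw [smul_mk_eq_mk_iff]
      have : (g * l')⁻¹ * (s : G) * (g * l') = l'⁻¹ * (g⁻¹ * (s : G) * g) * l' := by group
      rw [this]
      exact hl'
    have heq := se_fixed_unique hH hs2 hx hy
    have hmem : l⁻¹ * (g * l') ∈ H := QuotientGroup.eq.mp heq
    apply hg
    have hmemL : l⁻¹ * (g * l') ∈ L := hHL hmem
    have : g = l * (l⁻¹ * (g * l')) * l'⁻¹ := by group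
    rw [this]
    exact L.mul_mem (L.mul_mem hlL hmemL) (L.inv_mem hl'L)

end Cfsg.Agent.Lib.Helper29.AbCent
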