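import Mathlib
import Cfsg.Agent.Lib.Helper78.FiniteAbelianDual

/-!
# S0999 / S4701 module `[LINCHAR]` (helper79's project, board #3555 / #3728)

Linear characters of `N` trivial on a normal subgroup `K` with abelian quotient: there are `|N : K|`
of them and they sum to `|N : K|` on `K` and to `0` off `K`.
-/

set_option autoImplicit false

namespace Cfsg.Agent.Lib.Helper29.BrauerNLinChar

open Cfsg.Agent.Lib.Helper78

/-- MODULE [LINCHAR] -/
theorem linear_chars_of_abelian_quotient {N : Type*} [Group N] [Finite N] (K : Subgroup N) [K.Normal]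
    (hcomm : ∀ a b : N, a * b * a⁻¹ * b⁻¹ ∈ K) :
    ∃ Λ : Subgroup (N →* ℂˣ), (∀ l : N →* ℂˣ, l ∈ Λ ↔ ∀ k ∈ K, l k = 1) ∧ Nat.card Λ = K.index ∧
      (∀ y : N, y ∈ K → ∑ᶠ l ∈ (Λ : Set (N →* ℂˣ)), ((l y : ℂˣ) : ℂ) = (K.index : ℂ)) ∧
      (∀ y : N, y ∉ K → ∑ᶠ l ∈ (Λ : Set (N →* ℂˣ)), ((l y : ℂˣ) : ℂ) = 0) := by
  classical
  let instQ : CommGroup (N ⧸ K) :=
    { (inferInstance : Group (N ⧸ K)) with
      mul_comm := by
        intro a b
        induction a using QuotientGroup.induction_on with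
        | H a =>
          induction b using QuotientGroup.induction_on with
          | H b =>
            rw [← QuotientGroup.mk_mul, ← QuotientGroup.mk_mul, QuotientGroup.eq]
            have h := hcomm b⁻¹ a⁻¹
            have e : (a * b)⁻¹ * (b * a) = b⁻¹ * a⁻¹ * b⁻¹⁻¹ * a⁻¹⁻¹ := by group
            rw [e]
            exact h }
  have : Fintype (N ⧸ K) := Fintype.ofFinite _
  have : Fintype ((N ⧸ K) →* ℂˣ) := Fintype.ofFinite _
  let F : ((N ⧸ K) →* ℂˣ) →* (N →* ℂˣ) := MonoidHom.compHom' (QuotientGroup.mk' K)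
  have hF : ∀ (ψ : (N ⧸ K) →* ℂˣ) (y : N), F ψ y = ψ (y : N ⧸ K) := fun ψ y => rfl
  have hFinj : Function.Injective F := by
    intro ψ ψ' h
    ext q
    exact congrArg Units.val (DFunLike.congr_fun h q)
  have hcardQ : Fintype.card (N ⧸ K) = K.index := by
    rw [← Nat.card_eq_fintype_card]; rfl
  have hsum : ∀ (f : (N →* ℂˣ) → ℂ), ∑ᶠ l ∈ ((F.range : Subgroup (N →* ℂˣ)) : Set (N →* ℂˣ)), f l =
      ∑ ψ : (N ⧸ K) →* ℂˣ, f (F ψ) := by
    intro f
    rw [MonoidHom.coe_range, finsum_mem_range hFinj, finsum_eq_sum_of_fintype]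
  refine ⟨F.range, ?_, ?_, ?_, ?_⟩
  · intro l
    constructor
    · rintro ⟨ψ, rfl⟩ k hk
      rw [hF, (QuotientGroup.eq_one_iff k).2 hk, map_one]
    · intro h
      refine ⟨QuotientGroup.lift K l (fun k hk => h k hk), ?_⟩
      ext y
      rw [hF]
      rfl
  · rw [Nat.card_congr (MonoidHom.ofInjective hFinj).toEquiv.symm, Nat.card_eq_fintype_card, dual_card, hcardQ]
  · intro y hy
    rw [hsum (fun l => ((l y : ℂˣ) : ℂ))]
    have h1 := dual_sum_apply (A := N ⧸ K) (y : N ⧸ K)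
    rw [if_pos ((QuotientGroup.eq_one_iff y).2 hy), hcardQ] at h1
    exact h1
  · intro y hy
    rw [hsum (fun l => ((l y : ℂˣ) : ℂ))]
    have h1 := dual_sum_apply (A := N ⧸ K) (y : N ⧸ K)
    rw [if_neg (fun h => hy ((QuotientGroup.eq_one_iff y).1 h))] at h1
    exact h1

end Cfsg.Agent.Lib.Helper29.BrauerNLinChar
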