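import Mathlib
import Cfsg.Agent.Lib.Helper8.CoTwoCentKerDefs
import Cfsg.Agent.Lib.Helper89.M24NoTransp
import Cfsg.Agent.S0397

/-!
# S2136 module `[KER-MONO]` (helper8's project, board #3310)

An element of `CSub` acting trivially on `Lsub` is monomial (`mem_PMono_of_fix`); no element of
`CSub` acts on `Lsub` as `swapNeg` (`not_swapNeg`).
-/

set_option autoImplicit false

namespace Cfsg.Agent.Lib.Helper29.CoTwoKerMono
open Cfsg Cfsg.Spor Cfsg.Agent.Lib.Helper7 Cfsg.Agent.Lib.Helper8 Cfsg.Agent.Lib.Helper8.CoTwoCent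

theorem suppO_e8 {i : GolayPt} (hi : i ∈ oct) : SuppO (e8 i) := by
  intro j hj
  unfold e8
  rw [if_neg]
  rintro rfl
  exact hj hi

/-- `8 e_i` as an element of `Lsub`, for `i` in the octad -/
def b8L (i : GolayPt) (hi : i ∈ oct) : Lsub := ⟨e8 i, lsh_of_mem (e8_mem i) (suppO_e8 hi)⟩

theorem toLeech_b8L (i : GolayPt) (hi : i ∈ oct) : toLeech (b8L i hi) = b8 i := rfl

theorem actL_b8L (g : Co0) (hg : g ∈ CSub) (i : GolayPt) (hi : i ∈ oct) :
    (actL g hg (b8L i hi)).1 = ((g • b8 i : leechLattice) : GolayPt → ℤ) := rfl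

theorem co0_ext' {g h : Co0}
    (H : ∀ v : leechLattice,
      ((g • v : leechLattice) : GolayPt → ℤ) = ((h • v : leechLattice) : GolayPt → ℤ)) :
    g = h := by
  apply Subtype.ext
  apply Equiv.ext
  intro v
  apply Subtype.ext
  exact H v

/-- from `signedPerm σ c (8 e_a) = s e_b` read off `σ a = b` -/
theorem apply_eq_of_signedPerm_single {σ : Equiv.Perm GolayPt} {c : Finset GolayPt}
    {a b : GolayPt} {s : ℤ} (hs : s ≠ 0)
    (h : signedPerm σ c (Pi.single a 8) = Pi.single b s) : σ a = b := by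
  rw [signedPerm_single] at h
  by_contra hne
  have h1 := congrFun h b
  rw [Pi.single_eq_same, Pi.single_eq_of_ne (Ne.symm hne)] at h1
  exact hs h1.symm

theorem sign_of_signedPerm_single {σ : Equiv.Perm GolayPt} {c : Finset GolayPt}
    {a : GolayPt} (h : signedPerm σ c (Pi.single a 8) = Pi.single a 8) : a ∉ c := by
  have ha : σ a = a := apply_eq_of_signedPerm_single (by norm_num) h
  rw [signedPerm_single, ha] at h
  have h1 := congrFun h a
  rw [Pi.single_eq_same, Pi.single_eq_same] at h1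
  intro hc
  rw [if_pos hc] at h1
  omega

theorem mem_PMono_of_fix (g : Co0) (hg : g ∈ CSub) (h : ∀ x : Lsub, actL g hg x = x) :
    g ∈ PMono := by
  have hfix : ∀ i (hi : i ∈ oct), ((g • b8 i : leechLattice) : GolayPt → ℤ) = e8 i := by
    intro i hi
    rw [← actL_b8L g hg i hi, h]
    rfl
  have hstab : g ∈ MulAction.stabilizer Co0 Cfsg.Agent.S0397.v0 := by
    rw [MulAction.mem_stabilizer_iff]
    apply Subtype.ext
    exact hfix none none_mem_oct
  have hpres : PresCross g := (Cfsg.Agent.S0397.mem_NN g).1 (Cfsg.Agent.S0397.stab_le hstab)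
  obtain ⟨σ, hσ, c, hc, hval⟩ := exists_signedPerm_of_presCross g hpres
  have hsingle : ∀ i (hi : i ∈ oct), signedPerm σ c (Pi.single i 8) = Pi.single i 8 := by
    intro i hi
    have h1 := hval (b8 i)
    rw [hfix i hi] at h1
    have e : ((b8 i : leechLattice) : GolayPt → ℤ) = Pi.single i 8 := e8_eq_single i
    rw [e, e8_eq_single] at h1
    exact h1.symm
  refine ⟨σ, hσ, c, hc, ?_, ?_, ?_⟩
  · intro p hp
    exact apply_eq_of_signedPerm_single (by norm_num) (hsingle p hp)
  · rw [Finset.disjoint_right]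
    intro p hp
    exact sign_of_signedPerm_single (hsingle p hp)
  · apply co0_ext'
    intro v
    rw [monoCo0_apply, hval]

theorem swapNeg_e8_none : swapNeg (e8 none) = e8 (some 0) := by
  funext i
  unfold swapNeg e8
  by_cases h1 : i = none
  · subst h1; simp
  · by_cases h2 : i = some 0
    · subst h2; simp
    · simp [h1, h2]

theorem swapNeg_e8 {a : GolayPt} (h1 : a ≠ none) (h2 : a ≠ some 0) :
    swapNeg (e8 a) = Pi.single a (-8) := by
  funext i
  unfold swapNeg e8
  by_cases hi1 : i = none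
  · subst hi1
    rw [if_pos rfl, if_neg (Ne.symm h2), Pi.single_eq_of_ne (Ne.symm h1)]
  · by_cases hi2 : i = some 0
    · subst hi2
      rw [if_neg hi1, if_pos rfl, if_neg (Ne.symm h1), Pi.single_eq_of_ne (Ne.symm h2)]
    · rw [if_neg hi1, if_neg hi2]
      by_cases hia : i = a
      · subst hia; simp
      · rw [if_neg hia, Pi.single_eq_of_ne hia]; simp

theorem not_swapNeg (g : Co0) (hg : g ∈ CSub)
    (h : ∀ x : Lsub, (actL g hg x).1 = swapNeg x.1) : False := by
  have hact : ∀ i (hi : i ∈ oct),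
      ((g • b8 i : leechLattice) : GolayPt → ℤ) = swapNeg (e8 i) := by
    intro i hi
    rw [← actL_b8L g hg i hi, h]
    rfl
  have hv0 : ((g • Cfsg.Agent.S0397.v0 : leechLattice) : GolayPt → ℤ) = e8 (some 0) := by
    have := hact none none_mem_oct
    rw [swapNeg_e8_none] at this
    exact this
  have hpres : PresCross g := by
    intro u hu
    apply Cfsg.Agent.S0397.mem_stdCross_of_cong (g • u).2
    · rw [co0_sqNorm]
      obtain ⟨i, s, hs, hu⟩ := hu
      rw [hu]
      rcases hs with rfl | rfl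
      · rw [← e8_eq_single, sqNorm_e8]
      · have : (Pi.single i (-8) : GolayPt → ℤ) = - e8 i := by
          rw [e8_eq_single, Pi.single_neg]
        rw [this, sqNorm_neg', sqNorm_e8]
    · have h1 := Cfsg.Agent.S0397.smul_sub_mem_L2 g (Cfsg.Agent.S0397.T_sub_mem_L2 hu)
      rw [hv0] at h1
      have h2 := L2.add_mem h1 (Cfsg.Agent.S0397.e8_sub_mem_L2 (some 0))
      have e : ((g • u : leechLattice) : GolayPt → ℤ) - e8 (some 0) + (e8 (some 0) - e8 none)
          = ((g • u : leechLattice) : GolayPt → ℤ) - e8 none := by abel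
      rwa [e] at h2
  obtain ⟨σ, hσ, c, hc, hval⟩ := exists_signedPerm_of_presCross g hpres
  have hb : ∀ i, ((b8 i : leechLattice) : GolayPt → ℤ) = Pi.single i 8 := fun i => e8_eq_single i
  have h1 : σ none = some 0 := by
    have h2 := hval (b8 none)
    rw [hact none none_mem_oct, swapNeg_e8_none, hb, e8_eq_single] at h2
    exact apply_eq_of_signedPerm_single (by norm_num) h2.symm
  have hfix : ∀ p ∈ setOf octO, p ≠ none → p ≠ some 0 → σ p = p := by
    intro p hp hp1 hp2
    have h2 := hval (b8 p)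
    rw [hact p hp, swapNeg_e8 hp1 hp2, hb] at h2
    exact apply_eq_of_signedPerm_single (by norm_num) h2.symm
  exact Cfsg.Agent.Lib.Helper89.no_transposition_on_octO σ hσ hfix h1

end Cfsg.Agent.Lib.Helper29.CoTwoKerMono
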