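import Mathlib
import Cfsg.Prelude.Def_Transfer
import Cfsg.Agent.S0065

/-!
# Basic tools on elementary abelian subgroups of `p`-groups (helper29)

* `ea_of_forall`, `ea_mono`, `ea_sup`, `ea_zpowers`: building elementary abelian subgroups;
* `pow_eq_one_of_commutator_commute`: for odd `p`, a product of two elements of order dividing `p`
  whose commutator commutes with both has order dividing `p`;
* `relIndex_le_card_of_fiber`, `card_le_card_mul_card_inf_of_fiber`: counting via fibres.
-/

set_option autoImplicit false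

namespace Cfsg.Agent.Lib.Helper29

open Cfsg
open scoped commutatorElement

section ea

variable {G : Type*} [Group G] {p : ℕ}

theorem ea_of_forall {A : Subgroup G} (h1 : ∀ a ∈ A, ∀ b ∈ A, a * b = b * a)
    (h2 : ∀ a ∈ A, a ^ p = 1) : IsElementaryAbelian p A := by
  refine ⟨?_, h2⟩
  rw [← Subgroup.le_centralizer_iff_isMulCommutative]
  intro a ha
  rw [Subgroup.mem_centralizer_iff]
  intro b hb
  exact h1 b hb a ha

theorem ea_comm {A : Subgroup G} (hA : IsElementaryAbelian p A) {a b : G} (ha : a ∈ A)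
    (hb : b ∈ A) : a * b = b * a := by
  have := hA.1
  exact setLike_mul_comm ha hb

theorem ea_mono {A C : Subgroup G} (hA : IsElementaryAbelian p A) (hCA : C ≤ A) :
    IsElementaryAbelian p C :=
  ea_of_forall (fun _ ha _ hb => ea_comm hA (hCA ha) (hCA hb)) (fun a ha => hA.2 a (hCA ha))

theorem ea_bot : IsElementaryAbelian p (⊥ : Subgroup G) := by
  refine ea_of_forall ?_ ?_
  · intro a ha b hb
    rw [Subgroup.mem_bot] at ha hb
    rw [ha, hb]
  · intro a ha
    rw [Subgroup.mem_bot] at ha
    rw [ha, one_pow]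

theorem ea_sup {A C : Subgroup G} (hA : IsElementaryAbelian p A) (hC : IsElementaryAbelian p C)
    (hAC : ∀ a ∈ A, ∀ c ∈ C, a * c = c * a) : IsElementaryAbelian p (A ⊔ C) := by
  have h1 : A ⊔ C ≤ Subgroup.centralizer (A : Set G) := by
    refine sup_le ?_ ?_
    · intro a ha
      rw [Subgroup.mem_centralizer_iff]
      intro b hb
      exact ea_comm hA hb ha
    · intro c hc
      rw [Subgroup.mem_centralizer_iff]
      intro b hb
      exact hAC b hb c hc
  have h2 : A ⊔ C ≤ Subgroup.centralizer (C : Set G) := by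
    refine sup_le ?_ ?_
    · intro a ha
      rw [Subgroup.mem_centralizer_iff]
      intro b hb
      exact (hAC a ha b hb).symm
    · intro c hc
      rw [Subgroup.mem_centralizer_iff]
      intro b hb
      exact ea_comm hC hb hc
  have h3 : A ⊔ C ≤ Subgroup.centralizer ((A ⊔ C : Subgroup G) : Set G) := by
    refine sup_le ?_ ?_
    · exact Subgroup.le_centralizer_iff.mp h1
    · exact Subgroup.le_centralizer_iff.mp h2
  have hcomm : ∀ a ∈ A ⊔ C, ∀ b ∈ A ⊔ C, a * b = b * a := by
    intro a ha b hb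
    have := h3 hb
    rw [Subgroup.mem_centralizer_iff] at this
    exact this a ha
  refine ea_of_forall hcomm ?_
  intro g hg
  rw [Subgroup.sup_eq_closure] at hg
  induction hg using Subgroup.closure_induction with
  | mem x hx =>
    rcases hx with hx | hx
    · exact hA.2 x hx
    · exact hC.2 x hx
  | one => exact one_pow p
  | mul x y hx hy hx' hy' =>
    rw [← Subgroup.sup_eq_closure] at hx hy
    have hc : Commute x y := hcomm x hx y hy
    rw [hc.mul_pow, hx', hy', one_mul]
  | inv x hx hx' => rw [inv_pow, hx', inv_one]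

theorem ea_zpowers {x : G} (hx : x ^ p = 1) : IsElementaryAbelian p (Subgroup.zpowers x) := by
  refine ea_of_forall ?_ ?_
  · intro a ha b hb
    obtain ⟨i, rfl⟩ := Subgroup.mem_zpowers_iff.mp ha
    obtain ⟨j, rfl⟩ := Subgroup.mem_zpowers_iff.mp hb
    rw [← zpow_add, ← zpow_add, add_comm]
  · intro a ha
    obtain ⟨i, rfl⟩ := Subgroup.mem_zpowers_iff.mp ha
    rw [← zpow_natCast, ← zpow_mul, mul_comm, zpow_mul, zpow_natCast, hx, one_zpow]

end ea

section powlemma

variable {G : Type*} [Group G]

theorem pow_mul_of_twist (x y c : G) (hc : y * x = c * x * y) (hcy : Commute c y)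
    (n : ℕ) : y ^ n * x = c ^ n * x * y ^ n := by
  induction n with
  | zero => simp
  | succ n ih =>
    have h1 : Commute (c ^ n) y := hcy.pow_left n
    calc y ^ (n + 1) * x = y * (y ^ n * x) := by rw [pow_succ', mul_assoc]
      _ = y * (c ^ n * x * y ^ n) := by rw [ih]
      _ = (y * c ^ n) * x * y ^ n := by simp only [mul_assoc]
      _ = (c ^ n * y) * x * y ^ n := by rw [h1.eq]
      _ = c ^ n * (y * x) * y ^ n := by simp only [mul_assoc]
      _ = c ^ n * (c * x * y) * y ^ n := by rw [hc]
      _ = c ^ (n + 1) * x * y ^ (n + 1) := by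
        rw [pow_succ, pow_succ']; simp only [mul_assoc]

theorem mul_pow_of_twist (x y c : G) (hc : y * x = c * x * y) (hcx : Commute c x)
    (hcy : Commute c y) (n : ℕ) : (x * y) ^ n = c ^ (n.choose 2) * (x ^ n * y ^ n) := by
  induction n with
  | zero => simp
  | succ n ih =>
    have h1 : Commute (c ^ n) (x ^ n) := (hcx.pow_left n).pow_right n
    calc (x * y) ^ (n + 1) = (x * y) ^ n * (x * y) := pow_succ _ _
      _ = c ^ (n.choose 2) * (x ^ n * y ^ n) * (x * y) := by rw [ih]
      _ = c ^ (n.choose 2) * (x ^ n * (y ^ n * x) * y) := by simp only [mul_assoc]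
      _ = c ^ (n.choose 2) * (x ^ n * (c ^ n * x * y ^ n) * y) := by
        rw [pow_mul_of_twist x y c hc hcy n]
      _ = c ^ (n.choose 2) * ((x ^ n * c ^ n) * x * y ^ n * y) := by simp only [mul_assoc]
      _ = c ^ (n.choose 2) * ((c ^ n * x ^ n) * x * y ^ n * y) := by rw [h1.eq]
      _ = (c ^ (n.choose 2) * c ^ n) * (x ^ n * x * (y ^ n * y)) := by simp only [mul_assoc]
      _ = c ^ ((n + 1).choose 2) * (x ^ (n + 1) * y ^ (n + 1)) := by
        rw [← pow_add, ← pow_succ, ← pow_succ]
        congr 2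
        rw [Nat.choose_succ_succ' n 1, Nat.choose_one_right, add_comm]

/-- For odd `p`: if `x ^ p = 1`, `y ^ p = 1` and the commutator `⁅y, x⁆` commutes with `x` and `y`,
then `(x * y) ^ p = 1`. -/
theorem pow_eq_one_of_commutator_commute {p : ℕ} (hp : p.Prime) (hp2 : p ≠ 2) {x y : G}
    (hx : x ^ p = 1) (hy : y ^ p = 1) (hcx : Commute ⁅y, x⁆ x) (hcy : Commute ⁅y, x⁆ y) :
    (x * y) ^ p = 1 := by
  set c := ⁅y, x⁆ with hcdef
  have hc : y * x = c * x * y := by
    rw [hcdef, commutatorElement_def]; group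
  have hcp : c ^ p = 1 := by
    have h := pow_mul_of_twist x y c hc hcy p
    rw [hy, one_mul, mul_one] at h
    have : c ^ p * x = 1 * x := by rw [one_mul]; exact h.symm
    exact mul_right_cancel this
  have hdvd : p ∣ p.choose 2 := by
    have hodd : Odd p := hp.odd_of_ne_two hp2
    exact hp.dvd_choose_self (by norm_num) (by
      have := hp.two_le
      omega)
  rw [mul_pow_of_twist x y c hc hcx hcy p, hx, hy, mul_one, mul_one]
  obtain ⟨k, hk⟩ := hdvd
  rw [hk, pow_mul, hcp, one_pow]

end powlemma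

section counting

variable {G : Type*} [Group G]

theorem card_eq_relIndex_mul_card_inf (H K : Subgroup G) :
    Nat.card H = K.relIndex H * Nat.card (H ⊓ K : Subgroup G) := by
  have h1 := Subgroup.relIndex_mul_relIndex (⊥ : Subgroup G) (H ⊓ K) H bot_le inf_le_left
  rw [Subgroup.relIndex_bot_left, Subgroup.relIndex_bot_left, Subgroup.inf_relIndex_left] at h1
  rw [← h1, mul_comm]

theorem relIndex_le_card_of_fiber [Finite G] (H K T : Subgroup G) (f : G → G)
    (hT : ∀ a ∈ H, f a ∈ T) (hf : ∀ a ∈ H, ∀ b ∈ H, f a = f b → a⁻¹ * b ∈ K) :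
    K.relIndex H ≤ Nat.card T := by
  rw [Subgroup.relIndex, Subgroup.index]
  let φ : (↥H ⧸ K.subgroupOf H) → ↥T := fun q => ⟨f (q.out : G), hT _ q.out.2⟩
  have hφ : Function.Injective φ := by
    intro q q' h
    have h1 : f (q.out : G) = f (q'.out : G) := congrArg Subtype.val h
    have h2 := hf _ q.out.2 _ q'.out.2 h1
    have h3 : (QuotientGroup.mk q.out : ↥H ⧸ K.subgroupOf H) = QuotientGroup.mk q'.out := by
      rw [QuotientGroup.eq]
      exact Subgroup.mem_subgroupOf.mpr h2
    rw [QuotientGroup.out_eq', QuotientGroup.out_eq'] at h3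
    exact h3
  exact Nat.card_le_card_of_injective φ hφ

theorem card_le_card_mul_card_inf_of_fiber [Finite G] (H K T : Subgroup G) (f : G → G)
    (hT : ∀ a ∈ H, f a ∈ T) (hf : ∀ a ∈ H, ∀ b ∈ H, f a = f b → a⁻¹ * b ∈ K) :
    Nat.card H ≤ Nat.card T * Nat.card (H ⊓ K : Subgroup G) := by
  rw [card_eq_relIndex_mul_card_inf H K]
  exact Nat.mul_le_mul_right _ (relIndex_le_card_of_fiber H K T f hT hf)

end counting

section chain

variable {G : Type*} [Group G] [Finite G] {p : ℕ} [hp : Fact p.Prime]

theorem exists_orderOf_eq_prime_of_ne_bot {K : Subgroup G} (hK : IsPGroup p K) (hne : K ≠ ⊥) :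
    ∃ x ∈ K, orderOf x = p := by
  obtain ⟨n, hn⟩ := IsPGroup.iff_card.mp hK
  have hn0 : n ≠ 0 := by
    rintro rfl
    rw [pow_zero] at hn
    exact hne (Subgroup.card_eq_one.mp hn)
  have hdvd : p ∣ Nat.card K := by rw [hn]; exact dvd_pow_self p hn0
  obtain ⟨x, hx⟩ := exists_prime_orderOf_dvd_card' (G := K) p hdvd
  exact ⟨x, x.2, by rw [← hx, Subgroup.orderOf_coe]⟩

/-- One step of a chief series below a normal subgroup of a finite `p`-group. -/
theorem exists_normal_step (hG : IsPGroup p G) (M N : Subgroup G) [hM : M.Normal] [hN : N.Normal]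
    (hMN : M < N) :
    ∃ M' : Subgroup G, M'.Normal ∧ M ≤ M' ∧ M' ≤ N ∧ Nat.card M' = p * Nat.card M ∧
      ∀ e ∈ M', ∀ g : G, ⁅e, g⁆ ∈ M := by
  set π := QuotientGroup.mk' M with hπ
  have hπs : Function.Surjective π := QuotientGroup.mk'_surjective M
  have hker : π.ker = M := QuotientGroup.ker_mk' M
  have hQ : IsPGroup p (G ⧸ M) := hG.to_quotient M
  have : Group.IsNilpotent (G ⧸ M) := hQ.isNilpotent
  have hNbar : (N.map π).Normal := hN.map π hπs
  have hne : N.map π ≠ ⊥ := by
    intro h
    rw [Subgroup.map_eq_bot_iff, hker] at h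
    exact absurd (le_antisymm h hMN.le) hMN.ne'
  have h1 : N.map π ⊓ Subgroup.center (G ⧸ M) ≠ ⊥ := Cfsg.Agent.S0065.result (N.map π) hne
  obtain ⟨w, hw, hwp⟩ := exists_orderOf_eq_prime_of_ne_bot (hQ.to_subgroup _) h1
  have hwN : w ∈ N.map π := hw.1
  have hwc : w ∈ Subgroup.center (G ⧸ M) := hw.2
  have hWc : Subgroup.zpowers w ≤ Subgroup.center (G ⧸ M) := Subgroup.zpowers_le.mpr hwc
  have hWn : (Subgroup.zpowers w).Normal := by
    constructor
    intro n hn g
    have := Subgroup.mem_center_iff.mp (hWc hn) g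
    rw [this, mul_inv_cancel_right]
    exact hn
  have hWcard : Nat.card (Subgroup.zpowers w) = p := by rw [Nat.card_zpowers, hwp]
  refine ⟨(Subgroup.zpowers w).comap π, hWn.comap π, ?_, ?_, ?_, ?_⟩
  · intro m hm
    rw [Subgroup.mem_comap]
    have : π m = 1 := by rw [hπ, QuotientGroup.mk'_apply, QuotientGroup.eq_one_iff]; exact hm
    rw [this]; exact Subgroup.one_mem _
  · have h2 : (Subgroup.zpowers w).comap π ≤ (N.map π).comap π :=
      Subgroup.comap_mono (Subgroup.zpowers_le.mpr hwN)
    rw [Subgroup.comap_map_eq, hker, sup_eq_left.mpr hMN.le] at h2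
    exact h2
  · have hle : M ≤ (Subgroup.zpowers w).comap π := by
      intro m hm
      rw [Subgroup.mem_comap]
      have : π m = 1 := by rw [hπ, QuotientGroup.mk'_apply, QuotientGroup.eq_one_iff]; exact hm
      rw [this]; exact Subgroup.one_mem _
    have h3 := card_eq_relIndex_mul_card_inf ((Subgroup.zpowers w).comap π) M
    rw [inf_eq_right.mpr hle] at h3
    have h4 : M.relIndex ((Subgroup.zpowers w).comap π) = p := by
      have := Subgroup.relIndex_ker (K := (Subgroup.zpowers w).comap π) π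
      rw [hker, Subgroup.map_comap_eq_self_of_surjective hπs, hWcard] at this
      exact this
    rw [h3, h4]
  · intro e he g
    rw [Subgroup.mem_comap] at he
    have h5 : π ⁅e, g⁆ = 1 := by
      rw [map_commutatorElement, commutatorElement_eq_one_iff_mul_comm]
      exact (Subgroup.mem_center_iff.mp (hWc he) (π g)).symm
    rw [hπ, QuotientGroup.mk'_apply, QuotientGroup.eq_one_iff] at h5
    exact h5

/-- A normal subgroup of order at least `p ^ m` of a finite `p`-group contains a normal subgroup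
of order exactly `p ^ m`. -/
theorem exists_normal_le_card_eq (hG : IsPGroup p G) (N : Subgroup G) [hN : N.Normal] (m : ℕ)
    (hm : p ^ m ≤ Nat.card N) :
    ∃ M : Subgroup G, M.Normal ∧ M ≤ N ∧ Nat.card M = p ^ m := by
  induction m with
  | zero => exact ⟨⊥, inferInstance, bot_le, by simp⟩
  | succ m ih =>
    have hlt : p ^ m < p ^ (m + 1) := Nat.pow_lt_pow_right hp.out.one_lt (Nat.lt_succ_self m)
    obtain ⟨M, hMn, hMN, hMc⟩ := ih (le_trans hlt.le hm)
    have hMN' : M < N := by
      refine lt_of_le_of_ne hMN ?_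
      rintro rfl
      omega
    have := hMn
    obtain ⟨M', hM'n, _, hM'N, hM'c, _⟩ := exists_normal_step hG M N hMN'
    exact ⟨M', hM'n, hM'N, by rw [hM'c, hMc, pow_succ, mul_comm]⟩

end chain

end Cfsg.Agent.Lib.Helper29
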