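import Mathlib
import Cfsg.Agent.Lib.Helper29.EA4Basic

/-!
# Alperin's lemma: `Ω₁(C_P(E)) = E` for a maximal normal elementary abelian subgroup `E`, `p` odd
(helper29)
-/

set_option autoImplicit false

namespace Cfsg.Agent.Lib.Helper29

open Cfsg
open scoped commutatorElement

section alperin

variable {G : Type*} [Group G] [Finite G] {p : ℕ} [hp : Fact p.Prime]

theorem commute_of_conj_commute {a b g : G}
    (h : (g⁻¹ * a * g) * (g⁻¹ * b * g) = (g⁻¹ * b * g) * (g⁻¹ * a * g)) : a * b = b * a := by
  calc a * b = g * ((g⁻¹ * a * g) * (g⁻¹ * b * g)) * g⁻¹ := by group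
    _ = g * ((g⁻¹ * b * g) * (g⁻¹ * a * g)) * g⁻¹ := by rw [h]
    _ = b * a := by group

/-- **Alperin's lemma.** Let `p` be odd and `E` a maximal normal elementary abelian subgroup of the
finite `p`-group `G`. Then every element of order dividing `p` of `C_G(E)` lies in `E`. -/
theorem alperin_omega_one (hp2 : p ≠ 2) (hG : IsPGroup p G) (E : Subgroup G) [hEn : E.Normal]
    (hE : IsElementaryAbelian p E)
    (hmax : ∀ A : Subgroup G, A.Normal → IsElementaryAbelian p A → E ≤ A → A = E)
    {x : G} (hx : x ∈ Subgroup.centralizer (E : Set G)) (hxp : x ^ p = 1) : x ∈ E := by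
  set π := QuotientGroup.mk' E with hπ
  have hQ : IsPGroup p (G ⧸ E) := hG.to_quotient E
  have hnilQ : Group.IsNilpotent (G ⧸ E) := hQ.isNilpotent
  have hnil : Group.IsNilpotent G := hG.isNilpotent
  obtain ⟨n, hn⟩ := Group.IsNilpotent.nilpotent (G ⧸ E)
  have key : ∀ n : ℕ, ∀ x : G, x ∈ Subgroup.centralizer (E : Set G) → x ^ p = 1 →
      π x ∈ Subgroup.upperCentralSeries (G ⧸ E) n → x ∈ E := by
    intro n
    induction n with
    | zero =>
      intro x _ _ hx0
      rw [Subgroup.upperCentralSeries_zero, Subgroup.mem_bot, hπ, QuotientGroup.mk'_apply,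
        QuotientGroup.eq_one_iff] at hx0
      exact hx0
    | succ n ih =>
      intro x hx hxp hxn
      by_contra hxE
      set B : Subgroup G := E ⊔ Subgroup.zpowers x with hBdef
      have hEB : E ≤ B := le_sup_left
      have hxB : x ∈ B := (le_sup_right : Subgroup.zpowers x ≤ B) (Subgroup.mem_zpowers x)
      have hB : IsElementaryAbelian p B := by
        refine ea_sup hE (ea_zpowers hxp) ?_
        intro a ha c hc
        have hc' : c ∈ Subgroup.centralizer (E : Set G) :=
          (Subgroup.zpowers_le.mpr hx) hc
        exact Subgroup.mem_centralizer_iff.mp hc' a ha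
      -- the key claim
      have claim : ∀ g ∈ Subgroup.normalizer ((Subgroup.normalizer (B : Set G) : Subgroup G) : Set G),
          ∀ k ∈ B, g * k * g⁻¹ ∈ B := by
        intro g hg
        have hginv : g⁻¹ ∈ Subgroup.normalizer
            ((Subgroup.normalizer (B : Set G) : Subgroup G) : Set G) := Subgroup.inv_mem _ hg
        have hxN : x ∈ Subgroup.normalizer (B : Set G) := Subgroup.le_normalizer hxB
        -- x' = g x g⁻¹ and x'' = g⁻¹ x g normalize B
        have hx'N : g * x * g⁻¹ ∈ Subgroup.normalizer (B : Set G) :=
          (Subgroup.mem_normalizer_iff.mp hg x).mp hxN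
        have hx''N : g⁻¹ * x * g ∈ Subgroup.normalizer (B : Set G) := by
          have := (Subgroup.mem_normalizer_iff.mp hginv x).mp hxN
          rwa [inv_inv] at this
        set y : G := g * x⁻¹ * g⁻¹ with hy
        have hyN : y ∈ Subgroup.normalizer (B : Set G) := by
          have : y = (g * x * g⁻¹)⁻¹ := by rw [hy]; group
          rw [this]; exact Subgroup.inv_mem _ hx'N
        have hyp : y ^ p = 1 := by
          rw [hy, conj_pow, inv_pow, hxp, inv_one, mul_one, mul_inv_cancel]
        -- the commutator lies in B
        have hcB : ⁅y, x⁆ ∈ B := by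
          rw [commutatorElement_def]
          have h1 : y * x * y⁻¹ ∈ B := (Subgroup.mem_normalizer_iff.mp hyN x).mp hxB
          exact B.mul_mem h1 (B.inv_mem hxB)
        have hcx : Commute ⁅y, x⁆ x := ea_comm hB hcB hxB
        have hcy : Commute ⁅y, x⁆ y := by
          apply commute_of_conj_commute (g := g)
          have h1 : g⁻¹ * y * g = x⁻¹ := by rw [hy]; group
          have h2 : g⁻¹ * ⁅y, x⁆ * g = x⁻¹ * ((g⁻¹ * x * g) * x * (g⁻¹ * x * g)⁻¹) := by
            rw [commutatorElement_def, hy]; group
          have h3 : g⁻¹ * ⁅y, x⁆ * g ∈ B := by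
            rw [h2]
            exact B.mul_mem (B.inv_mem hxB) ((Subgroup.mem_normalizer_iff.mp hx''N x).mp hxB)
          rw [h1]
          exact ea_comm hB h3 (B.inv_mem hxB)
        have hcp : (x * y) ^ p = 1 :=
          pow_eq_one_of_commutator_commute hp.out hp2 hxp hyp hcx hcy
        have hyC : y ∈ Subgroup.centralizer (E : Set G) := by
          have hn : (Subgroup.centralizer (E : Set G)).Normal := Subgroup.normal_centralizer
          rw [hy]
          exact hn.conj_mem _ (Subgroup.inv_mem _ hx) g
        have hcC : x * y ∈ Subgroup.centralizer (E : Set G) := Subgroup.mul_mem _ hx hyC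
        have hcn : π (x * y) ∈ Subgroup.upperCentralSeries (G ⧸ E) n := by
          have h1 := (Subgroup.mem_upperCentralSeries_succ_iff.mp hxn) (π g)
          have h2 : x * y = ⁅x, g⁆ := by rw [hy, commutatorElement_def]; group
          rw [h2, map_commutatorElement]
          exact h1
        have hcE : x * y ∈ E := ih (x * y) hcC hcp hcn
        -- so g x g⁻¹ ∈ B
        have hgx : g * x * g⁻¹ ∈ B := by
          have : g * x * g⁻¹ = (x * y)⁻¹ * x := by rw [hy]; group
          rw [this]
          exact B.mul_mem (B.inv_mem (hEB hcE)) hxB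
        -- hence g B g⁻¹ ≤ B
        have hle : B ≤ B.comap (MulAut.conj g).toMonoidHom := by
          rw [hBdef]
          refine sup_le ?_ ?_
          · intro e he
            rw [Subgroup.mem_comap]
            exact hEB (hEn.conj_mem e he g)
          · rw [Subgroup.zpowers_le, Subgroup.mem_comap]
            exact hgx
        intro k hk
        exact hle hk
      have hNN : Subgroup.normalizer ((Subgroup.normalizer (B : Set G) : Subgroup G) : Set G) ≤
          Subgroup.normalizer (B : Set G) := by
        rw [Subgroup.le_normalizer_iff]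
        exact claim
      have hBn : B.Normal := by
        rw [← Subgroup.normalizer_eq_top_iff]
        by_contra hne
        have hlt : Subgroup.normalizer (B : Set G) < ⊤ := lt_top_iff_ne_top.mpr hne
        have := Group.normalizerCondition_of_isNilpotent (G := G) _ hlt
        exact absurd hNN (not_le_of_gt this)
      have := hmax B hBn hB hEB
      rw [this] at hxB
      exact hxE hxB
  refine key n x hx hxp ?_
  rw [hn]
  exact Subgroup.mem_top _

end alperin

end Cfsg.Agent.Lib.Helper29
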