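import Mathlib
import Cfsg.Agent.Lib.Helper29.EA4Alperin

/-!
# For odd `p`, a `p`-group with an elementary abelian subgroup of order `p ^ 4` has a normal one
(helper29)

Main result: `exists_normal_ea_four`.
-/

set_option autoImplicit false

open scoped commutatorElement Pointwise
open Cfsg
namespace Cfsg.Agent.Lib.Helper29

section steps

variable {G : Type*} [Group G] [Finite G] {p : ℕ}

/-- If `E₁ ≤ E₂` has index `p` (prime) then `E₂` is generated by `E₁` and any element outside. -/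
theorem sup_zpowers_eq_of_card (hp : p.Prime) {E₁ E₂ : Subgroup G} (h12 : E₁ ≤ E₂)
    (hcard : Nat.card E₂ = p * Nat.card E₁) {u : G} (hu : u ∈ E₂) (hu1 : u ∉ E₁) :
    E₁ ⊔ Subgroup.zpowers u = E₂ := by
  set X := E₁ ⊔ Subgroup.zpowers u with hX
  have hXE : X ≤ E₂ := sup_le h12 (Subgroup.zpowers_le.mpr hu)
  have h1X : E₁ ≤ X := le_sup_left
  have huX : u ∈ X := (le_sup_right : Subgroup.zpowers u ≤ X) (Subgroup.mem_zpowers u)
  obtain ⟨m, hm⟩ := Subgroup.card_dvd_of_le h1X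
  have hd2 := Subgroup.card_dvd_of_le hXE
  rw [hcard, hm, mul_comm p] at hd2
  have hpos : 0 < Nat.card E₁ := Nat.card_pos
  have hmp : m ∣ p := Nat.dvd_of_mul_dvd_mul_left hpos hd2
  rcases (Nat.dvd_prime hp).mp hmp with h | h
  · exfalso
    rw [h, mul_one] at hm
    have : E₁ = X := Subgroup.eq_of_le_of_card_ge h1X hm.le
    exact hu1 (this ▸ huX)
  · refine Subgroup.eq_of_le_of_card_ge hXE ?_
    rw [hcard, hm, h, mul_comm]

omit [Finite G] in
theorem mem_centralizer_sup_zpowers {E₁ : Subgroup G} {u b : G}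
    (h1 : b ∈ Subgroup.centralizer (E₁ : Set G)) (h2 : u * b = b * u) :
    b ∈ Subgroup.centralizer ((E₁ ⊔ Subgroup.zpowers u : Subgroup G) : Set G) := by
  have h3 : E₁ ⊔ Subgroup.zpowers u ≤ Subgroup.centralizer ({b} : Set G) := by
    refine sup_le ?_ ?_
    · intro e he
      rw [Subgroup.mem_centralizer_iff]
      intro x hx
      rw [Set.mem_singleton_iff] at hx
      subst hx
      exact (Subgroup.mem_centralizer_iff.mp h1 e he).symm
    · rw [Subgroup.zpowers_le, Subgroup.mem_centralizer_iff]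
      intro x hx
      rw [Set.mem_singleton_iff] at hx
      subst hx
      exact h2.symm
  rw [Subgroup.mem_centralizer_iff]
  intro e he
  have := Subgroup.mem_centralizer_iff.mp (h3 he) b rfl
  exact this.symm

/-- One counting step. -/
theorem card_le_of_commutator_mem (hp : p.Prime) {E₁ E₂ X F : Subgroup G} (h12 : E₁ ≤ E₂)
    (hcard : Nat.card E₂ = p * Nat.card E₁) {u : G} (hu : u ∈ E₂) (hu1 : u ∉ E₁)
    (hX : X ≤ Subgroup.centralizer (E₁ : Set G)) (hF : ∀ x ∈ X, ⁅u, x⁆ ∈ F) :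
    Nat.card X ≤ Nat.card F *
      Nat.card (X ⊓ Subgroup.centralizer (E₂ : Set G) : Subgroup G) := by
  refine card_le_card_mul_card_inf_of_fiber X (Subgroup.centralizer (E₂ : Set G)) F
    (fun x => ⁅u, x⁆) hF ?_
  intro a ha b hb hab
  have h1 : a⁻¹ * b ∈ Subgroup.centralizer (E₁ : Set G) :=
    Subgroup.mul_mem _ (Subgroup.inv_mem _ (hX ha)) (hX hb)
  have h2 : u * (a⁻¹ * b) = (a⁻¹ * b) * u := by
    simp only [commutatorElement_def] at hab
    have h3 : a * u⁻¹ * a⁻¹ = b * u⁻¹ * b⁻¹ := by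
      have := congrArg (fun t => u⁻¹ * t) hab
      simpa [mul_assoc] using this
    have h4 : u⁻¹ * (a⁻¹ * b) = (a⁻¹ * b) * u⁻¹ := by
      calc u⁻¹ * (a⁻¹ * b) = a⁻¹ * (a * u⁻¹ * a⁻¹) * b := by group
        _ = a⁻¹ * (b * u⁻¹ * b⁻¹) * b := by rw [h3]
        _ = (a⁻¹ * b) * u⁻¹ := by group
    calc u * (a⁻¹ * b) = u * ((a⁻¹ * b) * u⁻¹) * u := by group
      _ = u * (u⁻¹ * (a⁻¹ * b)) * u := by rw [h4]
      _ = (a⁻¹ * b) * u := by group
  have := mem_centralizer_sup_zpowers h1 h2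
  rwa [sup_zpowers_eq_of_card hp h12 hcard hu hu1] at this

end steps

section gamma

variable {G : Type*} [Group G] [Finite G] {p : ℕ} [hp : Fact p.Prime]

/-- The data of a maximal normal elementary abelian subgroup `E` of order `p ^ 3` together with a
chief chain `E₁ < E₂ < E`. -/
structure EA4Chain (p : ℕ) {G : Type*} [Group G] (E E₁ E₂ : Subgroup G) : Prop where
  hEn : E.Normal
  hE : IsElementaryAbelian p E
  hΩ : ∀ x : G, x ∈ Subgroup.centralizer (E : Set G) → x ^ p = 1 → x ∈ E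
  hE₂n : E₂.Normal
  h12 : E₁ ≤ E₂
  h2E : E₂ ≤ E
  c1 : Nat.card E₁ = p
  c2 : Nat.card E₂ = p ^ 2
  c3 : Nat.card E = p ^ 3
  hc1 : E₁ ≤ Subgroup.center G
  hc2 : ∀ e ∈ E₂, ∀ g : G, ⁅e, g⁆ ∈ E₁
  hc3 : ∀ e ∈ E, ∀ g : G, ⁅e, g⁆ ∈ E₂

omit [Finite G] hp in
theorem inf_centralizer_eq_inf {E B : Subgroup G} (hE : IsElementaryAbelian p E)
    (hΩ : ∀ x : G, x ∈ Subgroup.centralizer (E : Set G) → x ^ p = 1 → x ∈ E)
    (hB : IsElementaryAbelian p B) :
    B ⊓ Subgroup.centralizer (E : Set G) = B ⊓ E := by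
  apply le_antisymm
  · intro x hx
    rw [Subgroup.mem_inf] at hx
    exact Subgroup.mem_inf.mpr ⟨hx.1, hΩ x hx.2 (hB.2 x hx.1)⟩
  · intro x hx
    rw [Subgroup.mem_inf] at hx
    refine Subgroup.mem_inf.mpr ⟨hx.1, ?_⟩
    rw [Subgroup.mem_centralizer_iff]
    intro e he
    exact ea_comm hE he hx.2

omit [Finite G] hp in
theorem ea_le_of_le {E B : Subgroup G}
    (hΩ : ∀ x : G, x ∈ Subgroup.centralizer (E : Set G) → x ^ p = 1 → x ∈ E)
    (hB : IsElementaryAbelian p B) (hEB : E ≤ B) : B ≤ E := by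
  intro x hx
  refine hΩ x ?_ (hB.2 x hx)
  rw [Subgroup.mem_centralizer_iff]
  intro e he
  exact ea_comm hB (hEB he) hx

theorem exists_mem_not_mem_of_card_lt {H K : Subgroup G} (h : Nat.card H < Nat.card K) :
    ∃ x ∈ K, x ∉ H := by
  by_contra hcon
  push Not at hcon
  have : K ≤ H := fun x hx => hcon x hx
  exact absurd (Subgroup.card_le_of_le this) (not_le_of_gt h)

/-- The bound `|B| ≤ p² |B ∩ E|` for elementary abelian `B`. -/
theorem EA4Chain.card_le {E E₁ E₂ : Subgroup G} (h : EA4Chain p E E₁ E₂) {B : Subgroup G}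
    (hB : IsElementaryAbelian p B) : Nat.card B ≤ p ^ 2 * Nat.card (B ⊓ E : Subgroup G) := by
  have hpp := hp.out
  have hB1 : B ≤ Subgroup.centralizer (E₁ : Set G) := by
    intro b _
    rw [Subgroup.mem_centralizer_iff]
    intro e he
    exact (Subgroup.mem_center_iff.mp (h.hc1 he) b).symm
  have hlt12 : Nat.card E₁ < Nat.card E₂ := by
    rw [h.c1, h.c2]
    calc p = p ^ 1 := (pow_one p).symm
      _ < p ^ 2 := Nat.pow_lt_pow_right hpp.one_lt (by norm_num)
  have hlt23 : Nat.card E₂ < Nat.card E := by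
    rw [h.c2, h.c3]
    exact Nat.pow_lt_pow_right hpp.one_lt (by norm_num)
  obtain ⟨u, hu2, hu1⟩ := exists_mem_not_mem_of_card_lt hlt12
  obtain ⟨e₀, he3, he2⟩ := exists_mem_not_mem_of_card_lt hlt23
  have hcard12 : Nat.card E₂ = p * Nat.card E₁ := by rw [h.c1, h.c2, pow_two]
  have hcard23 : Nat.card E = p * Nat.card E₂ := by rw [h.c2, h.c3]; ring
  have hCE : Subgroup.centralizer (E : Set G) ≤ Subgroup.centralizer (E₂ : Set G) :=
    Subgroup.centralizer_le h.h2E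
  rw [← inf_centralizer_eq_inf h.hE h.hΩ hB]
  by_cases hcase : B ≤ Subgroup.centralizer (E₂ : Set G)
  · have := card_le_of_commutator_mem hpp h.h2E hcard23 he3 he2 hcase
      (F := E₂) (fun x _ => h.hc3 e₀ he3 x)
    rwa [h.c2] at this
  · obtain ⟨b₁, hb₁B, hb₁⟩ := SetLike.not_le_iff_exists.mp hcase
    -- first step
    have step1 := card_le_of_commutator_mem hpp h.h12 hcard12 hu2 hu1 hB1
      (F := E₁) (fun x _ => h.hc2 u hu2 x)
    rw [h.c1] at step1
    -- b₁ does not commute with u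
    have hub : ¬ (u * b₁ = b₁ * u) := by
      intro hcomm
      apply hb₁
      have := mem_centralizer_sup_zpowers (hB1 hb₁B) hcomm
      rwa [sup_zpowers_eq_of_card hpp h.h12 hcard12 hu2 hu1] at this
    -- second step
    set X := B ⊓ Subgroup.centralizer (E₂ : Set G) with hX
    set F := E₂ ⊓ Subgroup.centralizer ({b₁} : Set G) with hF
    have hE₂ : IsElementaryAbelian p E₂ := ea_mono h.hE h.h2E
    have hXF : ∀ c ∈ X, ⁅e₀, c⁆ ∈ F := by
      intro c hc
      have hv : ⁅e₀, c⁆ ∈ E₂ := h.hc3 e₀ he3 c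
      have hw : ⁅e₀, b₁⁆ ∈ E₂ := h.hc3 e₀ he3 b₁
      rw [hX, Subgroup.mem_inf] at hc
      rw [hF]
      refine Subgroup.mem_inf.mpr ⟨hv, ?_⟩
      rw [Subgroup.mem_centralizer_iff]
      intro x hx
      rw [Set.mem_singleton_iff] at hx
      subst hx
      have hbc : x * c = c * x := ea_comm hB hb₁B hc.1
      have k1 : ⁅e₀, x * c⁆ = ⁅e₀, x⁆ * (x * ⁅e₀, c⁆ * x⁻¹) := by
        simp only [commutatorElement_def]; group
      have k2 : ⁅e₀, c * x⁆ = ⁅e₀, c⁆ * (c * ⁅e₀, x⁆ * c⁻¹) := by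
        simp only [commutatorElement_def]; group
      have k3 : c * ⁅e₀, x⁆ * c⁻¹ = ⁅e₀, x⁆ := by
        have := Subgroup.mem_centralizer_iff.mp hc.2 _ hw
        rw [← this, mul_inv_cancel_right]
      have k4 : ⁅e₀, c⁆ * ⁅e₀, x⁆ = ⁅e₀, x⁆ * ⁅e₀, c⁆ := ea_comm hE₂ hv hw
      have k5 : ⁅e₀, x⁆ * (x * ⁅e₀, c⁆ * x⁻¹) = ⁅e₀, x⁆ * ⁅e₀, c⁆ := by
        rw [← k1, hbc, k2, k3, k4]
      have k6 : x * ⁅e₀, c⁆ * x⁻¹ = ⁅e₀, c⁆ := mul_left_cancel k5
      calc x * ⁅e₀, c⁆ = (x * ⁅e₀, c⁆ * x⁻¹) * x := by group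
        _ = ⁅e₀, c⁆ * x := by rw [k6]
    have hXc : X ≤ Subgroup.centralizer (E₂ : Set G) := inf_le_right
    have step2 := card_le_of_commutator_mem hpp h.h2E hcard23 he3 he2 hXc hXF
    -- |F| ≤ p
    have hFle : F ≤ E₂ := inf_le_left
    have hFne : F ≠ E₂ := by
      intro hFE
      have : u ∈ F := hFE ▸ hu2
      rw [hF, Subgroup.mem_inf] at this
      have := Subgroup.mem_centralizer_iff.mp this.2 b₁ rfl
      exact hub this.symm
    have hFcard : Nat.card F ≤ p := by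
      have hd := Subgroup.card_dvd_of_le hFle
      rw [h.c2] at hd
      obtain ⟨m, hm2, hm⟩ := (Nat.dvd_prime_pow hpp).mp hd
      have hm' : m ≠ 2 := by
        rintro rfl
        apply hFne
        exact Subgroup.eq_of_le_of_card_ge hFle (by rw [h.c2, hm])
      have : m ≤ 1 := by omega
      rw [hm]
      calc p ^ m ≤ p ^ 1 := Nat.pow_le_pow_right hpp.pos this
        _ = p := pow_one p
    have hXE : (X ⊓ Subgroup.centralizer (E : Set G) : Subgroup G) ≤
        B ⊓ Subgroup.centralizer (E : Set G) := by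
      intro x hx
      rw [Subgroup.mem_inf, hX, Subgroup.mem_inf] at hx
      exact Subgroup.mem_inf.mpr ⟨hx.1.1, hx.2⟩
    have h5 := Subgroup.card_le_of_le hXE
    calc Nat.card B ≤ p * Nat.card X := step1
      _ ≤ p * (Nat.card F * Nat.card (X ⊓ Subgroup.centralizer (E : Set G) : Subgroup G)) :=
        Nat.mul_le_mul_left _ step2
      _ ≤ p * (p * Nat.card (B ⊓ Subgroup.centralizer (E : Set G) : Subgroup G)) :=
        Nat.mul_le_mul_left _ (Nat.mul_le_mul hFcard h5)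
      _ = p ^ 2 * Nat.card (B ⊓ Subgroup.centralizer (E : Set G) : Subgroup G) := by ring


theorem EA4Chain.card_inf_eq {E E₁ E₂ : Subgroup G} (h : EA4Chain p E E₁ E₂) {B : Subgroup G}
    (hB : IsElementaryAbelian p B) (hB4 : p ^ 4 ≤ Nat.card B) :
    Nat.card (B ⊓ E : Subgroup G) = p ^ 2 ∧ Nat.card B = p ^ 4 := by
  have hpp := hp.out
  have h1 := h.card_le hB
  have hd := Subgroup.card_dvd_of_le (inf_le_right : B ⊓ E ≤ E)
  rw [h.c3] at hd
  obtain ⟨m, hm3, hm⟩ := (Nat.dvd_prime_pow hpp).mp hd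
  have hm2 : 2 ≤ m := by
    by_contra hlt
    push Not at hlt
    have h2 : p ^ m ≤ p ^ 1 := Nat.pow_le_pow_right hpp.pos (by omega)
    have h3 : p ^ 2 * p ^ m ≤ p ^ 2 * p ^ 1 := Nat.mul_le_mul_left _ h2
    rw [hm] at h1
    have h4 : p ^ 2 * p ^ 1 < p ^ 4 := by
      rw [← pow_add]
      exact Nat.pow_lt_pow_right hpp.one_lt (by norm_num)
    omega
  have hm3' : m ≠ 3 := by
    rintro rfl
    have h2 : B ⊓ E = E := Subgroup.eq_of_le_of_card_ge inf_le_right (by rw [hm, h.c3])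
    have h3 : E ≤ B := by rw [← h2]; exact inf_le_left
    have h4 := Subgroup.card_le_of_le (ea_le_of_le h.hΩ hB h3)
    rw [h.c3] at h4
    have h5 : p ^ 3 < p ^ 4 := Nat.pow_lt_pow_right hpp.one_lt (by norm_num)
    omega
  have hm' : m = 2 := by omega
  subst hm'
  refine ⟨hm, le_antisymm ?_ hB4⟩
  rw [hm] at h1
  calc Nat.card B ≤ p ^ 2 * p ^ 2 := h1
    _ = p ^ 4 := by ring

theorem EA4Chain.inf_eq {E E₁ E₂ : Subgroup G} (h : EA4Chain p E E₁ E₂) {B : Subgroup G}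
    (hB : IsElementaryAbelian p B) (hB4 : Nat.card B = p ^ 4) : B ⊓ E = E₂ := by
  have hpp := hp.out
  obtain ⟨hD, _⟩ := h.card_inf_eq hB hB4.ge
  have hle : E₂ ≤ B ⊓ E := by
    by_contra hcon
    obtain ⟨e, he2, heD⟩ := SetLike.not_le_iff_exists.mp hcon
    have hcard : Nat.card E = p * Nat.card (B ⊓ E : Subgroup G) := by rw [hD, h.c3]; ring
    have hX : B ≤ Subgroup.centralizer ((B ⊓ E : Subgroup G) : Set G) := by
      intro b hb
      rw [Subgroup.mem_centralizer_iff]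
      intro d hd
      exact ea_comm hB (Subgroup.mem_inf.mp hd).1 hb
    have := card_le_of_commutator_mem hpp (inf_le_right : B ⊓ E ≤ E) hcard (h.h2E he2) heD hX
      (F := E₁) (fun x _ => h.hc2 e he2 x)
    rw [inf_centralizer_eq_inf h.hE h.hΩ hB, hD, h.c1, hB4] at this
    have h5 : p * p ^ 2 < p ^ 4 := by
      calc p * p ^ 2 = p ^ 3 := by ring
        _ < p ^ 4 := Nat.pow_lt_pow_right hpp.one_lt (by norm_num)
    omega
  exact (Subgroup.eq_of_le_of_card_ge hle (by rw [hD, h.c2])).symm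

theorem EA4Chain.card_le_of_le_centralizer {E E₁ E₂ : Subgroup G} (h : EA4Chain p E E₁ E₂)
    {K : Subgroup G} (hK : K ≤ Subgroup.centralizer (E₂ : Set G)) :
    Nat.card K ≤ p ^ 2 * Nat.card (K ⊓ Subgroup.centralizer (E : Set G) : Subgroup G) := by
  have hpp := hp.out
  have hlt23 : Nat.card E₂ < Nat.card E := by
    rw [h.c2, h.c3]
    exact Nat.pow_lt_pow_right hpp.one_lt (by norm_num)
  obtain ⟨e₀, he3, he2⟩ := exists_mem_not_mem_of_card_lt hlt23
  have hcard23 : Nat.card E = p * Nat.card E₂ := by rw [h.c2, h.c3]; ring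
  have := card_le_of_commutator_mem hpp h.h2E hcard23 he3 he2 hK
    (F := E₂) (fun x _ => h.hc3 e₀ he3 x)
  rwa [h.c2] at this

theorem EA4Chain.sup_centralizer_eq {E E₁ E₂ : Subgroup G} (h : EA4Chain p E E₁ E₂)
    {B : Subgroup G} (hB : IsElementaryAbelian p B) (hB4 : Nat.card B = p ^ 4) :
    B ⊔ Subgroup.centralizer (E : Set G) = Subgroup.centralizer (E₂ : Set G) := by
  have hpp := hp.out
  have hEn := h.hEn
  set N := Subgroup.centralizer (E : Set G) with hN
  have hNn : N.Normal := Subgroup.normal_centralizer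
  have hNle : N ≤ Subgroup.centralizer (E₂ : Set G) := Subgroup.centralizer_le h.h2E
  have hBle : B ≤ Subgroup.centralizer (E₂ : Set G) := by
    intro b hb
    rw [Subgroup.mem_centralizer_iff]
    intro e he
    have : e ∈ B ⊓ E := by rw [h.inf_eq hB hB4]; exact he
    exact ea_comm hB (Subgroup.mem_inf.mp this).1 hb
  have hle : B ⊔ N ≤ Subgroup.centralizer (E₂ : Set G) := sup_le hBle hNle
  refine Subgroup.eq_of_le_of_card_ge hle ?_
  have h1 := h.card_le_of_le_centralizer (le_refl (Subgroup.centralizer (E₂ : Set G)))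
  rw [inf_eq_right.mpr hNle] at h1
  have h2 := card_eq_relIndex_mul_card_inf (B ⊔ N) N
  rw [Subgroup.relIndex_sup_right, inf_eq_right.mpr (le_sup_right : N ≤ B ⊔ N)] at h2
  have h3 := card_eq_relIndex_mul_card_inf B N
  rw [hN, inf_centralizer_eq_inf h.hE h.hΩ hB, (h.card_inf_eq hB hB4.ge).1, hB4] at h3
  have h4 : N.relIndex B = p ^ 2 := by
    have hpos : 0 < p ^ 2 := pow_pos hpp.pos 2
    have : p ^ 2 * p ^ 2 = N.relIndex B * p ^ 2 := by rw [← h3]; ring
    exact (Nat.eq_of_mul_eq_mul_right hpos this).symm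
  rw [h2, h4]
  exact h1


omit [Finite G] hp in
theorem ea_map {H : Type*} [Group H] (f : G →* H) {B : Subgroup G}
    (hB : IsElementaryAbelian p B) : IsElementaryAbelian p (B.map f) := by
  refine ea_of_forall ?_ ?_
  · rintro _ ⟨a, ha, rfl⟩ _ ⟨b, hb, rfl⟩
    rw [← map_mul, ← map_mul, ea_comm hB ha hb]
  · rintro _ ⟨a, ha, rfl⟩
    rw [← map_pow, hB.2 a ha, map_one]

omit hp in
theorem card_mul_card_le_card_sup_mul_card_inf (B B' : Subgroup G) :
    Nat.card B * Nat.card B' ≤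
      Nat.card (B ⊔ B' : Subgroup G) * Nat.card (B ⊓ B' : Subgroup G) := by
  have h1 := card_eq_relIndex_mul_card_inf B B'
  have h2 := card_eq_relIndex_mul_card_inf (B ⊔ B') B'
  rw [inf_eq_right.mpr (le_sup_right : B' ≤ B ⊔ B')] at h2
  have h3 : B'.relIndex B ≤ B'.relIndex (B ⊔ B') :=
    Subgroup.relIndex_le_of_le_right le_sup_left (by
      intro h0
      rw [h0, zero_mul] at h2
      exact absurd h2 Nat.card_pos.ne')
  calc Nat.card B * Nat.card B' = B'.relIndex B * Nat.card (B ⊓ B' : Subgroup G) * Nat.card B' := by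
        rw [← h1]
    _ ≤ B'.relIndex (B ⊔ B') * Nat.card (B ⊓ B' : Subgroup G) * Nat.card B' :=
        Nat.mul_le_mul_right _ (Nat.mul_le_mul_right _ h3)
    _ = Nat.card (B ⊔ B' : Subgroup G) * Nat.card (B ⊓ B' : Subgroup G) := by rw [h2]; ring

theorem EA4Chain.normal_of_card (hp2 : p ≠ 2) (hG : IsPGroup p G) {E E₁ E₂ : Subgroup G}
    (h : EA4Chain p E E₁ E₂) {B : Subgroup G} (hB : IsElementaryAbelian p B)
    (hB4 : Nat.card B = p ^ 4) : B.Normal := by
  have hpp := hp.out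
  have hnil : Group.IsNilpotent G := hG.isNilpotent
  have hEn := h.hEn
  rw [← Subgroup.normalizer_eq_top_iff]
  by_contra hne
  have hlt : Subgroup.normalizer (B : Set G) < ⊤ := lt_top_iff_ne_top.mpr hne
  have hlt2 := Group.normalizerCondition_of_isNilpotent (G := G) _ hlt
  refine absurd ?_ (not_le_of_gt hlt2)
  rw [Subgroup.le_normalizer_iff]
  intro g hg
  have hginv : g⁻¹ ∈ Subgroup.normalizer
      ((Subgroup.normalizer (B : Set G) : Subgroup G) : Set G) := Subgroup.inv_mem _ hg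
  set φ : G →* G := (MulAut.conj g).toMonoidHom with hφ
  have hφa : ∀ a : G, φ a = g * a * g⁻¹ := fun a => rfl
  set B' := B.map φ with hB'def
  have hB' : IsElementaryAbelian p B' := ea_map φ hB
  have hB'4 : Nat.card B' = p ^ 4 := by
    rw [hB'def, Subgroup.card_map_of_injective (MulAut.conj g).injective, hB4]
  by_contra hcon
  push Not at hcon
  obtain ⟨k₀, hk₀B, hk₀⟩ := hcon
  have hb'0 : φ k₀ ∈ B' := Subgroup.mem_map_of_mem φ hk₀B
  -- mutual normalization
  have hB'N : B' ≤ Subgroup.normalizer (B : Set G) := by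
    rintro _ ⟨k, hk, rfl⟩
    rw [hφa]
    exact (Subgroup.mem_normalizer_iff.mp hg k).mp (Subgroup.le_normalizer hk)
  have hBN' : B ≤ Subgroup.normalizer (B' : Set G) := by
    rw [Subgroup.le_normalizer_iff]
    rintro b hb _ ⟨k, hk, rfl⟩
    have h1 : g⁻¹ * b * g ∈ Subgroup.normalizer (B : Set G) := by
      have := (Subgroup.mem_normalizer_iff.mp hginv b).mp (Subgroup.le_normalizer hb)
      rwa [inv_inv] at this
    have h2 : (g⁻¹ * b * g) * k * (g⁻¹ * b * g)⁻¹ ∈ B :=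
      (Subgroup.mem_normalizer_iff.mp h1 k).mp hk
    have h3 : b * φ k * b⁻¹ = φ ((g⁻¹ * b * g) * k * (g⁻¹ * b * g)⁻¹) := by
      rw [hφa, hφa]; group
    rw [h3]
    exact Subgroup.mem_map_of_mem φ h2
  set K := B ⊔ B' with hK
  have hKmul : ((K : Subgroup G) : Set G) = (B : Set G) * (B' : Set G) :=
    Subgroup.coe_mul_of_left_le_normalizer_right B B' hBN'
  have hKexp : ∀ k ∈ K, k ^ p = 1 := by
    intro k hk
    have hk' : k ∈ (B : Set G) * (B' : Set G) := by rw [← hKmul]; exact hk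
    obtain ⟨b, hb, b', hb', rfl⟩ := Set.mem_mul.mp hk'
    have hb : b ∈ B := hb
    have hb' : b' ∈ B' := hb'
    have hcB : ⁅b', b⁆ ∈ B := by
      rw [commutatorElement_def]
      exact B.mul_mem ((Subgroup.mem_normalizer_iff.mp (hB'N hb') b).mp hb) (B.inv_mem hb)
    have hcB' : ⁅b', b⁆ ∈ B' := by
      have h1 : b * b'⁻¹ * b⁻¹ ∈ B' :=
        (Subgroup.mem_normalizer_iff.mp (hBN' hb) b'⁻¹).mp (B'.inv_mem hb')
      have h2 : ⁅b', b⁆ = b' * (b * b'⁻¹ * b⁻¹) := by rw [commutatorElement_def]; group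
      rw [h2]
      exact B'.mul_mem hb' h1
    exact pow_eq_one_of_commutator_commute hpp hp2 (hB.2 b hb) (hB'.2 b' hb')
      (ea_comm hB hcB hb) (ea_comm hB' hcB' hb')
  have hBM : B ⊔ Subgroup.centralizer (E : Set G) = Subgroup.centralizer (E₂ : Set G) :=
    h.sup_centralizer_eq hB hB4
  have hB'M : B' ⊔ Subgroup.centralizer (E : Set G) = Subgroup.centralizer (E₂ : Set G) :=
    h.sup_centralizer_eq hB' hB'4
  have hBle : B ≤ Subgroup.centralizer (E₂ : Set G) := hBM ▸ le_sup_left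
  have hB'le : B' ≤ Subgroup.centralizer (E₂ : Set G) := hB'M ▸ le_sup_left
  have hKM : K ≤ Subgroup.centralizer (E₂ : Set G) := sup_le hBle hB'le
  have hKN : (K ⊓ Subgroup.centralizer (E : Set G) : Subgroup G) ≤ E := by
    intro x hx
    rw [Subgroup.mem_inf] at hx
    exact h.hΩ x hx.2 (hKexp x hx.1)
  have hKcard : Nat.card K ≤ p ^ 5 := by
    have h1 := h.card_le_of_le_centralizer hKM
    have h2 := Subgroup.card_le_of_le hKN
    rw [h.c3] at h2
    calc Nat.card K ≤ p ^ 2 * Nat.card (K ⊓ Subgroup.centralizer (E : Set G) : Subgroup G) := h1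
      _ ≤ p ^ 2 * p ^ 3 := Nat.mul_le_mul_left _ h2
      _ = p ^ 5 := by ring
  have hinf : p ^ 3 ≤ Nat.card (B ⊓ B' : Subgroup G) := by
    have h1 := card_mul_card_le_card_sup_mul_card_inf B B'
    rw [hB4, hB'4] at h1
    have h2 : p ^ 4 * p ^ 4 ≤ p ^ 5 * Nat.card (B ⊓ B' : Subgroup G) :=
      le_trans h1 (Nat.mul_le_mul_right _ hKcard)
    have h3 : p ^ 5 * p ^ 3 ≤ p ^ 5 * Nat.card (B ⊓ B' : Subgroup G) := by
      calc p ^ 5 * p ^ 3 = p ^ 4 * p ^ 4 := by ring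
        _ ≤ _ := h2
    exact Nat.le_of_mul_le_mul_left h3 (pow_pos hpp.pos 5)
  have hlt' : Nat.card E₂ < Nat.card (B ⊓ B' : Subgroup G) := by
    rw [h.c2]
    exact lt_of_lt_of_le (Nat.pow_lt_pow_right hpp.one_lt (by norm_num)) hinf
  obtain ⟨b₂, hb₂, hb₂E⟩ := exists_mem_not_mem_of_card_lt hlt'
  rw [Subgroup.mem_inf] at hb₂
  -- decompose b' = φ k₀
  have hNn : (Subgroup.centralizer (E : Set G)).Normal := Subgroup.normal_centralizer
  have hb'M : φ k₀ ∈ B ⊔ Subgroup.centralizer (E : Set G) := by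
    rw [hBM]; exact hB'le hb'0
  have hb'mul : φ k₀ ∈ (B : Set G) * (Subgroup.centralizer (E : Set G) : Set G) := by
    rw [← Subgroup.mul_normal]; exact hb'M
  obtain ⟨b₁, hb₁, n, hn, hb₁n⟩ := Set.mem_mul.mp hb'mul
  have hb₁ : b₁ ∈ B := hb₁
  have hn : n ∈ Subgroup.centralizer (E : Set G) := hn
  have hnK : n ∈ K := by
    have : n = b₁⁻¹ * φ k₀ := by rw [← hb₁n]; group
    rw [this]
    exact K.mul_mem (K.inv_mem ((le_sup_left : B ≤ K) hb₁)) ((le_sup_right : B' ≤ K) hb'0)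
  have hnE : n ∈ E := h.hΩ n hn (hKexp n hnK)
  have hE₂B : E₂ ≤ B := by rw [← h.inf_eq hB hB4]; exact inf_le_left
  have hnE₂ : n ∉ E₂ := by
    intro hn2
    apply hk₀
    rw [← hφa, ← hb₁n]
    exact B.mul_mem hb₁ (hE₂B hn2)
  have hcard23 : Nat.card E = p * Nat.card E₂ := by rw [h.c2, h.c3]; ring
  have hb₂n : n * b₂ = b₂ * n := by
    have h1 : b₂ * φ k₀ = φ k₀ * b₂ := ea_comm hB' hb₂.2 hb'0
    have h2 : b₂ * b₁ = b₁ * b₂ := ea_comm hB hb₂.1 hb₁
    have h3 : n = b₁⁻¹ * φ k₀ := by rw [← hb₁n]; group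
    calc n * b₂ = b₁⁻¹ * (φ k₀ * b₂) := by rw [h3]; group
      _ = b₁⁻¹ * (b₂ * φ k₀) := by rw [h1]
      _ = b₁⁻¹ * (b₂ * b₁) * (b₁⁻¹ * φ k₀) := by group
      _ = b₁⁻¹ * (b₁ * b₂) * (b₁⁻¹ * φ k₀) := by rw [h2]
      _ = b₂ * n := by rw [h3]; group
  have hb₂C : b₂ ∈ Subgroup.centralizer (E : Set G) := by
    have := mem_centralizer_sup_zpowers (hBle hb₂.1) hb₂n
    rwa [sup_zpowers_eq_of_card hpp h.h2E hcard23 hnE hnE₂] at this
  have : b₂ ∈ B ⊓ Subgroup.centralizer (E : Set G) := Subgroup.mem_inf.mpr ⟨hb₂.1, hb₂C⟩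
  rw [inf_centralizer_eq_inf h.hE h.hΩ hB, h.inf_eq hB hB4] at this
  exact hb₂E this


end gamma

section main

variable {G : Type*} [Group G] [Finite G] {p : ℕ} [hp : Fact p.Prime]

omit [Finite G] hp in
theorem le_center_of_commutator_mem_bot {E : Subgroup G}
    (h : ∀ e ∈ E, ∀ g : G, ⁅e, g⁆ ∈ (⊥ : Subgroup G)) : E ≤ Subgroup.center G := by
  intro e he
  rw [Subgroup.mem_center_iff]
  intro g
  have := h e he g
  rw [Subgroup.mem_bot, commutatorElement_eq_one_iff_mul_comm] at this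
  exact this.symm

/-- a normal subgroup of order `p` of a finite `p`-group is central -/
theorem le_center_of_card_eq_prime (hG : IsPGroup p G) (E : Subgroup G) [hEn : E.Normal]
    (hc : Nat.card E = p) : E ≤ Subgroup.center G := by
  have hpp := hp.out
  have hlt : (⊥ : Subgroup G) < E := by
    rw [bot_lt_iff_ne_bot]
    rintro rfl
    rw [Subgroup.card_bot] at hc
    exact hpp.one_lt.ne hc
  obtain ⟨M', _, _, hM'E, hM'c, hM'comm⟩ := exists_normal_step hG ⊥ E hlt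
  rw [Subgroup.card_bot, mul_one] at hM'c
  have : M' = E := Subgroup.eq_of_le_of_card_ge hM'E (by rw [hM'c, hc])
  rw [this] at hM'comm
  exact le_center_of_commutator_mem_bot hM'comm

omit [Finite G] hp in
theorem ea_le_of_le_center {E B : Subgroup G}
    (hΩ : ∀ x : G, x ∈ Subgroup.centralizer (E : Set G) → x ^ p = 1 → x ∈ E)
    (hEc : E ≤ Subgroup.center G) (hB : IsElementaryAbelian p B) : B ≤ E := by
  intro b hb
  refine hΩ b ?_ (hB.2 b hb)
  rw [Subgroup.mem_centralizer_iff]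
  intro e he
  exact Subgroup.mem_center_iff.mp (hEc he) b |>.symm

theorem false_of_card_eq_sq (hG : IsPGroup p G) {E : Subgroup G} [hEn : E.Normal]
    (hE : IsElementaryAbelian p E)
    (hΩ : ∀ x : G, x ∈ Subgroup.centralizer (E : Set G) → x ^ p = 1 → x ∈ E)
    (hc : Nat.card E = p ^ 2) {B : Subgroup G} (hB : IsElementaryAbelian p B)
    (hB4 : Nat.card B = p ^ 4) : False := by
  have hpp := hp.out
  have hlt : (⊥ : Subgroup G) < E := by
    rw [bot_lt_iff_ne_bot]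
    rintro rfl
    rw [Subgroup.card_bot] at hc
    have : 1 < p ^ 2 := Nat.one_lt_pow (by norm_num) hpp.one_lt
    omega
  obtain ⟨E₁, hE₁n, _, hE₁E, hE₁c, hE₁comm⟩ := exists_normal_step hG ⊥ E hlt
  rw [Subgroup.card_bot, mul_one] at hE₁c
  have hE₁cen : E₁ ≤ Subgroup.center G := le_center_of_commutator_mem_bot hE₁comm
  have hlt1 : E₁ < E := by
    refine lt_of_le_of_ne hE₁E ?_
    rintro rfl
    rw [hE₁c] at hc
    have : p ^ 1 < p ^ 2 := Nat.pow_lt_pow_right hpp.one_lt (by norm_num)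
    rw [pow_one] at this
    omega
  obtain ⟨E₂, _, _, hE₂E, hE₂c, hE₂comm⟩ := exists_normal_step hG E₁ E hlt1
  have hE₂eq : E₂ = E := Subgroup.eq_of_le_of_card_ge hE₂E (by rw [hE₂c, hE₁c, hc, pow_two])
  rw [hE₂eq] at hE₂comm
  have hcardlt : Nat.card E₁ < Nat.card E := by
    rw [hE₁c, hc]
    calc p = p ^ 1 := (pow_one p).symm
      _ < p ^ 2 := Nat.pow_lt_pow_right hpp.one_lt (by norm_num)
  obtain ⟨u, huE, hu1⟩ := exists_mem_not_mem_of_card_lt hcardlt
  have hB1 : B ≤ Subgroup.centralizer (E₁ : Set G) := by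
    intro b _
    rw [Subgroup.mem_centralizer_iff]
    intro e he
    exact (Subgroup.mem_center_iff.mp (hE₁cen he) b).symm
  have hcard : Nat.card E = p * Nat.card E₁ := by rw [hc, hE₁c, pow_two]
  have h1 := card_le_of_commutator_mem hpp hE₁E hcard huE hu1 hB1
    (F := E₁) (fun x _ => hE₂comm u huE x)
  rw [inf_centralizer_eq_inf hE hΩ hB, hE₁c, hB4] at h1
  have h2 := Subgroup.card_le_of_le (inf_le_right : B ⊓ E ≤ E)
  rw [hc] at h2
  have h3 : p * Nat.card (B ⊓ E : Subgroup G) ≤ p * p ^ 2 := Nat.mul_le_mul_left _ h2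
  have h4 : p * p ^ 2 < p ^ 4 := by
    calc p * p ^ 2 = p ^ 3 := by ring
      _ < p ^ 4 := Nat.pow_lt_pow_right hpp.one_lt (by norm_num)
  omega

theorem exists_chain_of_card_eq_cube (hG : IsPGroup p G) {E : Subgroup G} [hEn : E.Normal]
    (hE : IsElementaryAbelian p E)
    (hΩ : ∀ x : G, x ∈ Subgroup.centralizer (E : Set G) → x ^ p = 1 → x ∈ E)
    (hc : Nat.card E = p ^ 3) : ∃ E₁ E₂ : Subgroup G, EA4Chain p E E₁ E₂ := by
  have hpp := hp.out
  have hlt : (⊥ : Subgroup G) < E := by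
    rw [bot_lt_iff_ne_bot]
    rintro rfl
    rw [Subgroup.card_bot] at hc
    have : 1 < p ^ 3 := Nat.one_lt_pow (by norm_num) hpp.one_lt
    omega
  obtain ⟨E₁, hE₁n, _, hE₁E, hE₁c, hE₁comm⟩ := exists_normal_step hG ⊥ E hlt
  rw [Subgroup.card_bot, mul_one] at hE₁c
  have hE₁cen : E₁ ≤ Subgroup.center G := le_center_of_commutator_mem_bot hE₁comm
  have hlt1 : E₁ < E := by
    refine lt_of_le_of_ne hE₁E ?_
    rintro rfl
    rw [hE₁c] at hc
    have : p ^ 1 < p ^ 3 := Nat.pow_lt_pow_right hpp.one_lt (by norm_num)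
    rw [pow_one] at this
    omega
  obtain ⟨E₂, hE₂n, h12, hE₂E, hE₂c, hE₂comm⟩ := exists_normal_step hG E₁ E hlt1
  rw [hE₁c, ← pow_two] at hE₂c
  have hlt2 : E₂ < E := by
    refine lt_of_le_of_ne hE₂E ?_
    rintro rfl
    rw [hE₂c] at hc
    have : p ^ 2 < p ^ 3 := Nat.pow_lt_pow_right hpp.one_lt (by norm_num)
    omega
  obtain ⟨E₃, _, _, hE₃E, hE₃c, hE₃comm⟩ := exists_normal_step hG E₂ E hlt2
  have hE₃eq : E₃ = E := Subgroup.eq_of_le_of_card_ge hE₃E (by rw [hE₃c, hE₂c, hc]; ring_nf; rfl)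
  rw [hE₃eq] at hE₃comm
  exact ⟨E₁, E₂, ⟨hEn, hE, hΩ, hE₂n, h12, hE₂E, hE₁c, hE₂c, hc, hE₁cen, hE₂comm, hE₃comm⟩⟩

/-- **Theorem.** For odd `p`, a finite `p`-group containing an elementary abelian subgroup of
order `p ^ 4` has a normal elementary abelian subgroup of order `p ^ 4`. -/
theorem exists_normal_ea_four (hp2 : p ≠ 2) (hG : IsPGroup p G) (E₀ : Subgroup G)
    (hE₀ : IsElementaryAbelian p E₀) (hE₀4 : Nat.card E₀ = p ^ 4) :
    ∃ A : Subgroup G, A.Normal ∧ IsElementaryAbelian p A ∧ Nat.card A = p ^ 4 := by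
  have hpp := hp.out
  -- a normal elementary abelian subgroup of largest order
  have hne : Nonempty {A : Subgroup G // A.Normal ∧ IsElementaryAbelian p A} :=
    ⟨⟨⊥, inferInstance, ea_bot⟩⟩
  obtain ⟨⟨E, hEn, hE⟩, hEmax⟩ := Finite.exists_max
    (fun A : {A : Subgroup G // A.Normal ∧ IsElementaryAbelian p A} => Nat.card A.1)
  have hmax : ∀ A : Subgroup G, A.Normal → IsElementaryAbelian p A → E ≤ A → A = E := by
    intro A hAn hA hEA
    exact (Subgroup.eq_of_le_of_card_ge hEA (hEmax ⟨A, hAn, hA⟩)).symm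
  have hΩ : ∀ x : G, x ∈ Subgroup.centralizer (E : Set G) → x ^ p = 1 → x ∈ E :=
    fun x hx hxp => alperin_omega_one hp2 hG E hE hmax hx hxp
  by_cases h4 : p ^ 4 ≤ Nat.card E
  · obtain ⟨M, hMn, hME, hMc⟩ := exists_normal_le_card_eq hG E 4 h4
    exact ⟨M, hMn, ea_mono hE hME, hMc⟩
  · push Not at h4
    obtain ⟨k, hk⟩ := IsPGroup.iff_card.mp (hG.to_subgroup E)
    have hk4 : k < 4 := by
      rw [hk] at h4
      exact (Nat.pow_lt_pow_iff_right hpp.one_lt).mp h4
    have h14 : 1 < p ^ 4 := Nat.one_lt_pow (by norm_num) hpp.one_lt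
    have hp4 : p < p ^ 4 := by
      calc p = p ^ 1 := (pow_one p).symm
        _ < p ^ 4 := Nat.pow_lt_pow_right hpp.one_lt (by norm_num)
    interval_cases k
    · -- E trivial
      exfalso
      rw [pow_zero] at hk
      have hEbot : E = ⊥ := Subgroup.card_eq_one.mp hk
      have hEc : E ≤ Subgroup.center G := by rw [hEbot]; exact bot_le
      have := Subgroup.card_le_of_le (ea_le_of_le_center hΩ hEc hE₀)
      omega
    · exfalso
      rw [pow_one] at hk
      have hEc : E ≤ Subgroup.center G := le_center_of_card_eq_prime hG E hk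
      have := Subgroup.card_le_of_le (ea_le_of_le_center hΩ hEc hE₀)
      omega
    · exact (false_of_card_eq_sq hG hE hΩ hk hE₀ hE₀4).elim
    · obtain ⟨E₁, E₂, hch⟩ := exists_chain_of_card_eq_cube hG hE hΩ hk
      exact ⟨E₀, hch.normal_of_card hp2 hG hE₀ hE₀4, hE₀, hE₀4⟩

end main
end Cfsg.Agent.Lib.Helper29
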