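import Mathlib
import Cfsg.Agent.S4413

/-!
Elementwise facts about an extraspecial `2`-subgroup `E` of a group `G`, with centre `{1, z}`.
-/

set_option autoImplicit false

namespace Cfsg.Agent.Lib.Helper29

open Cfsg

/-- Elementwise package for an extraspecial 2-subgroup `E ≤ G` with centre `{1, z}`. -/
structure ESG {G : Type*} [Group G] (E : Subgroup G) (z : G) : Prop where
  zE : z ∈ E
  z1 : z ≠ 1
  zz : z * z = 1
  zc : ∀ x ∈ E, x * z = z * x
  comm : ∀ a ∈ E, ∀ b ∈ E, a * b = b * a ∨ a * b = z * (b * a)
  cent : ∀ x ∈ E, (∀ y ∈ E, y * x = x * y) → x = 1 ∨ x = z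
  sq : ∀ x ∈ E, x * x = 1 ∨ x * x = z

theorem card_le_finset_of_finite {G : Type*} [Group G]
    (A : Subgroup G) [Finite ↥A] (T : Finset G)
    (hT : ∀ a ∈ A, a ∈ T) : Nat.card ↥A ≤ T.card := by
  classical
  have : Fintype ↥A := Fintype.ofFinite _
  rw [Nat.card_eq_fintype_card, ← Fintype.card_coe T]
  exact Fintype.card_le_of_injective (fun a : ↥A => (⟨a.1, hT a.1 a.2⟩ : ↥T))
    (fun a b hab => Subtype.ext (congrArg (fun x : ↥T => x.1) hab))

section Basic

variable {G : Type*} [Group G] {E : Subgroup G} {z : G}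

theorem ESG.of_extraspecial [Finite ↥E] (hext : Cfsg.IsExtraspecial 2 ↥E) (hzE : z ∈ E)
    (hz1 : z ≠ 1) (hzc : ∀ x ∈ E, x * z = z * x) : ESG E z := by
  obtain ⟨z', hES⟩ := Cfsg.Agent.S4413.exists_ES hext
  have hz' : (⟨z, hzE⟩ : ↥E) = z' := by
    have hc : ∀ y : ↥E, y * ⟨z, hzE⟩ = ⟨z, hzE⟩ * y := fun y => Subtype.ext (hzc y.1 y.2)
    rcases hES.cent _ hc with h | h
    · exact absurd (congrArg Subtype.val h) hz1
    · exact h
  subst hz'
  refine ⟨hzE, hz1, ?_, hzc, ?_, ?_, ?_⟩
  · exact congrArg Subtype.val hES.zz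
  · intro a ha b hb
    rcases hES.comm ⟨a, ha⟩ ⟨b, hb⟩ with h | h
    · exact Or.inl (congrArg Subtype.val h)
    · exact Or.inr (congrArg Subtype.val h)
  · intro x hx hc
    rcases hES.cent ⟨x, hx⟩ (fun y => Subtype.ext (hc y.1 y.2)) with h | h
    · exact Or.inl (congrArg Subtype.val h)
    · exact Or.inr (congrArg Subtype.val h)
  · intro x hx
    rcases hES.sq ⟨x, hx⟩ with h | h
    · exact Or.inl (congrArg Subtype.val h)
    · exact Or.inr (congrArg Subtype.val h)

namespace ESG

theorem zinv (h : ESG E z) : z⁻¹ = z := inv_eq_of_mul_eq_one_left h.zz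

theorem zz' (h : ESG E z) (w : G) : z * (z * w) = w := by
  rw [← mul_assoc, h.zz, one_mul]

theorem zc' (h : ESG E z) {x : G} (hx : x ∈ E) (w : G) : x * (z * w) = z * (x * w) := by
  rw [← mul_assoc, h.zc x hx, mul_assoc]

theorem comm_symm (h : ESG E z) {a b : G} (hab : a * b = z * (b * a)) : b * a = z * (a * b) := by
  rw [hab, h.zz']

theorem ne_of_anti (h : ESG E z) {a b : G} (hab : a * b = z * (b * a)) : a * b ≠ b * a := by
  intro h'
  rw [h'] at hab
  have : (1 : G) * (b * a) = z * (b * a) := by rw [one_mul]; exact hab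
  exact h.z1 (mul_right_cancel this).symm

theorem anti_of_ne (h : ESG E z) {a b : G} (ha : a ∈ E) (hb : b ∈ E) (hab : a * b ≠ b * a) :
    a * b = z * (b * a) := by
  rcases h.comm a ha b hb with h' | h'
  · exact absurd h' hab
  · exact h'

/-- product of two elements anticommuting with `x` commutes with `x`. -/
theorem comm_mul_of_anti (h : ESG E z) {x a b : G} (ha : a ∈ E)
    (hxa : x * a = z * (a * x)) (hxb : x * b = z * (b * x)) : x * (a * b) = (a * b) * x := by
  calc x * (a * b) = (x * a) * b := (mul_assoc _ _ _).symm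
    _ = z * (a * x) * b := by rw [hxa]
    _ = z * (a * (x * b)) := by simp only [mul_assoc]
    _ = z * (a * (z * (b * x))) := by rw [hxb]
    _ = (a * b) * x := by rw [h.zc' ha, h.zz', mul_assoc]

/-- product of a commuting and an anticommuting element anticommutes. -/
theorem anti_mul_of_comm_anti (h : ESG E z) {x a b : G} (ha : a ∈ E)
    (hxa : x * a = a * x) (hxb : x * b = z * (b * x)) : x * (a * b) = z * ((a * b) * x) := by
  calc x * (a * b) = (x * a) * b := (mul_assoc _ _ _).symm
    _ = a * (x * b) := by rw [hxa, mul_assoc]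
    _ = a * (z * (b * x)) := by rw [hxb]
    _ = z * ((a * b) * x) := by rw [h.zc' ha, mul_assoc]

/-- A noncommuting pair exists as soon as `|E| > 2`. -/
theorem exists_anti [Finite ↥E] (h : ESG E z) (hcard : 2 < Nat.card ↥E) :
    ∃ a ∈ E, ∃ b ∈ E, a * b = z * (b * a) := by
  classical
  by_contra hcon
  push Not at hcon
  have hle : Nat.card ↥E ≤ ({1, z} : Finset G).card := by
    apply card_le_finset_of_finite
    intro e he
    simp only [Finset.mem_insert, Finset.mem_singleton]
    apply h.cent e he
    intro y hy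
    rcases h.comm y hy e he with h' | h'
    · exact h'
    · exact absurd h' (hcon y hy e he)
  have h2 : ({1, z} : Finset G).card ≤ 2 := Finset.card_le_two
  omega

/-- `z` is a commutator: `a b a⁻¹ b⁻¹ = z` for an anticommuting pair. -/
theorem commutator_eq (_h : ESG E z) {a b : G} (hab : a * b = z * (b * a)) :
    a * b * a⁻¹ * b⁻¹ = z := by
  rw [hab]; group

/-- "Index two" for a subgroup `M` of `E`, elementwise. -/
def IndexTwoIn (E M : Subgroup G) : Prop :=
  ∀ a ∈ E, ∀ b ∈ E, (a * b ∈ M ↔ (a ∈ M ↔ b ∈ M))

/-- An abelian subgroup of index two forces `|E| ≤ 8`. -/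
theorem card_le_eight_of_abelian [Finite ↥E] (h : ESG E z) (M : Subgroup G) (hME : M ≤ E)
    (hM2 : IndexTwoIn E M) {t : G} (htE : t ∈ E) (htM : t ∉ M)
    (hab : ∀ a ∈ M, ∀ b ∈ M, a * b = b * a) : Nat.card ↥E ≤ 8 := by
  classical
  have htinv : t⁻¹ ∉ M := fun hc => htM (by simpa using M.inv_mem hc)
  -- every element of `E` is in `M` or `t * M`
  have hcos : ∀ e ∈ E, e ∈ M ∨ t⁻¹ * e ∈ M := by
    intro e he
    by_cases heM : e ∈ M
    · exact Or.inl heM
    · right
      rw [hM2 _ (E.inv_mem htE) _ he]
      exact ⟨fun hc => absurd hc htinv, fun hc => absurd hc heM⟩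
  -- elements of `M` commuting with `t` are central
  have hcen : ∀ m ∈ M, m * t = t * m → m = 1 ∨ m = z := by
    intro m hm hmt
    apply h.cent m (hME hm)
    intro y hy
    rcases hcos y hy with hyM | hyM
    · exact hab y hyM m hm
    · have h1 := hab _ hyM m hm
      -- y = t * (t⁻¹ * y)
      calc y * m = t * ((t⁻¹ * y) * m) := by group
        _ = t * (m * (t⁻¹ * y)) := by rw [h1]
        _ = (t * m) * (t⁻¹ * y) := by rw [mul_assoc]
        _ = (m * t) * (t⁻¹ * y) := by rw [hmt]
        _ = m * y := by group
  -- M has at most four elements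
  have hM4 : ∃ S : Finset G, S.card ≤ 4 ∧ ∀ m ∈ M, m ∈ S := by
    by_cases hex : ∃ m1 ∈ M, m1 * t ≠ t * m1
    · obtain ⟨m1, hm1, hne⟩ := hex
      refine ⟨{1, z, m1⁻¹, m1⁻¹ * z}, Finset.card_le_four, ?_⟩
      intro m hm
      simp only [Finset.mem_insert, Finset.mem_singleton]
      by_cases hmt : m * t = t * m
      · rcases hcen m hm hmt with h' | h'
        · exact Or.inl h'
        · exact Or.inr (Or.inl h')
      · -- m1 * m commutes with t
        have ha1 : t * m1 = z * (m1 * t) :=
          h.anti_of_ne htE (hME hm1) (fun hc => hne hc.symm)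
        have ha2 : t * m = z * (m * t) :=
          h.anti_of_ne htE (hME hm) (fun hc => hmt hc.symm)
        have hc := h.comm_mul_of_anti (hME hm1) ha1 ha2
        rcases hcen (m1 * m) (M.mul_mem hm1 hm) hc.symm with h' | h'
        · right; right; left
          exact (eq_inv_of_mul_eq_one_right h')
        · right; right; right
          rw [← h']; group
    · push Not at hex
      refine ⟨{1, z}, Finset.card_le_two.trans (by norm_num), ?_⟩
      intro m hm
      simp only [Finset.mem_insert, Finset.mem_singleton]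
      exact hcen m hm (hex m hm)
  obtain ⟨S, hS4, hS⟩ := hM4
  have hle : Nat.card ↥E ≤ (S ∪ S.image (fun m => t * m)).card := by
    apply card_le_finset_of_finite
    intro e he
    rw [Finset.mem_union, Finset.mem_image]
    rcases hcos e he with hm | hm
    · exact Or.inl (hS e hm)
    · exact Or.inr ⟨t⁻¹ * e, hS _ hm, by group⟩
  have h1 := Finset.card_union_le S (S.image (fun m => t * m))
  have h2 : (S.image (fun m => t * m)).card ≤ S.card := Finset.card_image_le
  omega

/-- The centralizer in `E` of an element of `E` has "index two". -/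
theorem indexTwoIn_centralizer (h : ESG E z) {u : G} (hu : u ∈ E) (hnc : ∃ t ∈ E, t * u ≠ u * t) :
    IndexTwoIn E (E ⊓ Subgroup.centralizer {u}) := by
  obtain ⟨t, htE, htu⟩ := hnc
  intro a ha b hb
  simp only [Subgroup.mem_inf, Subgroup.mem_centralizer_singleton_iff, ha, hb, E.mul_mem ha hb,
    true_and]
  rcases h.comm u hu a ha with h1 | h1 <;> rcases h.comm u hu b hb with h2 | h2
  · constructor
    · intro _; exact ⟨fun _ => h2.symm, fun _ => h1.symm⟩
    · intro _
      rw [mul_assoc, ← h2, ← mul_assoc, ← h1, mul_assoc]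
  · have h3 := h.anti_mul_of_comm_anti ha h1 h2
    constructor
    · intro hc
      exact absurd hc.symm (h.ne_of_anti h3)
    · intro hiff
      exact absurd (hiff.mp h1.symm).symm (h.ne_of_anti h2)
  · -- a anticommutes, b commutes
    have h3 : u * (a * b) = z * ((a * b) * u) := by
      calc u * (a * b) = (u * a) * b := (mul_assoc _ _ _).symm
        _ = z * (a * u) * b := by rw [h1]
        _ = z * (a * (u * b)) := by simp only [mul_assoc]
        _ = z * ((a * b) * u) := by rw [h2, mul_assoc]
    constructor
    · intro hc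
      exact absurd hc.symm (h.ne_of_anti h3)
    · intro hiff
      exact absurd (hiff.mpr h2.symm).symm (h.ne_of_anti h1)
  · have h3 := h.comm_mul_of_anti ha h1 h2
    constructor
    · intro _
      exact ⟨fun hc => absurd hc.symm (h.ne_of_anti h1), fun hc => absurd hc.symm (h.ne_of_anti h2)⟩
    · intro _; exact h3.symm

/-- In an extraspecial group of order more than eight, the centralizer of a noncentral element
is nonabelian. -/
theorem exists_anti_in_centralizer [Finite ↥E] (h : ESG E z) (hcard : 8 < Nat.card ↥E) {u : G}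
    (hu : u ∈ E) (hnc : ∃ t ∈ E, t * u ≠ u * t) :
    ∃ a ∈ E, ∃ b ∈ E, a * u = u * a ∧ b * u = u * b ∧ a * b = z * (b * a) := by
  by_contra hcon
  push Not at hcon
  obtain ⟨t, htE, htu⟩ := hnc
  have hle := h.card_le_eight_of_abelian (E ⊓ Subgroup.centralizer {u}) inf_le_left
    (h.indexTwoIn_centralizer hu ⟨t, htE, htu⟩) htE
    (by
      simp only [Subgroup.mem_inf, Subgroup.mem_centralizer_singleton_iff, not_and]
      intro _; exact htu)
    (by
      intro a ha b hb
      simp only [Subgroup.mem_inf, Subgroup.mem_centralizer_singleton_iff] at ha hb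
      rcases h.comm a ha.1 b hb.1 with h' | h'
      · exact h'
      · exact absurd h' (hcon a ha.1 b hb.1 ha.2 hb.2))
  omega

/-- Outside any "index two" subgroup containing `z` of a large extraspecial group there is an
involution. -/
theorem exists_involution_not_mem [Finite ↥E] (h : ESG E z) (hcard : 8 < Nat.card ↥E)
    (M : Subgroup G) (hME : M ≤ E) (hM2 : IndexTwoIn E M) {x : G} (hxE : x ∈ E)
    (hxM : x ∉ M) : ∃ u ∈ E, u ∉ M ∧ u * u = 1 := by
  by_contra hcon
  push Not at hcon
  have hsq : ∀ e ∈ E, e ∉ M → e * e = z := by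
    intro e he heM
    rcases h.sq e he with h' | h'
    · exact absurd h' (hcon e he heM)
    · exact h'
  have hxx := hsq x hxE hxM
  -- for y ∈ M, x * y ∉ M
  have hxy : ∀ y ∈ M, x * y ∉ M := by
    intro y hy hc
    rw [hM2 x hxE y (hME hy)] at hc
    exact hxM (hc.mpr hy)
  -- commuting elements of M have square one, anticommuting ones square z
  have hcomm_sq : ∀ y ∈ M, x * y = y * x → y * y = 1 := by
    intro y hy hc
    have h1 := hsq (x * y) (E.mul_mem hxE (hME hy)) (hxy y hy)
    have h2 : (x * y) * (x * y) = (x * x) * (y * y) := by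
      calc (x * y) * (x * y) = x * ((y * x) * y) := by simp only [mul_assoc]
        _ = x * ((x * y) * y) := by rw [hc]
        _ = (x * x) * (y * y) := by simp only [mul_assoc]
    rw [h2, hxx] at h1
    have : z * (y * y) = z * 1 := by rw [h1, mul_one]
    exact mul_left_cancel this
  have hanti_sq : ∀ y ∈ M, x * y = z * (y * x) → y * y = z := by
    intro y hy hc
    have h1 := hsq (x * y) (E.mul_mem hxE (hME hy)) (hxy y hy)
    have hyx : y * x = z * (x * y) := h.comm_symm hc
    have h2 : (x * y) * (x * y) = y * y := by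
      calc (x * y) * (x * y) = x * ((y * x) * y) := by simp only [mul_assoc]
        _ = x * ((z * (x * y)) * y) := by rw [hyx]
        _ = z * ((x * x) * (y * y)) := by
            rw [mul_assoc z, h.zc' hxE]; simp only [mul_assoc]
        _ = y * y := by rw [hxx, h.zz']
    rw [h2] at h1
    exact h1
  -- two elements of M anticommuting with x commute
  have hanti_comm : ∀ a ∈ M, ∀ b ∈ M, x * a = z * (a * x) → x * b = z * (b * x) →
      a * b = b * a := by
    intro a ha b hb hxa hxb
    have hc := h.comm_mul_of_anti (hME ha) hxa hxb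
    have h1 := hcomm_sq (a * b) (M.mul_mem ha hb) hc
    have haa := hanti_sq a ha hxa
    have hbb := hanti_sq b hb hxb
    rcases h.comm a (hME ha) b (hME hb) with h' | h'
    · exact h'
    · exfalso
      have hba : b * a = z * (a * b) := h.comm_symm h'
      have h2 : (a * b) * (a * b) = z := by
        calc (a * b) * (a * b) = a * ((b * a) * b) := by simp only [mul_assoc]
          _ = a * ((z * (a * b)) * b) := by rw [hba]
          _ = z * ((a * a) * (b * b)) := by
              rw [mul_assoc z, h.zc' (hME ha)]; simp only [mul_assoc]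
          _ = z := by rw [haa, hbb, h.zz, mul_one]
      rw [h2] at h1
      exact h.z1 h1
  -- M is abelian
  have hab : ∀ a ∈ M, ∀ b ∈ M, a * b = b * a := by
    intro a ha b hb
    rcases h.comm x hxE a (hME ha) with h1 | h1 <;> rcases h.comm x hxE b (hME hb) with h2 | h2
    · -- both commute with x: exponent two
      have haa := hcomm_sq a ha h1
      have hbb := hcomm_sq b hb h2
      have hc : x * (a * b) = (a * b) * x := by
        rw [← mul_assoc, h1, mul_assoc, h2, mul_assoc]
      have habab := hcomm_sq (a * b) (M.mul_mem ha hb) hc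
      have hai : a⁻¹ = a := inv_eq_of_mul_eq_one_left haa
      have hbi : b⁻¹ = b := inv_eq_of_mul_eq_one_left hbb
      have : (a * b)⁻¹ = a * b := inv_eq_of_mul_eq_one_left habab
      rw [mul_inv_rev, hai, hbi] at this
      exact this.symm
    · -- a commutes, b anticommutes: a * b anticommutes
      have h3 := h.anti_mul_of_comm_anti (hME ha) h1 h2
      have h4 := hanti_comm (a * b) (M.mul_mem ha hb) b hb h3 h2
      -- (a b) b = b (a b)
      have : (a * b) * b = (b * a) * b := by rw [h4, mul_assoc]
      exact mul_right_cancel this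
    · have h3 : x * (b * a) = z * ((b * a) * x) := h.anti_mul_of_comm_anti (hME hb) h2 h1
      have h4 := hanti_comm (b * a) (M.mul_mem hb ha) a ha h3 h1
      have : (b * a) * a = (a * b) * a := by rw [h4, mul_assoc]
      exact (mul_right_cancel this).symm
    · exact hanti_comm a ha b hb h1 h2
  have hle := h.card_le_eight_of_abelian M hME hM2 hxE hxM hab
  omega

/-- Every element of `E` lies in `C_E(u)` or in `t C_E(u)`, for `t` anticommuting with `u`. -/
theorem coset_cases (h : ESG E z) {u t : G} (hu : u ∈ E) (htE : t ∈ E)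
    (htu : u * t = z * (t * u)) :
    ∀ e ∈ E, e * u = u * e ∨ (t⁻¹ * e) * u = u * (t⁻¹ * e) := by
  intro e he
  rcases h.comm u hu e he with h1 | h1
  · exact Or.inl h1.symm
  · right
    have hti : u * t⁻¹ = z * (t⁻¹ * u) := by
      have : t⁻¹ * (u * t) * t⁻¹ = t⁻¹ * (z * (t * u)) * t⁻¹ := by rw [htu]
      have h2 : t⁻¹ * (u * t) * t⁻¹ = t⁻¹ * u := by group
      have h3 : t⁻¹ * (z * (t * u)) * t⁻¹ = z * (u * t⁻¹) := by
        rw [h.zc' (E.inv_mem htE)]; group
      rw [h2, h3] at this
      rw [this, h.zz']
    exact (h.comm_mul_of_anti (E.inv_mem htE) hti h1).symm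

/-- The centralizer in `E` of `C_E(u)` is `{1, z, u, u z}`. -/
theorem double_centralizer (h : ESG E z) {u t m : G} (hu : u ∈ E) (htE : t ∈ E)
    (htu : u * t = z * (t * u)) (hm : m ∈ E)
    (hmc : ∀ c ∈ E, c * u = u * c → c * m = m * c) : m = 1 ∨ m = z ∨ m = u ∨ m = u * z := by
  have hmu : m * u = u * m := (hmc u hu rfl).symm
  have hcos := h.coset_cases hu htE htu
  rcases h.comm m hm t htE with h1 | h1
  · -- m is central
    have : m = 1 ∨ m = z := by
      apply h.cent m hm
      intro y hy
      rcases hcos y hy with hc | hc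
      · exact hmc y hy hc
      · have h2 := hmc (t⁻¹ * y) (E.mul_mem (E.inv_mem htE) hy) hc
        calc y * m = t * ((t⁻¹ * y) * m) := by group
          _ = t * (m * (t⁻¹ * y)) := by rw [h2]
          _ = (t * m) * (t⁻¹ * y) := by rw [mul_assoc]
          _ = (m * t) * (t⁻¹ * y) := by rw [h1]
          _ = m * y := by group
    rcases this with h' | h'
    · exact Or.inl h'
    · exact Or.inr (Or.inl h')
  · -- m * u is central
    have hmuE : m * u ∈ E := E.mul_mem hm hu
    have hcen : m * u = 1 ∨ m * u = z := by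
      apply h.cent _ hmuE
      intro y hy
      have hyc : ∀ c ∈ E, c * u = u * c → c * (m * u) = (m * u) * c := by
        intro c hc hcu
        rw [← mul_assoc, hmc c hc hcu, mul_assoc, hcu, mul_assoc]
      have htc : t * (m * u) = (m * u) * t := by
        have h1' : t * m = z * (m * t) := h.comm_symm h1
        have h2' : t * u = z * (u * t) := h.comm_symm htu
        exact h.comm_mul_of_anti hm h1' h2'
      rcases hcos y hy with hc | hc
      · exact hyc y hy hc
      · have h2 := hyc (t⁻¹ * y) (E.mul_mem (E.inv_mem htE) hy) hc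
        calc y * (m * u) = t * ((t⁻¹ * y) * (m * u)) := by group
          _ = t * ((m * u) * (t⁻¹ * y)) := by rw [h2]
          _ = (t * (m * u)) * (t⁻¹ * y) := by group
          _ = ((m * u) * t) * (t⁻¹ * y) := by rw [htc]
          _ = (m * u) * y := by group
    have huu : u * u = 1 ∨ u * u = z := h.sq u hu
    rcases hcen with h' | h'
    · -- m = u⁻¹
      have hmi : m = u⁻¹ := eq_inv_of_mul_eq_one_left h'
      rcases huu with h'' | h''
      · right; right; left
        rw [hmi]; exact inv_eq_of_mul_eq_one_left h''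
      · right; right; right
        rw [hmi]
        apply inv_eq_of_mul_eq_one_left
        rw [h.zc u hu, mul_assoc, h'', h.zz]
    · -- m = z * u⁻¹
      have hmi : m = z * u⁻¹ := by rw [← h']; group
      rcases huu with h'' | h''
      · right; right; right
        have hui : u⁻¹ = u := inv_eq_of_mul_eq_one_left h''
        rw [hmi, hui, h.zc u hu]
      · right; right; left
        have hui : u⁻¹ = z * u := by
          apply inv_eq_of_mul_eq_one_left
          rw [mul_assoc, h'', h.zz]
        rw [hmi, hui, h.zz']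

/-- An involution `w` normalizing `E` and centralizing `C_E(u)` (with `C_G(E) ≤ E`, `u` a
noncentral involution of `E`) is `z`, `u` or `u z`. -/
theorem centralizing_involution (h : ESG E z) (hcent : Subgroup.centralizer (E : Set G) ≤ E)
    {u t w : G} (hu : u ∈ E) (huu : u * u = 1) (htE : t ∈ E) (htu : u * t = z * (t * u))
    (hww : w * w = 1) (hw1 : w ≠ 1) (hwE : ∀ e ∈ E, w * e * w⁻¹ ∈ E)
    (hwc : ∀ c ∈ E, c * u = u * c → c * w = w * c) : w = z ∨ w = u ∨ w = u * z := by
  have hwi : w⁻¹ = w := inv_eq_of_mul_eq_one_left hww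
  have hzw : z * w = w * z := hwc z h.zE (h.zc u hu).symm
  have huw : u * w = w * u := hwc u hu rfl
  have hcos := h.coset_cases hu htE htu
  have ht'E : w * t * w⁻¹ ∈ E := hwE t htE
  set t' := w * t * w⁻¹ with ht'
  have hmE : t⁻¹ * t' ∈ E := E.mul_mem (E.inv_mem htE) ht'E
  have hmc : ∀ c ∈ E, c * u = u * c → c * (t⁻¹ * t') = (t⁻¹ * t') * c := by
    intro c hc hcu
    have hcw : c * w = w * c := hwc c hc hcu
    have hcwi : c * w⁻¹ = w⁻¹ * c := by rw [hwi]; exact hcw
    rcases h.comm t htE c hc with h1 | h1
    · have h2 : t' * c = c * t' := by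
        rw [ht']
        calc w * t * w⁻¹ * c = w * (t * (w⁻¹ * c)) := by simp only [mul_assoc]
          _ = w * (t * (c * w⁻¹)) := by rw [hcwi]
          _ = w * ((t * c) * w⁻¹) := by simp only [mul_assoc]
          _ = w * ((c * t) * w⁻¹) := by rw [h1]
          _ = (w * c) * (t * w⁻¹) := by simp only [mul_assoc]
          _ = (c * w) * (t * w⁻¹) := by rw [hcw]
          _ = c * (w * t * w⁻¹) := by simp only [mul_assoc]
      have h3 : t⁻¹ * c = c * t⁻¹ := by
        have : t⁻¹ * (t * c) * t⁻¹ = t⁻¹ * (c * t) * t⁻¹ := by rw [h1]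
        have e1 : t⁻¹ * (t * c) * t⁻¹ = c * t⁻¹ := by group
        have e2 : t⁻¹ * (c * t) * t⁻¹ = t⁻¹ * c := by group
        rw [e1, e2] at this
        exact this.symm
      calc c * (t⁻¹ * t') = (c * t⁻¹) * t' := (mul_assoc _ _ _).symm
        _ = (t⁻¹ * c) * t' := by rw [h3]
        _ = t⁻¹ * (c * t') := mul_assoc _ _ _
        _ = t⁻¹ * (t' * c) := by rw [h2]
        _ = (t⁻¹ * t') * c := (mul_assoc _ _ _).symm
    · have h2 : t' * c = z * (c * t') := by
        rw [ht']
        calc w * t * w⁻¹ * c = w * (t * (w⁻¹ * c)) := by simp only [mul_assoc]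
          _ = w * (t * (c * w⁻¹)) := by rw [hcwi]
          _ = w * ((t * c) * w⁻¹) := by simp only [mul_assoc]
          _ = w * ((z * (c * t)) * w⁻¹) := by rw [h1]
          _ = (w * z) * (c * (t * w⁻¹)) := by simp only [mul_assoc]
          _ = (z * w) * (c * (t * w⁻¹)) := by rw [hzw]
          _ = z * ((w * c) * (t * w⁻¹)) := by simp only [mul_assoc]
          _ = z * ((c * w) * (t * w⁻¹)) := by rw [hcw]
          _ = z * (c * (w * t * w⁻¹)) := by simp only [mul_assoc]
      have h3 : c * t⁻¹ = z * (t⁻¹ * c) := by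
        have : t⁻¹ * (t * c) * t⁻¹ = t⁻¹ * (z * (c * t)) * t⁻¹ := by rw [h1]
        have e1 : t⁻¹ * (t * c) * t⁻¹ = c * t⁻¹ := by group
        have e2 : t⁻¹ * (z * (c * t)) * t⁻¹ = z * (t⁻¹ * c) := by
          rw [h.zc' (E.inv_mem htE)]; group
        rw [e1, e2] at this
        exact this
      calc c * (t⁻¹ * t') = (c * t⁻¹) * t' := (mul_assoc _ _ _).symm
        _ = (z * (t⁻¹ * c)) * t' := by rw [h3]
        _ = z * (t⁻¹ * (c * t')) := by simp only [mul_assoc]
        _ = z * (t⁻¹ * (z * (z * (c * t')))) := by rw [h.zz']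
        _ = z * (t⁻¹ * (z * (t' * c))) := by rw [← h2]
        _ = (t⁻¹ * t') * c := by
            rw [h.zc' (E.inv_mem htE), h.zz']; simp only [mul_assoc]
  have hm := h.double_centralizer hu htE htu hmE hmc
  -- w * t * w⁻¹ = t * m
  have ht'm : t' = t * (t⁻¹ * t') := by group
  -- squares
  have hsq : t' * t' = t * t := by
    have htt : (t * t) * w = w * (t * t) := by
      rcases h.sq t htE with h' | h'
      · rw [h', one_mul, mul_one]
      · rw [h']; exact hzw
    rw [ht']
    calc w * t * w⁻¹ * (w * t * w⁻¹) = w * (t * t) * w⁻¹ := by group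
      _ = (t * t) * w * w⁻¹ := by rw [← htt]
      _ = t * t := by group
  have htu' : t * u = z * (u * t) := h.comm_symm htu
  -- e commutes with everything in E once it commutes with C_E(u) and t
  have hall : ∀ v : G, (∀ c ∈ E, c * u = u * c → c * v = v * c) → t * v = v * t →
      v ∈ Subgroup.centralizer (E : Set G) := by
    intro v hv1 hv2
    rw [Subgroup.mem_centralizer_iff]
    intro e he
    rcases hcos e he with hc | hc
    · exact hv1 e he hc
    · have h2 := hv1 (t⁻¹ * e) (E.mul_mem (E.inv_mem htE) he) hc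
      calc e * v = t * ((t⁻¹ * e) * v) := by group
        _ = t * (v * (t⁻¹ * e)) := by rw [h2]
        _ = (t * v) * (t⁻¹ * e) := by group
        _ = (v * t) * (t⁻¹ * e) := by rw [hv2]
        _ = v * e := by group
  have hcentral : ∀ v : G, v ∈ Subgroup.centralizer (E : Set G) → v = 1 ∨ v = z := by
    intro v hv
    have hvE := hcent hv
    apply h.cent v hvE
    intro y hy
    exact (Subgroup.mem_centralizer_iff.mp hv) y hy
  rcases hm with h1 | h1 | h1 | h1
  · -- w commutes with t
    have hwt : t * w = w * t := by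
      rw [h1, mul_one] at ht'm
      have : t' * w = t * w := by rw [ht'm]
      rw [ht'] at this
      rw [← this]; group
    rcases hcentral w (hall w hwc hwt) with h' | h'
    · exact absurd h' hw1
    · exact Or.inl h'
  · -- w * u commutes with t
    right
    have hwt : w * t = t * z * w := by
      rw [h1] at ht'm
      have : t' * w = t * z * w := by rw [ht'm]
      rw [ht'] at this
      rw [← this]; group
    have hwut : t * (w * u) = (w * u) * t := by
      symm
      calc (w * u) * t = w * (u * t) := mul_assoc _ _ _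
        _ = w * (z * (t * u)) := by rw [htu]
        _ = (w * z) * (t * u) := (mul_assoc _ _ _).symm
        _ = (z * w) * (t * u) := by rw [hzw]
        _ = z * ((w * t) * u) := by simp only [mul_assoc]
        _ = z * ((t * z * w) * u) := by rw [hwt]
        _ = z * (z * (t * (w * u))) := by
            rw [mul_assoc t z w, h.zc' htE]; simp only [mul_assoc]
        _ = t * (w * u) := h.zz' _
    have hwuc : ∀ c ∈ E, c * u = u * c → c * (w * u) = (w * u) * c := by
      intro c hc hcu
      rw [← mul_assoc, hwc c hc hcu, mul_assoc, hcu, mul_assoc]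
    rcases hcentral (w * u) (hall (w * u) hwuc hwut) with h' | h'
    · left
      have hui : u⁻¹ = u := inv_eq_of_mul_eq_one_left huu
      rw [← hui]; exact eq_inv_of_mul_eq_one_left h'
    · right
      have : w = z * u⁻¹ := by rw [← h']; group
      have hui : u⁻¹ = u := inv_eq_of_mul_eq_one_left huu
      rw [this, hui, h.zc u hu]
  · exfalso
    rw [h1] at ht'm
    have : t' * t' = z * (t * t) := by
      rw [ht'm]
      calc t * u * (t * u) = t * ((u * t) * u) := by simp only [mul_assoc]
        _ = t * ((z * (t * u)) * u) := by rw [htu]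
        _ = z * ((t * t) * (u * u)) := by
            rw [mul_assoc z, h.zc' htE]; simp only [mul_assoc]
        _ = z * (t * t) := by rw [huu, mul_one]
    rw [hsq] at this
    have : (1 : G) * (t * t) = z * (t * t) := by rw [one_mul]; exact this
    exact h.z1 (mul_right_cancel this).symm
  · exfalso
    rw [h1] at ht'm
    have : t' * t' = z * (t * t) := by
      rw [ht'm]
      calc t * (u * z) * (t * (u * z)) = (t * u * (t * u)) * (z * z) := by
            simp only [mul_assoc, h.zc' hu, h.zc' htE, h.zc u hu]
        _ = t * ((u * t) * u) := by rw [h.zz, mul_one]; simp only [mul_assoc]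
        _ = t * ((z * (t * u)) * u) := by rw [htu]
        _ = z * ((t * t) * (u * u)) := by
            rw [mul_assoc z, h.zc' htE]; simp only [mul_assoc]
        _ = z * (t * t) := by rw [huu, mul_one]
    rw [hsq] at this
    have : (1 : G) * (t * t) = z * (t * t) := by rw [one_mul]; exact this
    exact h.z1 (mul_right_cancel this).symm

end ESG

end Basic

end Cfsg.Agent.Lib.Helper29
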