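import Mathlib

/-!
# Roots of an irreducible polynomial over a finite field are Frobenius conjugates

MODULE IRR for helper40's S2511.
-/

namespace Cfsg.Agent.Lib.Helper29

open Polynomial

theorem exists_pow_card_pow_eq_of_irreducible {F : Type*} [Field F] [Fintype F] {K : Type*}
    [Field K] [Algebra F K] (h : F[X]) (hirr : Irreducible h) (y y' : K) (hy : aeval y h = 0)
    (hy' : aeval y' h = 0) : ∃ j : ℕ, y' = y ^ (Fintype.card F ^ j) := by
  classical
  have : Fact (Irreducible h) := ⟨hirr⟩
  have : Module.Finite F (AdjoinRoot h) := (AdjoinRoot.powerBasis hirr.ne_zero).finite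
  have : Finite (AdjoinRoot h) := Module.finite_of_finite F
  have : Fintype (AdjoinRoot h) := Fintype.ofFinite _
  set i : AdjoinRoot h →ₐ[F] K := AdjoinRoot.liftAlgHom h (Algebra.ofId F K) y (by
    simpa [aeval_def] using hy) with hi
  set i' : AdjoinRoot h →ₐ[F] K := AdjoinRoot.liftAlgHom h (Algebra.ofId F K) y' (by
    simpa [aeval_def] using hy') with hi'
  have hiroot : i (AdjoinRoot.root h) = y := by simp [hi]
  have hi'root : i' (AdjoinRoot.root h) = y' := by simp [hi']
  set n := Fintype.card (AdjoinRoot h) with hn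
  have hn1 : 1 < n := Fintype.one_lt_card
  -- the polynomial X^n - X over K
  set P : K[X] := X ^ n - X with hP
  have hPne : P ≠ 0 := FiniteField.X_pow_card_sub_X_ne_zero K hn1
  have hPdeg : P.natDegree = n := FiniteField.X_pow_card_sub_X_natDegree_eq K hn1
  have hroot : ∀ (f : AdjoinRoot h →ₐ[F] K) (x : AdjoinRoot h), f x ∈ P.roots.toFinset := by
    intro f x
    rw [Multiset.mem_toFinset, mem_roots hPne]
    simp only [hP, IsRoot.def, eval_sub, eval_pow, eval_X]
    rw [← map_pow, FiniteField.pow_card, sub_self]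
  have hinj : Function.Injective i := i.toRingHom.injective
  have himg : (Finset.univ.image i) = P.roots.toFinset := by
    apply Finset.eq_of_subset_of_card_le
    · intro w hw
      obtain ⟨x, -, rfl⟩ := Finset.mem_image.mp hw
      exact hroot i x
    · rw [Finset.card_image_of_injective _ hinj, Finset.card_univ]
      calc P.roots.toFinset.card ≤ Multiset.card P.roots := Multiset.toFinset_card_le _
        _ ≤ P.natDegree := card_roots' P
        _ = n := hPdeg
  have hy'mem : y' ∈ Finset.univ.image i := by
    rw [himg, ← hi'root]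
    exact hroot i' _
  obtain ⟨z, -, hz⟩ := Finset.mem_image.mp hy'mem
  have hzroot : aeval z h = 0 := by
    apply hinj
    rw [← aeval_algHom_apply, hz, hy', map_zero]
  set σ : AdjoinRoot h →ₐ[F] AdjoinRoot h :=
    AdjoinRoot.liftAlgHom h (Algebra.ofId F (AdjoinRoot h)) z (by
      simpa [aeval_def] using hzroot) with hσ
  have hσroot : σ (AdjoinRoot.root h) = z := by simp [hσ]
  obtain ⟨j, hj⟩ := (FiniteField.bijective_frobeniusAlgHom_pow F (AdjoinRoot h)).2 σ
  refine ⟨j.1, ?_⟩
  have hj' : σ (AdjoinRoot.root h) = (AdjoinRoot.root h) ^ (Fintype.card F ^ j.1) := by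
    rw [← hj]
    simp only [AlgHom.coe_pow, FiniteField.coe_frobeniusAlgHom, pow_iterate]
  rw [← hz, ← hσroot, hj', map_pow, hiroot]

end Cfsg.Agent.Lib.Helper29
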