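import Mathlib
import Cfsg.Agent.Lib.Helper63.HHAb

/-!
Helper29 library: ring-theoretic lemmas for the `p = 3` case of the Hall–Higman bound
`l_p ≤ d_p` (S3789).  Everything happens in a ring `E` with `3 = 0` and its unit group.
-/

set_option autoImplicit false

namespace Cfsg.Agent.Lib.Helper29.HH3

open scoped commutatorElement

variable {E : Type*} [Ring E]

theorem two_eq_neg_one (h3 : (3 : E) = 0) : (2 : E) = -1 := by
  have h : (3 : E) = 2 + 1 := by norm_num
  rw [h] at h3
  exact eq_neg_of_add_eq_zero_left h3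

theorem three_mul_eq_zero (h3 : (3 : E) = 0) (x : E) : x + x + x = 0 := by
  have : x + x + x = 3 * x := by noncomm_ring
  rw [this, h3, zero_mul]

theorem geom3_of_quad (h3 : (3 : E) = 0) (a : E) (ha : (a - 1) * (a - 1) = 0) :
    1 + a + a * a = 0 := by
  have : 1 + a + a * a = (a - 1) * (a - 1) + 3 * a := by noncomm_ring
  rw [this, ha, h3, zero_mul, add_zero]

theorem geom3_sum_of_quad (h3 : (3 : E) = 0) (a : E) (ha : (a - 1) * (a - 1) = 0) :
    ∑ i ∈ Finset.range (3 ^ 1), a ^ i = 0 := by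
  have h := geom3_of_quad h3 a ha
  have : ∑ i ∈ Finset.range (3 ^ 1), a ^ i = 1 + a + a * a := by
    simp [Finset.sum_range_succ, pow_succ]
  rw [this, h]

theorem cube_of_quad (h3 : (3 : E) = 0) (a : E) (ha : (a - 1) * (a - 1) = 0) :
    a * a * a = 1 := by
  have h := geom3_of_quad h3 a ha
  have : a * a * a = (a - 1) * (1 + a + a * a) + 1 := by noncomm_ring
  rw [this, h, mul_zero, zero_add]

theorem unit_cube_of_quad (h3 : (3 : E) = 0) (a : Eˣ)
    (ha : ((a : E) - 1) * ((a : E) - 1) = 0) : a ^ 3 = 1 := by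
  apply Units.ext
  have := cube_of_quad h3 (a : E) ha
  simp only [Units.val_pow_eq_pow_val, Units.val_one]
  rw [pow_succ, pow_two]
  exact this

/-- `(1 + n)^k = 1 + k n` when `n^2 = 0`. -/
theorem pow_of_quad (a : E) (ha : (a - 1) * (a - 1) = 0) (k : ℕ) :
    a ^ k = 1 + (k : E) * (a - 1) := by
  induction k with
  | zero => simp
  | succ k ih =>
    rw [pow_succ, ih]
    have : (1 + (k : E) * (a - 1)) * a
        = 1 + ((k : E) + 1) * (a - 1) + (k : E) * ((a - 1) * (a - 1)) := by noncomm_ring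
    rw [this, ha, mul_zero, add_zero]
    push_cast
    rfl

theorem unit_pow_of_quad (p : ℕ) (hp : ((p : ℕ) : E) = 0) (a : Eˣ)
    (ha : ((a : E) - 1) * ((a : E) - 1) = 0) : a ^ p = 1 := by
  apply Units.ext
  rw [Units.val_pow_eq_pow_val, pow_of_quad _ ha, hp, zero_mul, add_zero, Units.val_one]

/-- Abelian Hall–Higman for a quadratic element in characteristic `3`. -/
theorem commute_of_quad (h3 : (3 : E) = 0) (g : Eˣ)
    (hg : ((g : E) - 1) * ((g : E) - 1) = 0)
    (T : Subgroup Eˣ) [Finite T] (hT : IsPGroup 2 T) (hab : ∀ a ∈ T, ∀ b ∈ T, a * b = b * a)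
    (hnorm : ∀ a ∈ T, g * a * g⁻¹ ∈ T) : ∀ a ∈ T, g * a = a * g := by
  have hp : Fact (Nat.Prime 3) := ⟨Nat.prime_three⟩
  have h3' : ((3 : ℕ) : E) = 0 := by exact_mod_cast h3
  have hcop : (Nat.card T).Coprime 3 := by
    obtain ⟨k, hk⟩ := IsPGroup.iff_card.1 hT
    rw [hk]
    exact Nat.Coprime.pow_left _ (by norm_num)
  have h := Cfsg.Agent.Lib.Helper63.commute_pow_of_geom_sum_eq_zero (p := 3) h3' g 1 le_rfl T hab
    hcop hnorm (geom3_sum_of_quad h3 _ hg)
  intro a ha
  have := h a ha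
  simpa using this


section normtrick

variable (y w w' w'' : E)

/-- the idempotent-like element attached to `w` in the four-group `{1,w,w',w''}` -/
theorem ff_self (h3 : (3 : E) = 0)
    (hww : w * w = 1) (hw'w' : w' * w' = 1) (hw''w'' : w'' * w'' = 1)
    (h01 : w * w' = w'') (h10 : w' * w = w'') (h02 : w * w'' = w') (h20 : w'' * w = w')
    (h12 : w' * w'' = w) (h21 : w'' * w' = w) :
    (1 + w - w' - w'') * (1 + w - w' - w'') = 1 + w - w' - w'' := by
  have h : (1 + w - w' - w'') * (1 + w - w' - w'')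
      = (1 + w - w' - w'') + ((1 + w - w' - w'') + (1 + w - w' - w'') + (1 + w - w' - w'')) := by
    simp only [mul_add, mul_sub, add_mul, sub_mul, mul_one, one_mul, hww, hw'w', hw''w'', h01, h10,
      h02, h20, h12, h21]
    abel
  rw [h, three_mul_eq_zero h3, add_zero]

theorem ff_orth
    (hww : w * w = 1) (hw'w' : w' * w' = 1) (hw''w'' : w'' * w'' = 1)
    (h01 : w * w' = w'') (h10 : w' * w = w'') (h02 : w * w'' = w') (h20 : w'' * w = w')
    (h12 : w' * w'' = w) (h21 : w'' * w' = w) :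
    (1 + w - w' - w'') * (1 + w' - w'' - w) = 0 ∧ (1 + w - w' - w'') * (1 + w'' - w - w') = 0 := by
  constructor
  · simp only [mul_add, mul_sub, add_mul, sub_mul, mul_one, one_mul, hww, hw'w', hw''w'', h01, h10,
      h02, h20, h12, h21]
    abel
  · simp only [mul_add, mul_sub, add_mul, sub_mul, mul_one, one_mul, hww, hw'w', hw''w'', h01, h10,
      h02, h20, h12, h21]
    abel

theorem norm_trick_aux (h3 : (3 : E) = 0) (n : E)
    (hww : w * w = 1) (hw'w' : w' * w' = 1) (hw''w'' : w'' * w'' = 1)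
    (h01 : w * w' = w'') (h10 : w' * w = w'') (h02 : w * w'' = w') (h20 : w'' * w = w')
    (h12 : w' * w'' = w) (h21 : w'' * w' = w)
    (hy0 : y * w = w' * y) (hy1 : y * w' = w'' * y) (hy2 : y * w'' = w * y)
    (hn0 : n * w = w * n) (hn1 : n * w' = w' * n) (hn2 : n * w'' = w'' * n)
    (hN : n * (1 + y + y * y) = 0) : n * (1 + w - w' - w'') = 0 := by
  set f : E := 1 + w - w' - w'' with hf
  set f' : E := 1 + w' - w'' - w with hf'
  set f'' : E := 1 + w'' - w - w' with hf''
  have hff : f * f = f := ff_self w w' w'' h3 hww hw'w' hw''w'' h01 h10 h02 h20 h12 h21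
  obtain ⟨hff', hff''⟩ := ff_orth w w' w'' hww hw'w' hw''w'' h01 h10 h02 h20 h12 h21
  have e1 : y * f = f' * y := by
    rw [hf, hf']
    simp only [mul_add, mul_sub, add_mul, sub_mul, mul_one, one_mul, hy0, hy1, hy2]
  have e1' : y * f' = f'' * y := by
    rw [hf', hf'']
    simp only [mul_add, mul_sub, add_mul, sub_mul, mul_one, one_mul, hy0, hy1, hy2]
  have e2 : y * y * f = f'' * (y * y) := by
    rw [mul_assoc, e1, ← mul_assoc, e1', mul_assoc]
  have hnf : n * f = f * n := by
    rw [hf]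
    simp only [mul_add, mul_sub, add_mul, sub_mul, mul_one, one_mul, hn0, hn1, hn2]
  have key : f * (1 + y + y * y) * f = f := by
    calc f * (1 + y + y * y) * f = f * f + f * (y * f) + f * (y * y * f) := by noncomm_ring
      _ = f * f + f * f' * y + f * f'' * (y * y) := by rw [e1, e2]; noncomm_ring
      _ = f := by rw [hff, hff', hff'', zero_mul, zero_mul, add_zero, add_zero]
  calc n * f = n * (f * (1 + y + y * y) * f) := by rw [key]
    _ = f * (n * (1 + y + y * y)) * f := by
        rw [← mul_assoc, ← mul_assoc, hnf]; noncomm_ring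
    _ = 0 := by rw [hN, mul_zero, zero_mul]

/-- **Norm trick.**  If `y` permutes cyclically the three involutions `w, w', w''` of a four-group
commuting with `n`, and `n (1 + y + y²) = 0`, then `n (w + w' + w'') = 0` (characteristic `3`). -/
theorem norm_trick (h3 : (3 : E) = 0) (n : E)
    (hww : w * w = 1) (hw'w' : w' * w' = 1) (hw''w'' : w'' * w'' = 1)
    (h01 : w * w' = w'') (h10 : w' * w = w'') (h02 : w * w'' = w') (h20 : w'' * w = w')
    (h12 : w' * w'' = w) (h21 : w'' * w' = w)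
    (hy0 : y * w = w' * y) (hy1 : y * w' = w'' * y) (hy2 : y * w'' = w * y)
    (hn0 : n * w = w * n) (hn1 : n * w' = w' * n) (hn2 : n * w'' = w'' * n)
    (hN : n * (1 + y + y * y) = 0) : n * (w + w' + w'') = 0 := by
  have a0 := norm_trick_aux y w w' w'' h3 n hww hw'w' hw''w'' h01 h10 h02 h20 h12 h21 hy0 hy1 hy2
    hn0 hn1 hn2 hN
  have a1 := norm_trick_aux y w' w'' w h3 n hw'w' hw''w'' hww h12 h21 h10 h01 h20 h02 hy1 hy2 hy0
    hn1 hn2 hn0 hN
  have a2 := norm_trick_aux y w'' w w' h3 n hw''w'' hww hw'w' h20 h02 h21 h12 h01 h10 hy2 hy0 hy1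
    hn2 hn0 hn1 hN
  have hsum : (1 + w - w' - w'') + (1 + w' - w'' - w) + (1 + w'' - w - w')
      = ((1 : E) + 1 + 1) - (w + w' + w'') := by abel
  have h111 : ((1 : E) + 1 + 1) = 0 := three_mul_eq_zero h3 1
  have : n * ((1 + w - w' - w'') + (1 + w' - w'' - w) + (1 + w'' - w - w')) = 0 := by
    rw [mul_add, mul_add, a0, a1, a2]; simp
  rw [hsum, h111, zero_sub, mul_neg, neg_eq_zero] at this
  exact this

end normtrick

section phi

/-- The units commuting with `f`. -/
def commSub (f : E) : Subgroup Eˣ where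
  carrier := {s | (s : E) * f = f * s}
  one_mem' := by simp
  mul_mem' := by
    intro a b ha hb
    simp only [Set.mem_ofPred_eq, Units.val_mul] at *
    rw [mul_assoc, hb, ← mul_assoc, ha, mul_assoc]
  inv_mem' := by
    intro a ha
    simp only [Set.mem_ofPred_eq] at *
    calc ((a⁻¹ : Eˣ) : E) * f = (a⁻¹ : Eˣ) * (f * a) * (a⁻¹ : Eˣ) := by simp [mul_assoc]
      _ = (a⁻¹ : Eˣ) * (a * f) * (a⁻¹ : Eˣ) := by rw [ha]
      _ = f * (a⁻¹ : Eˣ) := by simp [← mul_assoc]

theorem mem_commSub {f : E} {s : Eˣ} : s ∈ commSub f ↔ (s : E) * f = f * s := Iff.rfl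

theorem phi_mul_aux (f x y : E) (hf : f * f = f) (hy : y * f = f * y) :
    (1 + (x - 1) * f) * (1 + (y - 1) * f) = 1 + (x * y - 1) * f := by
  have h1 : f * (y - 1) = (y - 1) * f := by rw [mul_sub, sub_mul, hy]; simp
  calc (1 + (x - 1) * f) * (1 + (y - 1) * f)
      = 1 + (y - 1) * f + (x - 1) * f + (x - 1) * (f * (y - 1)) * f := by noncomm_ring
    _ = 1 + (y - 1) * f + (x - 1) * f + (x - 1) * (y - 1) * (f * f) := by rw [h1]; noncomm_ring
    _ = 1 + (x * y - 1) * f := by rw [hf]; noncomm_ring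

/-- Projection onto the `f`-part: `s ↦ 1 + (s - 1) f`, a homomorphism on units commuting with the
idempotent `f`. -/
def phi (f : E) (hf : f * f = f) : ↥(commSub f) →* Eˣ where
  toFun s := ⟨1 + (((s : Eˣ) : E) - 1) * f, 1 + ((((s : Eˣ)⁻¹ : Eˣ) : E) - 1) * f, by
      rw [phi_mul_aux f _ _ hf ((commSub f).inv_mem s.2)]; simp, by
      rw [phi_mul_aux f _ _ hf s.2]; simp⟩
  map_one' := by
    apply Units.ext
    simp
  map_mul' := by
    intro a b
    apply Units.ext
    simp only [Subgroup.coe_mul, Units.val_mul]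
    rw [phi_mul_aux f _ _ hf b.2]

theorem phi_val (f : E) (hf : f * f = f) (s : ↥(commSub f)) :
    ((phi f hf s : Eˣ) : E) = 1 + (((s : Eˣ) : E) - 1) * f := rfl

end phi

end Cfsg.Agent.Lib.Helper29.HH3
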