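import Mathlib

/-!
Helper29 library: general group-theoretic lemmas used for S3789 (`l_p ≤ d_p`).
-/

set_option autoImplicit false

namespace Cfsg.Agent.Lib.Helper29.HH3

open scoped commutatorElement Pointwise

section general

variable {G : Type*} [Group G]

/-- An element normalizing `H₁` and `H₂` normalizes `⁅H₁, H₂⁆`. -/
theorem conj_mem_commutator (H₁ H₂ : Subgroup G) (b : G)
    (h1 : ∀ x ∈ H₁, b * x * b⁻¹ ∈ H₁) (h2 : ∀ x ∈ H₂, b * x * b⁻¹ ∈ H₂) :
    ∀ x ∈ ⁅H₁, H₂⁆, b * x * b⁻¹ ∈ ⁅H₁, H₂⁆ := by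
  have h : ⁅H₁, H₂⁆ ≤ (⁅H₁, H₂⁆).comap (MulAut.conj b).toMonoidHom := by
    rw [Subgroup.commutator_le]
    intro g₁ hg₁ g₂ hg₂
    rw [Subgroup.mem_comap]
    show MulAut.conj b ⁅g₁, g₂⁆ ∈ _
    rw [map_commutatorElement]
    apply Subgroup.commutator_mem_commutator
    · simpa [MulAut.conj_apply] using h1 g₁ hg₁
    · simpa [MulAut.conj_apply] using h2 g₂ hg₂
  intro x hx
  have := h hx
  simpa [MulAut.conj_apply] using this

/-- In a finite `p`-group `B`, a subgroup `A ≤ B` normalized by `B` and not contained in `C`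
contains an element outside `C` all of whose commutators with `B` lie in `C`. -/
theorem exists_special (p : ℕ) [Fact p.Prime] (B A C : Subgroup G) [Finite B]
    (hB : IsPGroup p B) (hAB : A ≤ B) (hAn : ∀ b ∈ B, ∀ a ∈ A, b * a * b⁻¹ ∈ A)
    (hAC : ¬ A ≤ C) :
    ∃ a ∈ A, a ∉ C ∧ ∀ b ∈ B, ⁅a, b⁆ ∈ C := by
  classical
  have hnil : Group.IsNilpotent ↥B := hB.isNilpotent
  obtain ⟨n, hn⟩ := (Subgroup.isNilpotent_iff_lowerCentralSeries (S := B)).1 hnil
  have hex : ∃ k, A ⊓ B.lowerCentralSeries k ≤ C := by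
    refine ⟨n, ?_⟩
    rw [hn, inf_bot_eq]
    exact bot_le
  have h0 : ¬ (A ⊓ B.lowerCentralSeries 0 ≤ C) := by
    rw [Subgroup.lowerCentralSeries_zero, inf_eq_left.2 hAB]
    exact hAC
  have hk0 : Nat.find hex ≠ 0 := by
    intro h
    have := Nat.find_spec hex
    rw [h] at this
    exact h0 this
  obtain ⟨k, hk⟩ := Nat.exists_eq_succ_of_ne_zero hk0
  have hPk : ¬ (A ⊓ B.lowerCentralSeries k ≤ C) :=
    Nat.find_min hex (by omega)
  have hPk1 : A ⊓ B.lowerCentralSeries (k + 1) ≤ C := by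
    have := Nat.find_spec hex
    rwa [hk] at this
  obtain ⟨a, ha, haC⟩ := SetLike.not_le_iff_exists.1 hPk
  obtain ⟨haA, haL⟩ := ha
  refine ⟨a, haA, haC, ?_⟩
  intro b hb
  apply hPk1
  refine ⟨?_, ?_⟩
  · rw [commutatorElement_def]
    have h1 : b * a⁻¹ * b⁻¹ ∈ A := hAn b hb _ (A.inv_mem haA)
    have h2 := A.mul_mem haA h1
    have e : a * b * a⁻¹ * b⁻¹ = a * (b * a⁻¹ * b⁻¹) := by group
    rw [e]
    exact h2
  · rw [Subgroup.lowerCentralSeries_succ]
    exact Subgroup.commutator_mem_commutator haL hb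

/-- A nontrivial finite `2`-group has a proper subgroup containing all squares. -/
theorem exists_proper_sq (R : Subgroup G) [Finite R] (hR : IsPGroup 2 R) (hne : R ≠ ⊥) :
    ∃ K : Subgroup G, K ≤ R ∧ K ≠ R ∧ ∀ r ∈ R, r * r ∈ K := by
  have : Fact (Nat.Prime 2) := ⟨Nat.prime_two⟩
  obtain ⟨k, hk⟩ := IsPGroup.iff_card.1 hR
  have hk1 : 1 ≤ k := by
    rcases Nat.eq_zero_or_pos k with h | h
    · exfalso
      rw [h, pow_zero] at hk
      exact hne (Subgroup.card_eq_one.1 hk)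
    · exact h
  have hdvd : 2 ^ (k - 1) ∣ Nat.card ↥R := by
    rw [hk]
    exact pow_dvd_pow 2 (Nat.sub_le k 1)
  obtain ⟨K', hK'⟩ := Sylow.exists_subgroup_card_pow_prime 2 hdvd
  have hidx : K'.index = 2 := by
    have h1 := K'.index_mul_card
    rw [hK', hk] at h1
    have h2 : (2 : ℕ) ^ k = 2 * 2 ^ (k - 1) := by
      rw [← pow_succ']
      congr 1
      omega
    rw [h2] at h1
    have hpos : 0 < 2 ^ (k - 1) := Nat.pos_of_ne_zero (by positivity)
    exact Nat.eq_of_mul_eq_mul_right hpos h1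
  refine ⟨K'.map R.subtype, Subgroup.map_subtype_le K', ?_, ?_⟩
  · intro h
    have h1 : Nat.card ↥(K'.map R.subtype) = 2 ^ (k - 1) := by
      rw [Subgroup.card_map_of_injective R.subtype_injective, hK']
    rw [h, hk] at h1
    have := Nat.pow_right_injective (le_refl 2) h1
    omega
  · intro r hr
    refine ⟨⟨r, hr⟩ * ⟨r, hr⟩, Subgroup.mul_self_mem_of_index_two hidx _, rfl⟩

/-- Normalizer condition for a proper subgroup of a finite `p`-subgroup. -/
theorem exists_normalizing (p : ℕ) [Fact p.Prime] (R C : Subgroup G) [Finite R]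
    (hR : IsPGroup p R) (hCR : C ≤ R) (hne : C ≠ R) :
    ∃ x ∈ R, x ∉ C ∧ ∀ c ∈ C, x * c * x⁻¹ ∈ C ∧ x⁻¹ * c * x ∈ C := by
  have hnil : Group.IsNilpotent ↥R := hR.isNilpotent
  have hNC := Group.normalizerCondition_of_isNilpotent (G := ↥R)
  have hlt : C.subgroupOf R < ⊤ := by
    rw [lt_top_iff_ne_top]
    intro h
    rw [Subgroup.subgroupOf_eq_top] at h
    exact hne (le_antisymm hCR h)
  have h1 := hNC _ hlt
  obtain ⟨x, hxN, hxC⟩ := SetLike.exists_of_lt h1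
  refine ⟨x, x.2, fun h => hxC (Subgroup.mem_subgroupOf.2 h), ?_⟩
  intro c hc
  have hcH : (⟨c, hCR hc⟩ : ↥R) ∈ C.subgroupOf R := Subgroup.mem_subgroupOf.2 hc
  constructor
  · have := (Subgroup.mem_normalizer_iff.1 hxN _).1 hcH
    exact Subgroup.mem_subgroupOf.1 this
  · have hxN' := Subgroup.inv_mem _ hxN
    have := (Subgroup.mem_normalizer_iff.1 hxN' _).1 hcH
    have h2 := Subgroup.mem_subgroupOf.1 this
    simpa using h2

end general

section sylow

variable {H : Type*} [Group H]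

/-- A `p`-subgroup normalizing a normal `p'`-subgroup `K` normalizes some Sylow `q`-subgroup of `K`. -/
theorem exists_invariant_sylow_subgroup [Finite H] (K : Subgroup H) [K.Normal] (p q : ℕ)
    [Fact p.Prime] [Fact q.Prime] (hK : (Nat.card K).Coprime p) (S : Subgroup H)
    (hS : IsPGroup p S) :
    ∃ Q : Sylow q ↥K, ∀ s ∈ S, ∀ k : ↥K, k ∈ Q → (MulAut.conjNormal s : MulAut ↥K) k ∈ Q := by
  have hp : p.Prime := Fact.out
  set T : Subgroup (MulAut ↥K) := S.map (MulAut.conjNormal : H →* MulAut ↥K) with hT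
  have hTp : IsPGroup p T := hS.map _
  have hnd : ¬ p ∣ Nat.card (Sylow q ↥K) := by
    intro hdvd
    obtain ⟨Q0⟩ : Nonempty (Sylow q ↥K) := inferInstance
    have h1 : Nat.card (Sylow q ↥K) ∣ Nat.card ↥K :=
      (Sylow.card_dvd_index Q0).trans (Subgroup.index_dvd_card _)
    have h2 : p ∣ Nat.gcd (Nat.card ↥K) p := Nat.dvd_gcd (hdvd.trans h1) dvd_rfl
    rw [hK] at h2
    exact hp.one_lt.ne' (Nat.dvd_one.1 h2)
  obtain ⟨Q, hQ⟩ := hTp.nonempty_fixed_point_of_prime_not_dvd_card (Sylow q ↥K) hnd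
  refine ⟨Q, ?_⟩
  intro s hs k hk
  set α : MulAut ↥K := MulAut.conjNormal s with hα
  have hαT : α ∈ T := ⟨s, hs, rfl⟩
  have h1 : (⟨α, hαT⟩ : T) • Q = Q := hQ _
  have h2 : (⟨α, hαT⟩ : T) • (k : ↥K) ∈ (⟨α, hαT⟩ : T) • (Q : Subgroup ↥K) :=
    Subgroup.smul_mem_pointwise_smul _ _ _ hk
  have h3 : (((⟨α, hαT⟩ : T) • Q : Sylow q ↥K) : Subgroup ↥K) =
      (⟨α, hαT⟩ : T) • (Q : Subgroup ↥K) :=
    Sylow.pointwise_smul_def
  rw [h1] at h3
  rw [← h3] at h2
  exact h2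

end sylow

end Cfsg.Agent.Lib.Helper29.HH3
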