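import Mathlib
import Cfsg.Agent.Lib.Helper29.HH3A
import Cfsg.Agent.Lib.Helper29.HH3B
import Cfsg.Agent.Lib.Helper24.Coprime

/-!
Helper29 library: the core lemma for the `p = 3` case of `l_p ≤ d_p` (S3789), in ring form.

`E` is a ring with `3 = 0`; `R` is a finite `2`-group of units normalized by a finite `3`-group `B` of
units such that, with `A = ⁅B, B⁆`,
* `(a - 1)(a' - 1) = 0` for `a, a' ∈ A`,
* `(a - 1)(b - 1)(b' - 1) = 0` for `a ∈ A`, `b, b' ∈ B`.
Then `A` centralizes `R`.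
-/

set_option autoImplicit false

namespace Cfsg.Agent.Lib.Helper29.HH3

open scoped commutatorElement

variable {E : Type*} [Ring E]

/-- The configuration of the core lemma. -/
structure Cfg (R B : Subgroup Eˣ) : Prop where
  finR : Finite R
  finB : Finite B
  two : IsPGroup 2 R
  three : IsPGroup 3 B
  norm : ∀ b ∈ B, ∀ r ∈ R, b * r * b⁻¹ ∈ R
  c1 : ∀ a ∈ ⁅B, B⁆, ∀ a' ∈ ⁅B, B⁆, ((a : E) - 1) * ((a' : E) - 1) = 0
  c2 : ∀ a ∈ ⁅B, B⁆, ∀ b ∈ B, ∀ b' ∈ B,
    ((a : E) - 1) * ((b : E) - 1) * ((b' : E) - 1) = 0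

/-- The conclusion of the core lemma. -/
def Good (R B : Subgroup Eˣ) : Prop := ∀ r ∈ R, ∀ a ∈ ⁅B, B⁆, a * r = r * a

theorem comm_le_self (B : Subgroup Eˣ) : ⁅B, B⁆ ≤ B := by
  rw [Subgroup.commutator_le]
  intro g₁ h₁ g₂ h₂
  rw [commutatorElement_def]
  exact B.mul_mem (B.mul_mem (B.mul_mem h₁ h₂) (B.inv_mem h₁)) (B.inv_mem h₂)

theorem comm_norm (B : Subgroup Eˣ) : ∀ b ∈ B, ∀ a ∈ ⁅B, B⁆, b * a * b⁻¹ ∈ ⁅B, B⁆ := by
  intro b hb
  apply conj_mem_commutator
  · intro x hx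
    exact B.mul_mem (B.mul_mem hb hx) (B.inv_mem hb)
  · intro x hx
    exact B.mul_mem (B.mul_mem hb hx) (B.inv_mem hb)

theorem Cfg.quad {R B : Subgroup Eˣ} (hc : Cfg R B) :
    ∀ a ∈ ⁅B, B⁆, ((a : E) - 1) * ((a : E) - 1) = 0 := fun a ha => hc.c1 a ha a ha

theorem Cfg.mono {R B R₁ : Subgroup Eˣ} (hc : Cfg R B) (h : R₁ ≤ R)
    (hn : ∀ b ∈ B, ∀ s ∈ R₁, b * s * b⁻¹ ∈ R₁) : Cfg R₁ B where
  finR := by
    have := hc.finR
    exact Finite.of_injective (Subgroup.inclusion h) (Subgroup.inclusion_injective h)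
  finB := hc.finB
  two := hc.two.to_le h
  three := hc.three
  norm := hn
  c1 := hc.c1
  c2 := hc.c2

/-- Passing to the `(1+z)`-part for a central involution `z`. -/
theorem ih_involution (h3 : (3 : E) = 0) {R B : Subgroup Eˣ} (hc : Cfg R B)
    (ih : ∀ R' B' : Subgroup Eˣ, Cfg R' B' → Nat.card R' < Nat.card R → Good R' B')
    (z : Eˣ) (hzR : z ∈ R) (hz1 : z ≠ 1) (hzz : z * z = 1)
    (hzRc : ∀ r ∈ R, z * r = r * z) (hzB : ∀ b ∈ B, z * b = b * z) :
    ∀ r ∈ R, ∀ a ∈ ⁅B, B⁆, ((r : E) * a - a * r) * (1 + (z : E)) = 0 := by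
  classical
  have hfinR := hc.finR
  have hfinB := hc.finB
  have hzzE : (z : E) * z = 1 := by rw [← Units.val_mul, hzz, Units.val_one]
  set f : E := -(1 + (z : E)) with hf
  have hff : f * f = f := by
    have h1 : f * f = (1 + (z : E)) + (1 + (z : E)) := by
      rw [hf, neg_mul_neg]
      have : (1 + (z : E)) * (1 + (z : E)) = 1 + z + (z + z * z) := by noncomm_ring
      rw [this, hzzE]
      abel
    have h2 := three_mul_eq_zero h3 (1 + (z : E))
    rw [h1, hf]
    exact eq_neg_of_add_eq_zero_left h2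
  have hS_of : ∀ s : Eˣ, z * s = s * z → s ∈ commSub f := by
    intro s hs
    rw [mem_commSub, hf]
    have hsE : (z : E) * s = s * z := by rw [← Units.val_mul, hs, Units.val_mul]
    rw [mul_neg, neg_mul, mul_add, add_mul, mul_one, one_mul, hsE]
  have hRS : R ≤ commSub f := fun r hr => hS_of r (hzRc r hr)
  have hBS : B ≤ commSub f := fun b hb => hS_of b (hzB b hb)
  set S : Subgroup Eˣ := commSub f with hS
  set ψ : ↥S →* Eˣ := phi f hff with hψ
  have hψval : ∀ s : ↥S, ((ψ s : Eˣ) : E) = 1 + (((s : Eˣ) : E) - 1) * f := fun s => rfl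
  have hSf : ∀ s : ↥S, f * (((s : Eˣ) : E) - 1) = (((s : Eˣ) : E) - 1) * f := by
    intro s
    have := mem_commSub.1 s.2
    rw [mul_sub, sub_mul, this, mul_one, one_mul]
  set R' : Subgroup Eˣ := (R.subgroupOf S).map ψ with hR'
  set B' : Subgroup Eˣ := (B.subgroupOf S).map ψ with hB'
  have hAS : (⁅B.subgroupOf S, B.subgroupOf S⁆).map S.subtype = ⁅B, B⁆ := by
    rw [Subgroup.map_commutator, Subgroup.map_subgroupOf_eq_of_le hBS]
  have hA' : ⁅B', B'⁆ = (⁅B.subgroupOf S, B.subgroupOf S⁆).map ψ := by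
    rw [hB', Subgroup.map_commutator]
  have memA' : ∀ a' ∈ ⁅B', B'⁆, ∃ x : ↥S, (x : Eˣ) ∈ ⁅B, B⁆ ∧ ψ x = a' := by
    intro a' ha'
    rw [hA'] at ha'
    obtain ⟨x, hx, rfl⟩ := ha'
    refine ⟨x, ?_, rfl⟩
    rw [← hAS]
    exact ⟨x, hx, rfl⟩
  have memB' : ∀ b' ∈ B', ∃ x : ↥S, (x : Eˣ) ∈ B ∧ ψ x = b' := by
    rintro b' ⟨x, hx, rfl⟩
    exact ⟨x, Subgroup.mem_subgroupOf.1 hx, rfl⟩
  have memR' : ∀ r' ∈ R', ∃ x : ↥S, (x : Eˣ) ∈ R ∧ ψ x = r' := by
    rintro r' ⟨x, hx, rfl⟩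
    exact ⟨x, Subgroup.mem_subgroupOf.1 hx, rfl⟩
  have hfinRS : Finite ↥(R.subgroupOf S) :=
    Finite.of_equiv _ (Subgroup.subgroupOfEquivOfLe hRS).symm.toEquiv
  have hfinBS : Finite ↥(B.subgroupOf S) :=
    Finite.of_equiv _ (Subgroup.subgroupOfEquivOfLe hBS).symm.toEquiv
  have hcfg : Cfg R' B' := by
    refine ⟨?_, ?_, ?_, ?_, ?_, ?_, ?_⟩
    · exact Finite.of_surjective _ (MonoidHom.subgroupMap_surjective ψ (R.subgroupOf S))
    · exact Finite.of_surjective _ (MonoidHom.subgroupMap_surjective ψ (B.subgroupOf S))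
    · exact (hc.two.comap_of_injective S.subtype S.subtype_injective).map ψ
    · exact (hc.three.comap_of_injective S.subtype S.subtype_injective).map ψ
    · intro b' hb' r' hr'
      obtain ⟨x, hx, rfl⟩ := memB' b' hb'
      obtain ⟨y, hy, rfl⟩ := memR' r' hr'
      refine ⟨x * y * x⁻¹, ?_, ?_⟩
      · show x * y * x⁻¹ ∈ R.subgroupOf S
        rw [Subgroup.mem_subgroupOf]
        simpa using hc.norm _ hx _ hy
      · simp
    · intro a' ha' a'' ha''
      obtain ⟨x, hx, rfl⟩ := memA' a' ha'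
      obtain ⟨x', hx', rfl⟩ := memA' a'' ha''
      rw [hψval, hψval, add_sub_cancel_left, add_sub_cancel_left]
      calc (((x : Eˣ) : E) - 1) * f * ((((x' : Eˣ) : E) - 1) * f)
          = (((x : Eˣ) : E) - 1) * (f * (((x' : Eˣ) : E) - 1)) * f := by noncomm_ring
        _ = (((x : Eˣ) : E) - 1) * (((x' : Eˣ) : E) - 1) * (f * f) := by
            rw [hSf x']; noncomm_ring
        _ = 0 := by rw [hc.c1 _ hx _ hx', zero_mul]
    · intro a' ha' b' hb' b'' hb''
      obtain ⟨x, hx, rfl⟩ := memA' a' ha'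
      obtain ⟨y, hy, rfl⟩ := memB' b' hb'
      obtain ⟨y', hy', rfl⟩ := memB' b'' hb''
      rw [hψval, hψval, hψval, add_sub_cancel_left, add_sub_cancel_left, add_sub_cancel_left]
      have e1 : (((x : Eˣ) : E) - 1) * f * ((((y : Eˣ) : E) - 1) * f) * ((((y' : Eˣ) : E) - 1) * f)
          = (((x : Eˣ) : E) - 1) * (f * (((y : Eˣ) : E) - 1)) * (f * (((y' : Eˣ) : E) - 1)) * f := by
        noncomm_ring
      have e2 : (((x : Eˣ) : E) - 1) * ((((y : Eˣ) : E) - 1) * f) * ((((y' : Eˣ) : E) - 1) * f) * f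
          = (((x : Eˣ) : E) - 1) * (((y : Eˣ) : E) - 1) * (f * (((y' : Eˣ) : E) - 1)) * f * f := by
        noncomm_ring
      have e3 : (((x : Eˣ) : E) - 1) * (((y : Eˣ) : E) - 1) * ((((y' : Eˣ) : E) - 1) * f) * f * f
          = (((x : Eˣ) : E) - 1) * (((y : Eˣ) : E) - 1) * (((y' : Eˣ) : E) - 1) * (f * f * f) := by
        noncomm_ring
      rw [e1, hSf y, hSf y', e2, hSf y', e3, hc.c2 _ hx _ hy _ hy', zero_mul]
  -- the cardinality drops
  have hzker : ψ ⟨z, hRS hzR⟩ = 1 := by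
    apply Units.ext
    rw [hψval, Units.val_one]
    show 1 + ((z : E) - 1) * f = 1
    have : ((z : E) - 1) * f = -((z : E) * z - 1) := by rw [hf]; noncomm_ring
    rw [this, hzzE, sub_self, neg_zero, add_zero]
  have hcard : Nat.card R' < Nat.card R := by
    let g : ↥R → ↥R' := fun r => ⟨ψ ⟨r.1, hRS r.2⟩, ⟨⟨r.1, hRS r.2⟩, Subgroup.mem_subgroupOf.2 r.2, rfl⟩⟩
    have hsurj : Function.Surjective g := by
      rintro ⟨r', hr'⟩
      obtain ⟨x, hx, hxr⟩ := memR' r' hr'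
      refine ⟨⟨x, hx⟩, ?_⟩
      apply Subtype.ext
      exact hxr
    have hninj : ¬ Function.Injective g := by
      intro hinj
      apply hz1
      have h1 : g ⟨z, hzR⟩ = g ⟨1, R.one_mem⟩ := by
        apply Subtype.ext
        show ψ ⟨z, hRS hzR⟩ = ψ ⟨1, hRS R.one_mem⟩
        rw [hzker]
        exact (map_one ψ).symm
      have := hinj h1
      exact congrArg Subtype.val this
    have : Finite ↥R' := hcfg.finR
    let _ : Fintype ↥R := Fintype.ofFinite _
    let _ : Fintype ↥R' := Fintype.ofFinite _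
    rw [Nat.card_eq_fintype_card, Nat.card_eq_fintype_card]
    exact Fintype.card_lt_of_surjective_not_injective g hsurj hninj
  have hgood := ih R' B' hcfg hcard
  intro r hr a ha
  have haB : a ∈ B := comm_le_self B ha
  have h1 : ψ ⟨r, hRS hr⟩ ∈ R' := ⟨_, Subgroup.mem_subgroupOf.2 hr, rfl⟩
  have h2 : ψ ⟨a, hBS haB⟩ ∈ ⁅B', B'⁆ := by
    rw [hA']
    refine ⟨_, ?_, rfl⟩
    have ha' := ha
    rw [← hAS] at ha'
    obtain ⟨x, hx, hxa⟩ := ha'
    have : x = ⟨a, hBS haB⟩ := Subtype.ext hxa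
    rw [← this]
    exact hx
  have h3' := hgood _ h1 _ h2
  rw [← map_mul, ← map_mul] at h3'
  have h4 := congrArg (fun u : Eˣ => (u : E)) h3'
  simp only [hψval] at h4
  have h5 : ((a : E) * r - 1) * f = ((r : E) * a - 1) * f := by
    have := add_left_cancel h4
    simpa using this
  have h6 : ((r : E) * a - a * r) * f = 0 := by
    have : ((r : E) * a - a * r) * f = ((r : E) * a - 1) * f - ((a : E) * r - 1) * f := by
      noncomm_ring
    rw [this, h5, sub_self]
  rw [hf, mul_neg, neg_eq_zero] at h6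
  exact h6


/-- A minimal counterexample to the core lemma. -/
structure MinCE (R B : Subgroup Eˣ) : Prop where
  cfg : Cfg R B
  ih : ∀ R' B' : Subgroup Eˣ, Cfg R' B' → Nat.card R' < Nat.card R → Good R' B'
  bad : ¬ Good R B

/-- `C_R(A)`, `A = ⁅B, B⁆`. -/
def cen (R B : Subgroup Eˣ) : Subgroup Eˣ :=
  R ⊓ Subgroup.centralizer ((⁅B, B⁆ : Subgroup Eˣ) : Set Eˣ)

theorem mem_cen {R B : Subgroup Eˣ} {c : Eˣ} :
    c ∈ cen R B ↔ c ∈ R ∧ ∀ a ∈ ⁅B, B⁆, a * c = c * a := by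
  unfold cen
  rw [Subgroup.mem_inf, Subgroup.mem_centralizer_iff]
  rfl

theorem cen_le (R B : Subgroup Eˣ) : cen R B ≤ R := inf_le_left

section groupaux

variable {G : Type*} [Group G]

theorem v4_A (x y : G) (hxy : x * y = y * x) (hx : x * x = 1) (hy : y * y = 1) :
    (x * y) * (x * y) = 1 := by
  calc (x * y) * (x * y) = x * (y * x) * y := by group
    _ = x * (x * y) * y := by rw [hxy]
    _ = (x * x) * (y * y) := by group
    _ = 1 := by rw [hx, hy, one_mul]

theorem v4_B (x y t : G) (hxt : x * t = t * x) (hy : y * y = 1) :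
    (x * y) * (y * t) = t * x := by
  calc (x * y) * (y * t) = x * (y * y) * t := by group
    _ = t * x := by rw [hy, mul_one, hxt]

theorem v4_B' (x y t : G) (hxy : x * y = y * x) (hyt : y * t = t * y) (hy : y * y = 1) :
    (y * t) * (x * y) = t * x := by
  calc (y * t) * (x * y) = (y * t) * (y * x) := by rw [hxy]
    _ = (t * y) * (y * x) := by rw [hyt]
    _ = t * (y * y) * x := by group
    _ = t * x := by rw [hy, mul_one]

theorem conj_sq_one (b x : G) (hx : x * x = 1) : (b * x * b⁻¹) * (b * x * b⁻¹) = 1 := by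
  calc (b * x * b⁻¹) * (b * x * b⁻¹) = b * (x * x) * b⁻¹ := by group
    _ = 1 := by rw [hx]; group

theorem anti_symm {z x t : G} (hzz : z * z = 1) (h : x * t = z * (t * x)) :
    t * x = z * (x * t) := by
  rw [h, ← mul_assoc, hzz, one_mul]

theorem comm_mul_of_anti_anti {z x y t : G} (hzz : z * z = 1) (hzx : z * x = x * z)
    (h1 : x * t = z * (t * x)) (h2 : y * t = z * (t * y)) : (x * y) * t = t * (x * y) := by
  calc (x * y) * t = x * (y * t) := by group
    _ = x * (z * (t * y)) := by rw [h2]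
    _ = (x * z) * (t * y) := by group
    _ = (z * x) * (t * y) := by rw [hzx]
    _ = z * (x * t) * y := by group
    _ = z * (z * (t * x)) * y := by rw [h1]
    _ = (z * z) * (t * (x * y)) := by group
    _ = t * (x * y) := by rw [hzz, one_mul]

theorem anti_mul_of_anti_comm {z x y t : G}
    (h1 : x * t = z * (t * x)) (h2 : y * t = t * y) : (x * y) * t = z * (t * (x * y)) := by
  calc (x * y) * t = x * (y * t) := by group
    _ = x * (t * y) := by rw [h2]
    _ = (x * t) * y := by group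
    _ = z * (t * x) * y := by rw [h1]
    _ = z * (t * (x * y)) := by group

theorem anti_mul_of_comm_anti {z x y t : G} (hzx : z * x = x * z)
    (h1 : x * t = t * x) (h2 : y * t = z * (t * y)) : (x * y) * t = z * (t * (x * y)) := by
  calc (x * y) * t = x * (y * t) := by group
    _ = x * (z * (t * y)) := by rw [h2]
    _ = (x * z) * (t * y) := by group
    _ = (z * x) * (t * y) := by rw [hzx]
    _ = z * ((x * t) * y) := by group
    _ = z * ((t * x) * y) := by rw [h1]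
    _ = z * (t * (x * y)) := by group

theorem comm_mul_of_comm_comm {x y t : G}
    (h1 : x * t = t * x) (h2 : y * t = t * y) : (x * y) * t = t * (x * y) := by
  calc (x * y) * t = x * (y * t) := by group
    _ = x * (t * y) := by rw [h2]
    _ = (x * t) * y := by group
    _ = (t * x) * y := by rw [h1]
    _ = t * (x * y) := by group

theorem false_of_eq_mul {z g : G} (hz1 : z ≠ 1) (h : g = z * g) : False := by
  apply hz1
  have : 1 * g = z * g := by rw [one_mul]; exact h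
  exact (mul_right_cancel this).symm

end groupaux

section MinCE

variable {R B : Subgroup Eˣ}

theorem Cfg.coprime_orders (hc : Cfg R B) (h3 : (3 : E) = 0) {a c : Eˣ} (ha : a ∈ ⁅B, B⁆)
    (hcR : c ∈ R) : (orderOf a).Coprime (orderOf c) := by
  have h1 : orderOf a ∣ 3 := orderOf_dvd_of_pow_eq_one (unit_cube_of_quad h3 a (hc.quad a ha))
  obtain ⟨k, hk⟩ := hc.two ⟨c, hcR⟩
  have hk' : c ^ 2 ^ k = 1 := by
    have := congrArg Subtype.val hk
    simpa using this
  have h2 : orderOf c ∣ 2 ^ k := orderOf_dvd_of_pow_eq_one hk'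
  have h32 : Nat.Coprime 3 (2 ^ k) := Nat.Coprime.pow_right _ (by norm_num)
  exact Nat.Coprime.coprime_dvd_left h1 (Nat.Coprime.coprime_dvd_right h2 h32)

theorem MinCE.le_cen (hm : MinCE R B) (R₁ : Subgroup Eˣ) (h : R₁ ≤ R)
    (hn : ∀ b ∈ B, ∀ s ∈ R₁, b * s * b⁻¹ ∈ R₁) (hne : R₁ ≠ R) : R₁ ≤ cen R B := by
  have := hm.cfg.finR
  have hcard : Nat.card R₁ < Nat.card R := by
    by_contra hlt
    push Not at hlt
    exact hne (Subgroup.eq_of_le_of_card_ge h hlt)
  have hg := hm.ih R₁ B (hm.cfg.mono h hn) hcard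
  intro s hs
  exact mem_cen.2 ⟨h hs, fun a ha => hg s hs a ha⟩

theorem MinCE.cen_conj (hm : MinCE R B) :
    ∀ b ∈ B, ∀ c ∈ cen R B, b * c * b⁻¹ ∈ cen R B := by
  intro b hb c hc
  obtain ⟨hcR, hcA⟩ := mem_cen.1 hc
  refine mem_cen.2 ⟨hm.cfg.norm b hb c hcR, ?_⟩
  intro a ha
  have h1 : b⁻¹ * a * b ∈ ⁅B, B⁆ := by
    simpa using comm_norm B b⁻¹ (B.inv_mem hb) a ha
  have h2 := hcA _ h1
  calc a * (b * c * b⁻¹) = b * ((b⁻¹ * a * b) * c) * b⁻¹ := by group
    _ = b * (c * (b⁻¹ * a * b)) * b⁻¹ := by rw [h2]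
    _ = b * c * b⁻¹ * a := by group

theorem MinCE.cen_conj_iff (hm : MinCE R B) {b : Eˣ} (hb : b ∈ B) (c : Eˣ) :
    b * c * b⁻¹ ∈ cen R B ↔ c ∈ cen R B := by
  constructor
  · intro h
    have := hm.cen_conj b⁻¹ (B.inv_mem hb) _ h
    simpa [mul_assoc] using this
  · exact hm.cen_conj b hb c

theorem MinCE.cen_ne (hm : MinCE R B) : cen R B ≠ R := by
  intro h
  apply hm.bad
  intro r hr a ha
  rw [← h] at hr
  exact (mem_cen.1 hr).2 a ha

theorem MinCE.nonab (h3 : (3 : E) = 0) (hm : MinCE R B) : ∃ r ∈ R, ∃ s ∈ R, r * s ≠ s * r := by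
  by_contra hcon
  push Not at hcon
  apply hm.bad
  intro r hr a ha
  have := hm.cfg.finR
  exact commute_of_quad h3 a (hm.cfg.quad a ha) R hm.cfg.two hcon
    (fun x hx => hm.cfg.norm a (comm_le_self B ha) x hx) r hr

theorem MinCE.comm_le (hm : MinCE R B) : ⁅R, ⁅B, B⁆⁆ ≤ R := by
  rw [Subgroup.commutator_le]
  intro r hr a ha
  rw [commutatorElement_def]
  have h1 : a * r⁻¹ * a⁻¹ ∈ R := hm.cfg.norm a (comm_le_self B ha) _ (R.inv_mem hr)
  have e : r * a * r⁻¹ * a⁻¹ = r * (a * r⁻¹ * a⁻¹) := by group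
  rw [e]
  exact R.mul_mem hr h1

theorem MinCE.comm_eq (h3 : (3 : E) = 0) (hm : MinCE R B) : ⁅R, ⁅B, B⁆⁆ = R := by
  by_contra hne
  have hinv : ∀ b ∈ B, ∀ s ∈ ⁅R, ⁅B, B⁆⁆, b * s * b⁻¹ ∈ ⁅R, ⁅B, B⁆⁆ := by
    intro b hb
    exact conj_mem_commutator _ _ b (hm.cfg.norm b hb) (comm_norm B b hb)
  have hcen := hm.le_cen _ hm.comm_le hinv hne
  apply hm.bad
  intro r hr a ha
  have hc : r⁻¹ * (a * r * a⁻¹) ∈ ⁅R, ⁅B, B⁆⁆ := by
    have : r⁻¹ * (a * r * a⁻¹) = ⁅r⁻¹, a⁆ := by rw [commutatorElement_def]; group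
    rw [this]
    exact Subgroup.commutator_mem_commutator (R.inv_mem hr) ha
  obtain ⟨hcR, hcA⟩ := mem_cen.1 (hcen hc)
  exact Cfsg.Agent.Lib.Helper24.commute_of_comm_commute_of_coprime a r (hcA a ha)
    (hm.cfg.coprime_orders h3 ha hcR)

theorem MinCE.cen_normal (hm : MinCE R B) :
    ∀ r ∈ R, ∀ c ∈ cen R B, r * c * r⁻¹ ∈ cen R B := by
  have : Fact (Nat.Prime 2) := ⟨Nat.prime_two⟩
  have := hm.cfg.finR
  obtain ⟨x, hxR, hxC, hxn⟩ := exists_normalizing 2 R (cen R B) hm.cfg.two (cen_le R B) hm.cen_ne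
  set N : Subgroup Eˣ := R ⊓ Subgroup.normalizer (cen R B : Set Eˣ) with hN
  have hxN : x ∈ N := by
    refine Subgroup.mem_inf.2 ⟨hxR, ?_⟩
    rw [Subgroup.mem_normalizer_iff]
    intro h
    constructor
    · intro hh
      exact (hxn h hh).1
    · intro hh
      have := (hxn _ hh).2
      simpa [mul_assoc] using this
  have hNinv : ∀ b ∈ B, ∀ s ∈ N, b * s * b⁻¹ ∈ N := by
    intro b hb s hs
    have hs := Subgroup.mem_inf.1 hs
    refine Subgroup.mem_inf.2 ⟨hm.cfg.norm b hb s hs.1, ?_⟩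
    have hsn := Subgroup.mem_normalizer_iff.1 hs.2
    rw [Subgroup.mem_normalizer_iff]
    intro h
    have e : b * s * b⁻¹ * h * (b * s * b⁻¹)⁻¹ = b * (s * (b⁻¹ * h * b) * s⁻¹) * b⁻¹ := by group
    rw [e, hm.cen_conj_iff hb, ← hsn]
    have := hm.cen_conj_iff (B.inv_mem hb) h
    simpa using this.symm
  have hNR : N = R := by
    by_contra hne
    have := hm.le_cen N inf_le_left hNinv hne
    exact hxC (this hxN)
  intro r hr c hc
  have hrN : r ∈ N := by rw [hNR]; exact hr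
  exact (Subgroup.mem_normalizer_iff.1 (Subgroup.mem_inf.1 hrN).2 c).1 hc

theorem MinCE.cen_central (h3 : (3 : E) = 0) (hm : MinCE R B) :
    ∀ c ∈ cen R B, ∀ r ∈ R, c * r = r * c := by
  intro c hc
  have hle : ⁅R, ⁅B, B⁆⁆ ≤ Subgroup.centralizer ({c} : Set Eˣ) := by
    rw [Subgroup.commutator_le]
    intro r hr a ha
    rw [Subgroup.mem_centralizer_iff]
    intro h hh
    rw [Set.mem_singleton_iff] at hh
    subst hh
    have hc' : r⁻¹ * h * r ∈ cen R B := by
      have := hm.cen_normal r⁻¹ (R.inv_mem hr) h hc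
      simpa using this
    have e0 : a * h = h * a := (mem_cen.1 hc).2 a ha
    have e1 : a⁻¹ * h = h * a⁻¹ := by
      calc a⁻¹ * h = a⁻¹ * (h * a) * a⁻¹ := by group
        _ = a⁻¹ * (a * h) * a⁻¹ := by rw [e0]
        _ = h * a⁻¹ := by group
    have e2 : a * (r⁻¹ * h * r) = (r⁻¹ * h * r) * a := (mem_cen.1 hc').2 a ha
    symm
    calc ⁅r, a⁆ * h = r * a * r⁻¹ * (a⁻¹ * h) := by rw [commutatorElement_def]; group
      _ = r * a * r⁻¹ * (h * a⁻¹) := by rw [e1]
      _ = r * (a * (r⁻¹ * h * r)) * r⁻¹ * a⁻¹ := by group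
      _ = r * ((r⁻¹ * h * r) * a) * r⁻¹ * a⁻¹ := by rw [e2]
      _ = h * ⁅r, a⁆ := by rw [commutatorElement_def]; group
  intro r hr
  have hr' : r ∈ ⁅R, ⁅B, B⁆⁆ := by rw [hm.comm_eq h3]; exact hr
  have := Subgroup.mem_centralizer_iff.1 (hle hr') c rfl
  exact this

theorem MinCE.sq_mem (h3 : (3 : E) = 0) (hm : MinCE R B) : ∀ r ∈ R, r * r ∈ cen R B := by
  have := hm.cfg.finR
  have hRne : R ≠ ⊥ := by
    intro h
    obtain ⟨r, hr, s, hs, hrs⟩ := hm.nonab h3
    rw [h, Subgroup.mem_bot] at hr hs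
    rw [hr, hs] at hrs
    exact hrs rfl
  obtain ⟨K, hKR, hKne, hKsq⟩ := exists_proper_sq R hm.cfg.two hRne
  set R₂ : Subgroup Eˣ := Subgroup.closure {x | ∃ r ∈ R, x = r * r} with hR₂
  have hR₂K : R₂ ≤ K := by
    rw [hR₂, Subgroup.closure_le]
    rintro x ⟨r, hr, rfl⟩
    exact hKsq r hr
  have hR₂ne : R₂ ≠ R := by
    intro h
    apply hKne
    apply le_antisymm hKR
    rw [← h]
    exact hR₂K
  have hinv : ∀ b ∈ B, ∀ s ∈ R₂, b * s * b⁻¹ ∈ R₂ := by
    intro b hb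
    have h : R₂ ≤ R₂.comap (MulAut.conj b).toMonoidHom := by
      rw [hR₂, Subgroup.closure_le]
      rintro x ⟨r, hr, rfl⟩
      show MulAut.conj b (r * r) ∈ Subgroup.closure _
      apply Subgroup.subset_closure
      refine ⟨b * r * b⁻¹, hm.cfg.norm b hb r hr, ?_⟩
      rw [MulAut.conj_apply]
      group
    intro s hs
    have := h hs
    simpa [MulAut.conj_apply] using this
  have hle := hm.le_cen R₂ (hR₂K.trans hKR) hinv hR₂ne
  intro r hr
  apply hle
  exact Subgroup.subset_closure ⟨r, hr, rfl⟩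

theorem MinCE.comm_mem (h3 : (3 : E) = 0) (hm : MinCE R B) :
    ∀ r ∈ R, ∀ s ∈ R, ⁅r, s⁆ ∈ cen R B ∧ ⁅r, s⁆ * ⁅r, s⁆ = 1 := by
  intro r hr s hs
  have hmem : ⁅r, s⁆ ∈ cen R B := by
    have e : ⁅r, s⁆ = ((r * s) * (r * s)) * ((s⁻¹ * r⁻¹ * s) * (s⁻¹ * r⁻¹ * s)) * (s⁻¹ * s⁻¹) := by
      rw [commutatorElement_def]; group
    rw [e]
    refine (cen R B).mul_mem ((cen R B).mul_mem ?_ ?_) ?_
    · exact hm.sq_mem h3 _ (R.mul_mem hr hs)
    · exact hm.sq_mem h3 _ (R.mul_mem (R.mul_mem (R.inv_mem hs) (R.inv_mem hr)) hs)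
    · exact hm.sq_mem h3 _ (R.inv_mem hs)
  refine ⟨hmem, ?_⟩
  set c : Eˣ := ⁅r, s⁆ with hc
  have h1 : r * s = c * s * r := by rw [hc, commutatorElement_def]; group
  have hcr : c * r = r * c := hm.cen_central h3 c hmem r hr
  have hrr : (r * r) * s = s * (r * r) := hm.cen_central h3 _ (hm.sq_mem h3 r hr) s hs
  have h2 : r * r * s = c * c * (r * r * s) := by
    calc r * r * s = r * (r * s) := by group
      _ = r * (c * s * r) := by rw [h1]
      _ = (r * c) * s * r := by group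
      _ = (c * r) * s * r := by rw [hcr]
      _ = c * (r * s) * r := by group
      _ = c * (c * s * r) * r := by rw [h1]
      _ = c * c * (s * (r * r)) := by group
      _ = c * c * (r * r * s) := by rw [hrr]
  have h3' : 1 * (r * r * s) = c * c * (r * r * s) := by rw [one_mul]; exact h2
  exact (mul_right_cancel h3').symm


theorem MinCE.cen_comm (h3 : (3 : E) = 0) (hm : MinCE R B) :
    ∀ c ∈ cen R B, ∀ c' ∈ cen R B, c * c' = c' * c :=
  fun c hc c' hc' => hm.cen_central h3 c hc c' (cen_le R B hc')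

/-- the norm trick: `B` centralizes the involutions of `C_R(A)` -/
theorem MinCE.B_cent_aux (h3 : (3 : E) = 0) (hm : MinCE R B) :
    ∀ k : ℕ, ∀ y ∈ B, y ^ 3 ^ k = 1 → ∀ c ∈ cen R B, c * c = 1 → y * c * y⁻¹ = c := by
  intro k
  induction k with
  | zero =>
    intro y hy hy1 c hc hcc
    rw [pow_zero, pow_one] at hy1
    subst hy1
    simp
  | succ k ih =>
    intro y hy hy1 z hz hzz
    by_contra hne
    have hy3 : (y ^ 3) ^ 3 ^ k = 1 := by rw [← pow_mul, ← pow_succ']; exact hy1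
    have ih3 := ih (y ^ 3) (B.pow_mem hy 3) hy3
    obtain ⟨z', hz'⟩ : ∃ z', z' = y * z * y⁻¹ := ⟨_, rfl⟩
    obtain ⟨z'', hz''⟩ : ∃ z'', z'' = y * z' * y⁻¹ := ⟨_, rfl⟩
    have hz'C : z' ∈ cen R B := by rw [hz']; exact hm.cen_conj y hy z hz
    have hz''C : z'' ∈ cen R B := by rw [hz'']; exact hm.cen_conj y hy z' hz'C
    have hz'z' : z' * z' = 1 := by rw [hz']; exact conj_sq_one y z hzz
    have hz''z'' : z'' * z'' = 1 := by rw [hz'']; exact conj_sq_one y z' hz'z'
    have hback : y * z'' * y⁻¹ = z := by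
      have h := ih3 z hz hzz
      have e3 : y ^ 3 = y * y * y := by rw [pow_succ, pow_two]
      rw [e3] at h
      calc y * z'' * y⁻¹ = y * y * y * z * (y * y * y)⁻¹ := by rw [hz'', hz']; group
        _ = z := h
    have c01 := hm.cen_comm h3 z hz z' hz'C
    have c02 := hm.cen_comm h3 z hz z'' hz''C
    have c12 := hm.cen_comm h3 z' hz'C z'' hz''C
    obtain ⟨w, hw⟩ : ∃ w, w = z * z' := ⟨_, rfl⟩
    obtain ⟨w', hw'⟩ : ∃ w', w' = z' * z'' := ⟨_, rfl⟩
    obtain ⟨w'', hw''⟩ : ∃ w'', w'' = z'' * z := ⟨_, rfl⟩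
    have hwC : w ∈ cen R B := by rw [hw]; exact (cen R B).mul_mem hz hz'C
    have hw'C : w' ∈ cen R B := by rw [hw']; exact (cen R B).mul_mem hz'C hz''C
    have hw''C : w'' ∈ cen R B := by rw [hw'']; exact (cen R B).mul_mem hz''C hz
    have hww : w * w = 1 := by rw [hw]; exact v4_A z z' c01 hzz hz'z'
    have hw'w' : w' * w' = 1 := by rw [hw']; exact v4_A z' z'' c12 hz'z' hz''z''
    have hw''w'' : w'' * w'' = 1 := by rw [hw'']; exact v4_A z'' z c02.symm hz''z'' hzz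
    have h01 : w * w' = w'' := by rw [hw, hw', hw'']; exact v4_B z z' z'' c02 hz'z'
    have h10 : w' * w = w'' := by rw [hw, hw', hw'']; exact v4_B' z z' z'' c01 c12 hz'z'
    have h02 : w * w'' = w' := by rw [hw, hw', hw'']; exact v4_B' z'' z z' c02.symm c01 hzz
    have h20 : w'' * w = w' := by rw [hw, hw', hw'']; exact v4_B z'' z z' c12.symm hzz
    have h12 : w' * w'' = w := by rw [hw, hw', hw'']; exact v4_B z' z'' z c01.symm hz''z''
    have h21 : w'' * w' = w := by rw [hw, hw', hw'']; exact v4_B' z' z'' z c12 c02.symm hz''z''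
    have hy0 : y * w = w' * y := by
      rw [hw, hw']
      calc y * (z * z') = (y * z * y⁻¹) * (y * z' * y⁻¹) * y := by group
        _ = z' * z'' * y := by rw [← hz', ← hz'']
    have hy1' : y * w' = w'' * y := by
      rw [hw', hw'']
      calc y * (z' * z'') = (y * z' * y⁻¹) * (y * z'' * y⁻¹) * y := by group
        _ = z'' * z * y := by rw [← hz'', hback]
    have hy2 : y * w'' = w * y := by
      rw [hw'', hw]
      calc y * (z'' * z) = (y * z'' * y⁻¹) * (y * z * y⁻¹) * y := by group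
        _ = z * z' * y := by rw [hback, ← hz']
    -- cast to `E`
    have cast : ∀ {u v : Eˣ}, u = v → (u : E) = (v : E) := fun h => congrArg _ h
    have hwwE : (w : E) * w = 1 := by simpa using cast hww
    have hw'w'E : (w' : E) * w' = 1 := by simpa using cast hw'w'
    have hw''w''E : (w'' : E) * w'' = 1 := by simpa using cast hw''w''
    have h01E : (w : E) * w' = w'' := by simpa using cast h01
    have h10E : (w' : E) * w = w'' := by simpa using cast h10
    have h02E : (w : E) * w'' = w' := by simpa using cast h02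
    have h20E : (w'' : E) * w = w' := by simpa using cast h20
    have h12E : (w' : E) * w'' = w := by simpa using cast h12
    have h21E : (w'' : E) * w' = w := by simpa using cast h21
    have hy0E : (y : E) * w = w' * y := by simpa using cast hy0
    have hy1E : (y : E) * w' = w'' * y := by simpa using cast hy1'
    have hy2E : (y : E) * w'' = w * y := by simpa using cast hy2
    set s : E := (w : E) + w' + w'' with hs
    -- every `a ∈ A` fixes `s`
    have hAs : ∀ a ∈ ⁅B, B⁆, (a : E) * s = s := by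
      intro a ha
      have hcomm : ∀ u ∈ cen R B, ((a : E) - 1) * (u : E) = (u : E) * ((a : E) - 1) := by
        intro u hu
        have := cast ((mem_cen.1 hu).2 a ha)
        simp only [Units.val_mul] at this
        rw [sub_mul, mul_sub, this, one_mul, mul_one]
      have hN : ((a : E) - 1) * (1 + (y : E) + (y : E) * y) = 0 := by
        have h := hm.cfg.c2 a ha y hy y hy
        have e : ((a : E) - 1) * (1 + (y : E) + (y : E) * y)
            = ((a : E) - 1) * ((y : E) - 1) * ((y : E) - 1) + 3 * (((a : E) - 1) * y) := by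
          noncomm_ring
        rw [e, h, h3, zero_mul, add_zero]
      have := norm_trick (y : E) (w : E) w' w'' h3 ((a : E) - 1) hwwE hw'w'E hw''w''E h01E h10E h02E
        h20E h12E h21E hy0E hy1E hy2E (hcomm w hwC) (hcomm w' hw'C) (hcomm w'' hw''C) hN
      rw [sub_mul, one_mul, sub_eq_zero] at this
      exact this
    -- elements of `R` commute with `s`
    have hRs : ∀ r ∈ R, (r : E) * s = s * r := by
      intro r hr
      have e0 := cast (hm.cen_central h3 w hwC r hr)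
      have e1 := cast (hm.cen_central h3 w' hw'C r hr)
      have e2 := cast (hm.cen_central h3 w'' hw''C r hr)
      simp only [Units.val_mul] at e0 e1 e2
      rw [hs, mul_add, mul_add, add_mul, add_mul, e0, e1, e2]
    -- the stabilizer of `s`
    have hT : ⁅R, ⁅B, B⁆⁆ ≤ MulAction.stabilizer Eˣ s := by
      rw [Subgroup.commutator_le]
      intro r hr a ha
      have ha' : a ∈ MulAction.stabilizer Eˣ s := by
        rw [MulAction.mem_stabilizer_iff, Units.smul_def, smul_eq_mul]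
        exact hAs a ha
      have hra : r * a * r⁻¹ ∈ MulAction.stabilizer Eˣ s := by
        rw [MulAction.mem_stabilizer_iff, Units.smul_def, smul_eq_mul]
        have hrinv : ((r⁻¹ : Eˣ) : E) * s = s * ((r⁻¹ : Eˣ) : E) := by
          have := hRs r⁻¹ (R.inv_mem hr)
          exact this
        simp only [Units.val_mul]
        rw [mul_assoc, hrinv, ← mul_assoc, mul_assoc (r : E), hAs a ha, hRs r hr, mul_assoc,
          Units.mul_inv, mul_one]
      have e : ⁅r, a⁆ = (r * a * r⁻¹) * a⁻¹ := by rw [commutatorElement_def]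
      rw [e]
      exact Subgroup.mul_mem _ hra (Subgroup.inv_mem _ ha')
    have hwT : w ∈ MulAction.stabilizer Eˣ s := by
      apply hT
      rw [hm.comm_eq h3]
      exact cen_le R B hwC
    rw [MulAction.mem_stabilizer_iff, Units.smul_def, smul_eq_mul, hs, mul_add, mul_add, hwwE, h01E,
      h02E] at hwT
    have hw1E : (w : E) = 1 := by
      have e : (1 : E) + w'' + w' = 1 + (w' + w'') := by abel
      have e' : (w : E) + w' + w'' = w + (w' + w'') := by abel
      rw [e, e'] at hwT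
      exact (add_right_cancel hwT).symm
    have hw1 : w = 1 := Units.ext hw1E
    apply hne
    rw [← hz']
    -- `z * z' = 1` and `z * z = 1`
    have h1 : z * z' = z * z := by rw [← hw, hw1, hzz]
    exact mul_left_cancel h1

theorem MinCE.B_cent (h3 : (3 : E) = 0) (hm : MinCE R B) :
    ∀ y ∈ B, ∀ c ∈ cen R B, c * c = 1 → y * c * y⁻¹ = c := by
  intro y hy
  obtain ⟨k, hk⟩ := hm.cfg.three ⟨y, hy⟩
  have hk' : y ^ 3 ^ k = 1 := by
    have := congrArg Subtype.val hk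
    simpa using this
  exact hm.B_cent_aux h3 k y hy hk'

/-- `C_R(A)` has at most one involution -/
theorem MinCE.unique_inv (h3 : (3 : E) = 0) (hm : MinCE R B) :
    ∀ c ∈ cen R B, ∀ c' ∈ cen R B, c * c = 1 → c' * c' = 1 → c ≠ 1 → c' ≠ 1 → c = c' := by
  intro c hc c' hc' hcc hc'c' hc1 hc'1
  by_contra hne
  have hcc'C : c * c' ∈ cen R B := (cen R B).mul_mem hc hc'
  have hcomm := hm.cen_comm h3 c hc c' hc'
  have hcc'sq : (c * c') * (c * c') = 1 := v4_A c c' hcomm hcc hc'c'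
  have hcc'1 : c * c' ≠ 1 := by
    intro h
    apply hne
    have h1 : c * c' = c * c := by rw [h, hcc]
    exact (mul_left_cancel h1).symm
  have hB : ∀ u ∈ cen R B, u * u = 1 → ∀ b ∈ B, u * b = b * u := by
    intro u hu huu b hb
    have := hm.B_cent h3 b hb u hu huu
    calc u * b = (b * u * b⁻¹) * b := by rw [this]
      _ = b * u := by group
  have key : ∀ u ∈ cen R B, u * u = 1 → u ≠ 1 → ∀ r ∈ R, ∀ a ∈ ⁅B, B⁆,
      ((r : E) * a - a * r) * (u : E) = -((r : E) * a - a * r) := by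
    intro u hu huu hu1 r hr a ha
    have := ih_involution h3 hm.cfg hm.ih u (cen_le R B hu) hu1 huu
      (fun r hr => hm.cen_central h3 u hu r hr) (hB u hu huu) r hr a ha
    rw [mul_add, mul_one] at this
    exact eq_neg_of_add_eq_zero_right this
  apply hm.bad
  intro r hr a ha
  have k1 := key c hc hcc hc1 r hr a ha
  have k2 := key c' hc' hc'c' hc'1 r hr a ha
  have k3 := key (c * c') hcc'C hcc'sq hcc'1 r hr a ha
  rw [Units.val_mul, ← mul_assoc, k1, neg_mul, k2, neg_neg] at k3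
  -- `X = -X`
  have hX : ((r : E) * a - a * r) = 0 := by
    have h2 : ((r : E) * a - a * r) + ((r : E) * a - a * r) = 0 := by
      nth_rewrite 2 [k3]
      exact add_neg_cancel _
    have h3' := three_mul_eq_zero h3 ((r : E) * a - a * r)
    rw [h2, zero_add] at h3'
    exact h3'
  have h4 : (r : E) * a = a * r := sub_eq_zero.1 hX
  apply Units.ext
  rw [Units.val_mul, Units.val_mul]
  exact h4.symm


/-- data for the final step -/
structure FinalData (R B : Subgroup Eˣ) (z a : Eˣ) : Prop where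
  hzC : z ∈ cen R B
  hzz : z * z = 1
  hz1 : z ≠ 1
  hdich : ∀ x ∈ R, ∀ y ∈ R, x * y = y * x ∨ x * y = z * (y * x)
  haA : a ∈ ⁅B, B⁆
  hact : ∀ b ∈ B, ∀ r ∈ R, a * (b * r * b⁻¹) * a⁻¹ = b * (a * r * a⁻¹) * b⁻¹
  hCRa : ∀ r ∈ R, a * r = r * a → r ∈ cen R B

theorem MinCE.exists_finalData (h3 : (3 : E) = 0) (hm : MinCE R B) :
    ∃ z a : Eˣ, FinalData R B z a := by
  have hfB := hm.cfg.finB
  have : Fact (Nat.Prime 3) := ⟨Nat.prime_three⟩
  obtain ⟨r0, hr0, s0, hs0, hrs0⟩ := hm.nonab h3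
  obtain ⟨z, hz⟩ : ∃ z, z = ⁅r0, s0⁆ := ⟨_, rfl⟩
  obtain ⟨hzC', hzz'⟩ := hm.comm_mem h3 r0 hr0 s0 hs0
  have hzC : z ∈ cen R B := by rw [hz]; exact hzC'
  have hzz : z * z = 1 := by rw [hz]; exact hzz'
  have hz1 : z ≠ 1 := by
    rw [hz]
    intro h
    exact hrs0 (commutatorElement_eq_one_iff_mul_comm.1 h)
  have hdich : ∀ x ∈ R, ∀ y ∈ R, x * y = y * x ∨ x * y = z * (y * x) := by
    intro x hx y hy
    obtain ⟨hcC, hcc⟩ := hm.comm_mem h3 x hx y hy
    by_cases h1 : ⁅x, y⁆ = 1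
    · left
      exact commutatorElement_eq_one_iff_mul_comm.1 h1
    · right
      have := hm.unique_inv h3 _ hcC z hzC hcc hzz h1 hz1
      calc x * y = ⁅x, y⁆ * (y * x) := by rw [commutatorElement_def]; group
        _ = z * (y * x) := by rw [this]
  -- the special element
  have hACR : ¬ ⁅B, B⁆ ≤ Subgroup.centralizer (R : Set Eˣ) := by
    intro h
    apply hm.bad
    intro r hr a ha
    have := Subgroup.mem_centralizer_iff.1 (h ha) r hr
    exact this.symm
  obtain ⟨a, haA, haCR, hab⟩ := exists_special 3 B ⁅B, B⁆ (Subgroup.centralizer (R : Set Eˣ))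
    hm.cfg.three (comm_le_self B) (comm_norm B) hACR
  have haB : a ∈ B := comm_le_self B haA
  have hact : ∀ b ∈ B, ∀ r ∈ R, a * (b * r * b⁻¹) * a⁻¹ = b * (a * r * a⁻¹) * b⁻¹ := by
    intro b hb r hr
    have ht : b * (a * r * a⁻¹) * b⁻¹ ∈ R := hm.cfg.norm b hb _ (hm.cfg.norm a haB r hr)
    have hcomm := Subgroup.mem_centralizer_iff.1 (hab b hb) _ ht
    calc a * (b * r * b⁻¹) * a⁻¹ = ⁅a, b⁆ * (b * (a * r * a⁻¹) * b⁻¹) * ⁅a, b⁆⁻¹ := by
          rw [commutatorElement_def]; group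
      _ = (b * (a * r * a⁻¹) * b⁻¹) * ⁅a, b⁆ * ⁅a, b⁆⁻¹ := by rw [← hcomm]
      _ = b * (a * r * a⁻¹) * b⁻¹ := by group
  have hCRa : ∀ r ∈ R, a * r = r * a → r ∈ cen R B := by
    set CRa : Subgroup Eˣ := R ⊓ Subgroup.centralizer ({a} : Set Eˣ) with hCRadef
    have hmemCRa : ∀ r, r ∈ CRa ↔ r ∈ R ∧ a * r = r * a := by
      intro r
      rw [hCRadef, Subgroup.mem_inf, Subgroup.mem_centralizer_iff]
      constructor
      · rintro ⟨h1, h2⟩
        exact ⟨h1, h2 a rfl⟩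
      · rintro ⟨h1, h2⟩
        refine ⟨h1, ?_⟩
        intro h hh
        rw [Set.mem_singleton_iff] at hh
        subst hh
        exact h2
    have hinv : ∀ b ∈ B, ∀ s ∈ CRa, b * s * b⁻¹ ∈ CRa := by
      intro b hb s hs
      obtain ⟨hsR, hsa⟩ := (hmemCRa s).1 hs
      refine (hmemCRa _).2 ⟨hm.cfg.norm b hb s hsR, ?_⟩
      have h1 := hact b hb s hsR
      have h2 : a * s * a⁻¹ = s := by rw [hsa]; group
      rw [h2] at h1
      calc a * (b * s * b⁻¹) = a * (b * s * b⁻¹) * a⁻¹ * a := by group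
        _ = b * s * b⁻¹ * a := by rw [h1]
    have hne : CRa ≠ R := by
      intro h
      apply haCR
      rw [Subgroup.mem_centralizer_iff]
      intro r hr
      have : r ∈ CRa := by rw [h]; exact hr
      exact ((hmemCRa r).1 this).2.symm
    have hle := hm.le_cen CRa inf_le_left hinv hne
    intro r hr hra
    exact hle ((hmemCRa r).2 ⟨hr, hra⟩)
  exact ⟨z, a, ⟨hzC, hzz, hz1, hdich, haA, hact, hCRa⟩⟩


theorem MinCE.false_of_finalData (h3 : (3 : E) = 0) (hm : MinCE R B) {z a : Eˣ}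
    (hd : FinalData R B z a) : False := by
  have hfR := hm.cfg.finR
  obtain ⟨hzC, hzz, hz1, hdich, haA, hact, hCRa⟩ := hd
  have haB : a ∈ B := comm_le_self B haA
  have hzc : ∀ r ∈ R, z * r = r * z := hm.cen_central h3 z hzC
  have hza : a * z = z * a := (mem_cen.1 hzC).2 a haA
  have hquad := hm.cfg.quad a haA
  have ha3 : a * a * a = 1 := by
    have := unit_cube_of_quad h3 a hquad
    rwa [pow_succ, pow_two] at this
  set σ : MulAut Eˣ := MulAut.conj a with hσ
  have hσa : ∀ x, σ x = a * x * a⁻¹ := fun x => MulAut.conj_apply a x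
  have hσR : ∀ r ∈ R, σ r ∈ R := fun r hr => by rw [hσa]; exact hm.cfg.norm a haB r hr
  have hσ3 : ∀ x, σ (σ (σ x)) = x := by
    intro x
    rw [hσa, hσa, hσa]
    calc a * (a * (a * x * a⁻¹) * a⁻¹) * a⁻¹ = (a * a * a) * x * (a * a * a)⁻¹ := by group
      _ = x := by rw [ha3]; group
  have hσC : ∀ x, σ x ∈ cen R B ↔ x ∈ cen R B := by
    intro x
    rw [hσa]
    exact hm.cen_conj_iff haB x
  -- (★)
  have hstar : ∀ u ∈ R, u ∉ cen R B → u * σ u = z * (σ u * u) := by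
    intro u hu huC
    rcases hdich u hu _ (hσR u hu) with h | h
    · exfalso
      apply huC
      apply hCRa u hu
      have h12 : σ u * σ (σ u) = σ (σ u) * σ u := by rw [← map_mul, h, map_mul]
      have h20 : σ (σ u) * u = u * σ (σ u) := by
        have := congrArg σ h12
        rw [map_mul, map_mul, hσ3] at this
        exact this
      set T : Subgroup Eˣ := Subgroup.closure {u, σ u, σ (σ u)} with hT
      have hTR : T ≤ R := by
        rw [hT, Subgroup.closure_le]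
        rintro x (rfl | rfl | rfl)
        · exact hu
        · exact hσR _ hu
        · exact hσR _ (hσR _ hu)
      have hcomm : ∀ x ∈ ({u, σ u, σ (σ u)} : Set Eˣ), ∀ y ∈ ({u, σ u, σ (σ u)} : Set Eˣ),
          x * y = y * x := by
        rintro x (rfl | rfl | rfl) y (rfl | rfl | rfl)
        · rfl
        · exact h
        · exact h20.symm
        · exact h.symm
        · rfl
        · exact h12
        · exact h20
        · exact h12.symm
        · rfl
      have := Subgroup.isMulCommutative_closure hcomm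
      have hTab : ∀ x ∈ T, ∀ y ∈ T, x * y = y * x := fun x hx y hy => setLike_mul_comm hx hy
      have hTfin : Finite ↥T := Finite.of_injective (Subgroup.inclusion hTR)
        (Subgroup.inclusion_injective hTR)
      have hTnorm : ∀ t ∈ T, a * t * a⁻¹ ∈ T := by
        have hle : T ≤ T.comap σ.toMonoidHom := by
          rw [hT, Subgroup.closure_le]
          rintro x (rfl | rfl | rfl)
          · exact Subgroup.subset_closure (by simp)
          · exact Subgroup.subset_closure (by simp)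
          · show σ (σ (σ u)) ∈ Subgroup.closure {u, σ u, σ (σ u)}
            rw [hσ3]
            exact Subgroup.subset_closure (by simp)
        intro t ht
        have := hle ht
        rw [Subgroup.mem_comap] at this
        rw [← hσa]
        exact this
      exact commute_of_quad h3 a hquad T (hm.cfg.two.to_le hTR) hTab hTnorm u
        (Subgroup.subset_closure (by simp))
    · exact h
  -- fix `u`
  obtain ⟨u, hu, huC⟩ : ∃ u ∈ R, u ∉ cen R B := by
    by_contra hcon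
    push Not at hcon
    exact hm.cen_ne (le_antisymm (cen_le R B) hcon)
  obtain ⟨u₁, hu₁⟩ : ∃ u₁, u₁ = σ u := ⟨_, rfl⟩
  obtain ⟨u₂, hu₂⟩ : ∃ u₂, u₂ = σ u₁ := ⟨_, rfl⟩
  have hu₁R : u₁ ∈ R := by rw [hu₁]; exact hσR u hu
  have hu₂R : u₂ ∈ R := by rw [hu₂]; exact hσR u₁ hu₁R
  have hσu₂ : σ u₂ = u := by rw [hu₂, hu₁]; exact hσ3 u
  have h01 : u * u₁ = z * (u₁ * u) := by rw [hu₁]; exact hstar u hu huC
  have h10 : u₁ * u = z * (u * u₁) := anti_symm hzz h01
  -- `ν`
  obtain ⟨ν, hν⟩ : ∃ ν, ν = u * u₁ * u₂ := ⟨_, rfl⟩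
  have hνR : ν ∈ R := by rw [hν]; exact R.mul_mem (R.mul_mem hu hu₁R) hu₂R
  have hσν : σ ν = u⁻¹ * ν * u := by
    rw [hν, map_mul, map_mul, ← hu₁, ← hu₂, hσu₂]
    group
  have hνC : ν ∈ cen R B := by
    rcases hdich ν hνR u hu with h | h
    · apply hCRa ν hνR
      have e : σ ν = ν := by
        rw [hσν]
        calc u⁻¹ * ν * u = u⁻¹ * (ν * u) := by group
          _ = u⁻¹ * (u * ν) := by rw [h]
          _ = ν := by group
      rw [hσa] at e
      calc a * ν = a * ν * a⁻¹ * a := by group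
        _ = ν * a := by rw [e]
    · exfalso
      apply hz1
      have e : a * ν * a⁻¹ = ν * z := by
        rw [← hσa, hσν]
        calc u⁻¹ * ν * u = u⁻¹ * (ν * u) := by group
          _ = u⁻¹ * (z * (u * ν)) := by rw [h]
          _ = u⁻¹ * ((z * u) * ν) := by group
          _ = u⁻¹ * ((u * z) * ν) := by rw [hzc u hu]
          _ = z * ν := by group
          _ = ν * z := hzc ν hνR
      exact Cfsg.Agent.Lib.Helper24.eq_one_of_conj_eq_mul_of_commute_of_coprime a ν z e hza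
        (hm.cfg.coprime_orders h3 haA (cen_le R B hzC))
  have hνc : ∀ r ∈ R, ν * r = r * ν := hm.cen_central h3 ν hνC
  -- the core claim
  have hcore : ∀ v ∈ R, v * u = u * v → v * u₁ = u₁ * v → v ∈ cen R B := by
    intro v hv hvu hvu₁
    by_contra hvC
    obtain ⟨v₁, hv₁⟩ : ∃ v₁, v₁ = σ v := ⟨_, rfl⟩
    have hv₁R : v₁ ∈ R := by rw [hv₁]; exact hσR v hv
    have hvv₁ : v * v₁ = z * (v₁ * v) := by rw [hv₁]; exact hstar v hv hvC
    have hv₁u₁ : v₁ * u₁ = u₁ * v₁ := by rw [hv₁, hu₁, ← map_mul, hvu, map_mul]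
    have hv₁u₂ : v₁ * u₂ = u₂ * v₁ := by rw [hv₁, hu₂, ← map_mul, hvu₁, map_mul]
    have hv₁u : v₁ * u = u * v₁ := by
      have eu : u = ν * u₂⁻¹ * u₁⁻¹ := by rw [hν]; group
      have c1 : Commute v₁ ν := (hνc v₁ hv₁R).symm
      have c2 : Commute v₁ u₂ := hv₁u₂
      have c3 : Commute v₁ u₁ := hv₁u₁
      have c4 : Commute v₁ (ν * u₂⁻¹ * u₁⁻¹) := (c1.mul_right c2.inv_right).mul_right c3.inv_right
      rw [← eu] at c4
      exact c4
    have hxR : u * v ∈ R := R.mul_mem hu hv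
    have hx1 : (u * v) * u₁ = z * (u₁ * (u * v)) := anti_mul_of_anti_comm h01 hvu₁
    have hx2 : (u * v) * v₁ = z * (v₁ * (u * v)) := anti_mul_of_comm_anti (hzc u hu) hv₁u.symm hvv₁
    have hxC : u * v ∉ cen R B := by
      intro hx
      have := hm.cen_central h3 _ hx u₁ hu₁R
      rw [this] at hx1
      exact false_of_eq_mul hz1 hx1
    have hxx := hstar _ hxR hxC
    rw [map_mul, ← hu₁, ← hv₁] at hxx
    have hcomm : (u₁ * v₁) * (u * v) = (u * v) * (u₁ * v₁) :=
      comm_mul_of_anti_anti hzz (hzc u₁ hu₁R) (anti_symm hzz hx1) (anti_symm hzz hx2)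
    rw [hcomm] at hxx
    exact false_of_eq_mul hz1 hxx
  -- classification of the cosets
  have hclass : ∀ v ∈ R, v ∉ cen R B →
      v * u⁻¹ ∈ cen R B ∨ v * u₁⁻¹ ∈ cen R B ∨ v * u₂⁻¹ ∈ cen R B := by
    intro v hv hvC
    rcases hdich v hv u hu with hvu | hvu <;> rcases hdich v hv u₁ hu₁R with hvu₁ | hvu₁
    · exact absurd (hcore v hv hvu hvu₁) hvC
    · left
      have h1 : (v * u) * u = u * (v * u) := comm_mul_of_comm_comm hvu rfl
      have h2 : (v * u) * u₁ = u₁ * (v * u) := comm_mul_of_anti_anti hzz (hzc v hv) hvu₁ h01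
      have h3' := hcore _ (R.mul_mem hv hu) h1 h2
      have e : v * u⁻¹ = (v * u) * (u * u)⁻¹ := by group
      rw [e]
      exact (cen R B).mul_mem h3' ((cen R B).inv_mem (hm.sq_mem h3 u hu))
    · right; left
      have h1 : (v * u₁) * u = u * (v * u₁) := comm_mul_of_anti_anti hzz (hzc v hv) hvu h10
      have h2 : (v * u₁) * u₁ = u₁ * (v * u₁) := comm_mul_of_comm_comm hvu₁ rfl
      have h3' := hcore _ (R.mul_mem hv hu₁R) h1 h2
      have e : v * u₁⁻¹ = (v * u₁) * (u₁ * u₁)⁻¹ := by group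
      rw [e]
      exact (cen R B).mul_mem h3' ((cen R B).inv_mem (hm.sq_mem h3 u₁ hu₁R))
    · right; right
      have h1a : (v * u) * u = z * (u * (v * u)) := anti_mul_of_anti_comm hvu rfl
      have h1 : (v * u * u₁) * u = u * (v * u * u₁) :=
        comm_mul_of_anti_anti hzz (hzc _ (R.mul_mem hv hu)) h1a h10
      have h2a : (v * u) * u₁ = u₁ * (v * u) := comm_mul_of_anti_anti hzz (hzc v hv) hvu₁ h01
      have h2 : (v * u * u₁) * u₁ = u₁ * (v * u * u₁) := comm_mul_of_comm_comm h2a rfl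
      have h3' := hcore _ (R.mul_mem (R.mul_mem hv hu) hu₁R) h1 h2
      have e1 : u₂ * u * u₁ = ν := by
        calc u₂ * u * u₁ = u₂ * ν * u₂⁻¹ := by rw [hν]; group
          _ = ν * u₂ * u₂⁻¹ := by rw [hνc u₂ hu₂R]
          _ = ν := by group
      have e2 : v * u₂⁻¹ = (v * u * u₁) * (u₂ * u * u₁)⁻¹ := by group
      rw [e2, e1]
      exact (cen R B).mul_mem h3' ((cen R B).inv_mem hνC)
  -- the powers of `a` act compatibly with `B`
  set Za : Subgroup Eˣ := Subgroup.zpowers a with hZa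
  have hZaB : Za ≤ B := Subgroup.zpowers_le.2 haB
  have hactg : ∀ g ∈ Za, ∀ b ∈ B, ∀ r ∈ R, g * (b * r * b⁻¹) * g⁻¹ = b * (g * r * g⁻¹) * b⁻¹ := by
    let 𝒢 : Subgroup Eˣ :=
      { carrier := {g | g ∈ B ∧ ∀ b ∈ B, ∀ r ∈ R, g * (b * r * b⁻¹) * g⁻¹ = b * (g * r * g⁻¹) * b⁻¹}
        one_mem' := ⟨B.one_mem, fun b _ r _ => by group⟩
        mul_mem' := by
          rintro g g' ⟨hgB, hg⟩ ⟨hg'B, hg'⟩
          refine ⟨B.mul_mem hgB hg'B, ?_⟩
          intro b hb r hr
          have e1 := hg' b hb r hr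
          have e2 := hg b hb _ (hm.cfg.norm g' hg'B r hr)
          calc g * g' * (b * r * b⁻¹) * (g * g')⁻¹ = g * (g' * (b * r * b⁻¹) * g'⁻¹) * g⁻¹ := by group
            _ = g * (b * (g' * r * g'⁻¹) * b⁻¹) * g⁻¹ := by rw [e1]
            _ = b * (g * (g' * r * g'⁻¹) * g⁻¹) * b⁻¹ := e2
            _ = b * (g * g' * r * (g * g')⁻¹) * b⁻¹ := by group
        inv_mem' := by
          rintro g ⟨hgB, hg⟩
          refine ⟨B.inv_mem hgB, ?_⟩
          intro b hb r hr
          have hr' : g⁻¹ * r * g ∈ R := by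
            have := hm.cfg.norm g⁻¹ (B.inv_mem hgB) r hr
            simpa using this
          have e := hg b hb _ hr'
          have e' : g * (g⁻¹ * r * g) * g⁻¹ = r := by group
          rw [e'] at e
          calc g⁻¹ * (b * r * b⁻¹) * g⁻¹⁻¹ = g⁻¹ * (b * r * b⁻¹) * g := by group
            _ = g⁻¹ * (g * (b * (g⁻¹ * r * g) * b⁻¹) * g⁻¹) * g := by rw [e]
            _ = b * (g⁻¹ * r * g⁻¹⁻¹) * b⁻¹ := by group }
    have hle : Za ≤ 𝒢 := Subgroup.zpowers_le.2 ⟨haB, hact⟩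
    intro g hg
    exact (hle hg).2
  -- the graph subgroup
  let Γ : Subgroup (Eˣ × Eˣ) :=
    { carrier := {p | p.1 ∈ B ∧ p.2 ∈ Za ∧
        (p.1 * u * p.1⁻¹) * (p.2 * u * p.2⁻¹)⁻¹ ∈ cen R B}
      one_mem' := by
        refine ⟨B.one_mem, Za.one_mem, ?_⟩
        simp
      mul_mem' := by
        rintro ⟨b, g⟩ ⟨b', g'⟩ ⟨hb, hg, hc⟩ ⟨hb', hg', hc'⟩
        refine ⟨B.mul_mem hb hb', Za.mul_mem hg hg', ?_⟩
        simp only [Prod.fst_mul, Prod.snd_mul] at hc hc' ⊢
        have e := hactg g' hg' b hb u hu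
        have hgg : g * g' = g' * g := setLike_mul_comm hg hg'
        have key : (b * b') * u * (b * b')⁻¹ * ((g * g') * u * (g * g')⁻¹)⁻¹
            = (b * ((b' * u * b'⁻¹) * (g' * u * g'⁻¹)⁻¹) * b⁻¹)
              * (g' * ((b * u * b⁻¹) * (g * u * g⁻¹)⁻¹) * g'⁻¹) := by
          rw [hgg]
          calc (b * b') * u * (b * b')⁻¹ * ((g' * g) * u * (g' * g)⁻¹)⁻¹
              = (b * (b' * u * b'⁻¹) * b⁻¹) * (b * (g' * u * g'⁻¹) * b⁻¹)⁻¹
                * (b * (g' * u * g'⁻¹) * b⁻¹) * (g' * (g * u * g⁻¹) * g'⁻¹)⁻¹ := by group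
            _ = (b * (b' * u * b'⁻¹) * b⁻¹) * (b * (g' * u * g'⁻¹) * b⁻¹)⁻¹
                * (g' * (b * u * b⁻¹) * g'⁻¹) * (g' * (g * u * g⁻¹) * g'⁻¹)⁻¹ := by rw [e]
            _ = _ := by group
        rw [key]
        exact (cen R B).mul_mem (hm.cen_conj b hb _ hc') (hm.cen_conj g' (hZaB hg') _ hc)
      inv_mem' := by
        rintro ⟨b, g⟩ ⟨hb, hg, hc⟩
        refine ⟨B.inv_mem hb, Za.inv_mem hg, ?_⟩
        simp only [Prod.fst_inv, Prod.snd_inv] at hc ⊢
        have e := hactg g hg b⁻¹ (B.inv_mem hb) u hu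
        have key : b⁻¹ * u * b⁻¹⁻¹ * (g⁻¹ * u * g⁻¹⁻¹)⁻¹
            = g⁻¹ * (b⁻¹ * ((b * u * b⁻¹) * (g * u * g⁻¹)⁻¹)⁻¹ * b⁻¹⁻¹) * g⁻¹⁻¹ := by
          symm
          calc g⁻¹ * (b⁻¹ * ((b * u * b⁻¹) * (g * u * g⁻¹)⁻¹)⁻¹ * b⁻¹⁻¹) * g⁻¹⁻¹
              = g⁻¹ * ((b⁻¹ * (g * u * g⁻¹) * b⁻¹⁻¹) * u⁻¹) * g := by group
            _ = g⁻¹ * ((g * (b⁻¹ * u * b⁻¹⁻¹) * g⁻¹) * u⁻¹) * g := by rw [e]
            _ = _ := by group
        rw [key]
        exact hm.cen_conj g⁻¹ (B.inv_mem (hZaB hg)) _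
          (hm.cen_conj b⁻¹ (B.inv_mem hb) _ ((cen R B).inv_mem hc)) }
  have hΓmem : ∀ b g, (b, g) ∈ Γ ↔ b ∈ B ∧ g ∈ Za ∧
      (b * u * b⁻¹) * (g * u * g⁻¹)⁻¹ ∈ cen R B := fun b g => Iff.rfl
  have hΓex : ∀ b ∈ B, ∃ g ∈ Za, (b, g) ∈ Γ := by
    intro b hb
    have hvR : b * u * b⁻¹ ∈ R := hm.cfg.norm b hb u hu
    have hvC : b * u * b⁻¹ ∉ cen R B := fun h => huC ((hm.cen_conj_iff hb u).1 h)
    rcases hclass _ hvR hvC with h | h | h
    · refine ⟨1, Za.one_mem, (hΓmem _ _).2 ⟨hb, Za.one_mem, ?_⟩⟩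
      simpa using h
    · refine ⟨a, Subgroup.mem_zpowers a, (hΓmem _ _).2 ⟨hb, Subgroup.mem_zpowers a, ?_⟩⟩
      rw [← hσa, ← hu₁]
      exact h
    · refine ⟨a * a, Za.mul_mem (Subgroup.mem_zpowers a) (Subgroup.mem_zpowers a),
        (hΓmem _ _).2 ⟨hb, Za.mul_mem (Subgroup.mem_zpowers a) (Subgroup.mem_zpowers a), ?_⟩⟩
      have e : a * a * u * (a * a)⁻¹ = u₂ := by
        rw [hu₂, hu₁, hσa, hσa]
        group
      rw [e]
      exact h
  have hcommΓ : ⁅B, B⁆ ≤ Γ.comap (MonoidHom.inl Eˣ Eˣ) := by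
    rw [Subgroup.commutator_le]
    intro b₁ hb₁ b₂ hb₂
    obtain ⟨g₁, hg₁, h1⟩ := hΓex b₁ hb₁
    obtain ⟨g₂, hg₂, h2⟩ := hΓex b₂ hb₂
    have h12 : ⁅((b₁, g₁) : Eˣ × Eˣ), (b₂, g₂)⁆ ∈ Γ := by
      rw [commutatorElement_def]
      exact Γ.mul_mem (Γ.mul_mem (Γ.mul_mem h1 h2) (Γ.inv_mem h1)) (Γ.inv_mem h2)
    have hgg : ⁅g₁, g₂⁆ = 1 :=
      commutatorElement_eq_one_iff_mul_comm.2 (setLike_mul_comm hg₁ hg₂)
    have e : ⁅((b₁, g₁) : Eˣ × Eˣ), (b₂, g₂)⁆ = (⁅b₁, b₂⁆, 1) := by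
      rw [← hgg]
      simp [commutatorElement_def]
    rw [e] at h12
    rw [Subgroup.mem_comap]
    exact h12
  have haΓ : (a, (1 : Eˣ)) ∈ Γ := by
    have := hcommΓ haA
    rw [Subgroup.mem_comap] at this
    exact this
  obtain ⟨-, -, hc⟩ := (hΓmem _ _).1 haΓ
  rw [← hσa, ← hu₁] at hc
  have hc' : u₁ * u⁻¹ ∈ cen R B := by simpa using hc
  have hcu := hm.cen_central h3 _ hc' u hu
  have hcomm : u * u₁ = u₁ * u := by
    calc u * u₁ = u * (u₁ * u⁻¹) * u := by group
      _ = (u₁ * u⁻¹) * u * u := by rw [← hcu]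
      _ = u₁ * u := by group
  rw [hcomm] at h01
  exact false_of_eq_mul hz1 h01

/-- **Core lemma.** -/
theorem core (h3 : (3 : E) = 0) : ∀ (n : ℕ) (R B : Subgroup Eˣ), Nat.card R = n → Cfg R B →
    Good R B := by
  intro n
  induction n using Nat.strong_induction_on with
  | _ n ih =>
    intro R B hn hc
    by_contra hbad
    have hm : MinCE R B := by
      refine ⟨hc, ?_, hbad⟩
      intro R' B' hc' hlt
      exact ih (Nat.card R') (by rw [← hn]; exact hlt) R' B' rfl hc'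
    obtain ⟨z, a, hd⟩ := hm.exists_finalData h3
    exact hm.false_of_finalData h3 hd

theorem core' (h3 : (3 : E) = 0) {R B : Subgroup Eˣ} (hc : Cfg R B) : Good R B :=
  core h3 _ R B rfl hc

end MinCE

end Cfsg.Agent.Lib.Helper29.HH3
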