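import Mathlib
import Cfsg.Agent.Lib.Helper29.HH3C
import Cfsg.Agent.Lib.Helper63.HHCore4
import Cfsg.Agent.Lib.Helper63.HHReduce
import Cfsg.Agent.Lib.Helper63.WreathSec2
import Cfsg.Agent.Lib.Helper63.HHAbGroup
import Cfsg.Agent.Lib.Helper63.PLen3

/-!
Helper29 library: group-theoretic part of the Hall–Higman bound `l_p ≤ d_p` (S3789).
-/

set_option autoImplicit false
set_option linter.style.haveILetI false

namespace Cfsg.Agent.Lib.Helper29.HH3

open scoped commutatorElement
open Cfsg Cfsg.Agent.Lib.Helper63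

universe u

section wrapper

variable {M : Type u} [AddCommGroup M]

/-- Hall–Higman Theorem B for a quadratic element: a unit `x` of `End(M)` (`M` a finite elementary
abelian `p`-group, `p` odd) with `(x - 1)^2 = 0` normalizing a `q`-group `Q` of units centralizes `Q`,
unless `p = 3` and `q = 2`. -/
theorem quad_centralizes {p q : ℕ} [hp : Fact p.Prime] [hq : Fact q.Prime] (hp2 : p ≠ 2)
    (hpq : p ≠ q) (h32 : ¬ (p = 3 ∧ q = 2)) [Finite M] (hexp : ∀ m : M, p • m = 0)
    (Q : Subgroup (AddMonoid.End M)ˣ) (hQ : IsPGroup q Q) (x : (AddMonoid.End M)ˣ)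
    (hx : ∀ g ∈ Q, x * g * x⁻¹ ∈ Q)
    (hquad : ((x : AddMonoid.End M) - 1) * ((x : AddMonoid.End M) - 1) = 0) :
    ∀ g ∈ Q, x * g = g * x := by
  classical
  have hpp : p.Prime := hp.out
  haveI : Module (ZMod p) M := AddCommGroup.zmodModule hexp
  have hfinEnd : Finite (AddMonoid.End M) :=
    Finite.of_injective (fun f : M →+ M => (f : M → M)) DFunLike.coe_injective
  have hfinU : Finite (AddMonoid.End M)ˣ := inferInstance
  have hfd : FiniteDimensional (ZMod p) M := inferInstance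
  have hchar : CharP (AlgebraicClosure (ZMod p)) p :=
    charP_of_injective_algebraMap
      (FaithfulSMul.algebraMap_injective (ZMod p) (AlgebraicClosure (ZMod p))) p
  set c : AddMonoid.End M →* Module.End (ZMod p) M := WreathSec2.endToLin (p := p) (M := M) with hc
  have hc_apply : ∀ (f : AddMonoid.End M) (m : M), c f m = f m := fun f m => rfl
  have hc_inj : Function.Injective c := by
    intro f g hfg
    apply AddMonoidHom.ext
    intro m
    have := congrArg (fun T : Module.End (ZMod p) M => T m) hfg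
    exact this
  set ρ : Representation (AlgebraicClosure (ZMod p)) (AddMonoid.End M)ˣ
      (Fin (Module.finrank (ZMod p) M) → AlgebraicClosure (ZMod p)) :=
    ((HHReduce.extHom (ZMod p) M : Module.End (ZMod p) M →* _)).comp
      (c.comp (Units.coeHom (AddMonoid.End M))) with hρ
  have hρ_apply : ∀ g : (AddMonoid.End M)ˣ,
      ρ g = HHReduce.extHom (ZMod p) M (c (g : AddMonoid.End M)) := fun g => rfl
  have hρinj : Function.Injective ρ := by
    intro g h hgh
    rw [hρ_apply, hρ_apply] at hgh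
    exact Units.ext (hc_inj (HHReduce.extHom_injective (ZMod p) M hgh))
  have hpE : ((p : ℕ) : AddMonoid.End M) = 0 := by
    apply AddMonoid.End.ext
    intro m
    rw [AddMonoid.End.natCast_apply]
    exact hexp m
  have hxP : x ^ p ^ 1 = 1 := by
    rw [pow_one]
    exact unit_pow_of_quad p hpE x hquad
  have hs : (ρ x - 1) ^ 2 = 0 := by
    have h1 : (c (x : AddMonoid.End M) - 1) ^ 2 = 0 := by
      apply LinearMap.ext
      intro m
      rw [pow_two, Module.End.mul_apply]
      have hsub : ∀ m' : M, (c (x : AddMonoid.End M) - 1) m'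
          = ((x : AddMonoid.End M) - 1) m' := by
        intro m'
        rw [LinearMap.sub_apply, hc_apply]
        rfl
      rw [hsub, hsub]
      have := congrArg (fun f : AddMonoid.End M => f m) hquad
      exact this
    rw [hρ_apply, ← map_one (HHReduce.extHom (ZMod p) M), ← map_sub, ← map_pow, h1, map_zero]
  by_contra hcon
  push Not at hcon
  obtain ⟨g, hg, hne⟩ := hcon
  have hact : ∃ a ∈ Q, ρ (x ^ p ^ (1 - 1) * a * (x ^ p ^ (1 - 1))⁻¹ * a⁻¹) ≠ 1 := by
    refine ⟨g, hg, fun h1 => hne ?_⟩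
    have h2 : x ^ p ^ (1 - 1) * g * (x ^ p ^ (1 - 1))⁻¹ * g⁻¹ = 1 :=
      hρinj (by rw [h1, map_one])
    rw [Nat.sub_self, pow_zero, pow_one] at h2
    calc x * g = (x * g * x⁻¹ * g⁻¹) * (g * x) := by group
      _ = g * x := by rw [h2, one_mul]
  have hC := HHCore4.theoremB (AlgebraicClosure (ZMod p)) p q hpq Q hQ x hx 1 le_rfl hxP ρ hact 2 hs
  have hp3 : 3 ≤ p := by
    have := hpp.two_le
    omega
  rcases hC with hC | ⟨n₀, m, h1, h2, h3, h4, -, h6⟩
  · rw [pow_one] at hC
    omega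
  · have hn₀ : n₀ = 1 := le_antisymm h2 h1
    subst hn₀
    rw [pow_one] at h4
    rw [Nat.sub_self, pow_zero, one_mul, pow_one] at h6
    have hp3' : p = 3 := by omega
    apply h32
    refine ⟨hp3', ?_⟩
    subst hp3'
    have hq2 : q ∣ 2 := by
      have : q ∣ q ^ m := dvd_pow_self q (by omega)
      rw [← h4] at this
      exact this
    exact (Nat.prime_dvd_prime_iff_eq hq.out Nat.prime_two).1 hq2

end wrapper


section fratt

variable {Γ : Type u} [Group Γ] {p : ℕ} {V : Subgroup Γ} [hVn : V.Normal] {M : Type u}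
  [AddCommGroup M] {ρ : Γ →* (AddMonoid.End M)ˣ} {π : ↥V → M}

theorem sub_one_apply (D : FrattData p V M ρ π) (g : Γ) (v : ↥V) :
    (((ρ g : (AddMonoid.End M)ˣ) : AddMonoid.End M) - 1) (π v)
      = π ⟨g * v * g⁻¹ * (v : Γ)⁻¹, V.mul_mem (hVn.conj_mem v v.2 g) (V.inv_mem v.2)⟩ := by
  have h1 : (((ρ g : (AddMonoid.End M)ˣ) : AddMonoid.End M) - 1) (π v)
      = ((ρ g : (AddMonoid.End M)ˣ) : AddMonoid.End M) (π v) - π v := rfl
  have h2 : (⟨g * v * g⁻¹ * (v : Γ)⁻¹, V.mul_mem (hVn.conj_mem v v.2 g) (V.inv_mem v.2)⟩ : ↥V)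
      = (⟨g * v * g⁻¹, hVn.conj_mem v v.2 g⟩ : ↥V) * v⁻¹ := by
    apply Subtype.ext; rfl
  rw [h1, h2, D.add, D.map_inv, D.act g v, sub_eq_add_neg]

theorem sub_one_apply_mem (D : FrattData p V M ρ π) (X Y : Subgroup Γ) {x : Γ} (hx : x ∈ X)
    (v : ↥V) (hv : (v : Γ) ∈ Y) :
    ∃ v' : ↥V, (v' : Γ) ∈ ⁅X, Y⁆ ∧
      (((ρ x : (AddMonoid.End M)ˣ) : AddMonoid.End M) - 1) (π v) = π v' := by
  refine ⟨⟨x * v * x⁻¹ * (v : Γ)⁻¹, V.mul_mem (hVn.conj_mem v v.2 x) (V.inv_mem v.2)⟩, ?_,
    sub_one_apply D x v⟩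
  show x * v * x⁻¹ * (v : Γ)⁻¹ ∈ ⁅X, Y⁆
  rw [← commutatorElement_def]
  exact Subgroup.commutator_mem_commutator hx hv

end fratt

section key

variable {G : Type u} [Group G]

/-- **Key claim.** In a `p`-soluble group (`p` odd) with `O_{p'}(G) = 1`, if the Sylow `p`-subgroup
`P` has derived length at most `k + 1` then `P^{(k)} ≤ O_p(G)`. -/
theorem derived_le_pCore [Finite G] {p : ℕ} [hp : Fact p.Prime] (hp2 : p ≠ 2)
    (hsolv : IsPSolvable p G) (hcore : pPrimeCore p G = ⊥) (P : Sylow p G) (k : ℕ)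
    (hk : derivedSeries ↥(P : Subgroup G) (k + 1) = ⊥) :
    ∀ x ∈ derivedSeries ↥(P : Subgroup G) k, (x : G) ∈ pCore p G := by
  classical
  have hpp : p.Prime := hp.out
  set V : Subgroup G := pCore p G with hVdef
  have hVn : V.Normal := inferInstance
  have hV : IsPGroup p V := Cfsg.Agent.Lib.Helper1.pCore_isPGroup p
  have hVP : V ≤ (P : Subgroup G) := Cfsg.Agent.Lib.Helper1.pCore_le_sylow p P
  have hcoreN : ∀ N : Subgroup G, N.Normal → (Nat.card N).Coprime p → N = ⊥ := by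
    intro N hN hNp
    have := Cfsg.Agent.Lib.Helper1.le_pPrimeCore hN hNp
    rw [hcore] at this
    exact le_bot_iff.1 this
  have hcent : Subgroup.centralizer (V : Set G) ≤ V :=
    Cfsg.Agent.Lib.Helper76.centralizer_pCore_le p hsolv hcoreN
  -- the derived series inside `G`
  set Ds : ℕ → Subgroup G := fun j => (derivedSeries ↥(P : Subgroup G) j).map
    (P : Subgroup G).subtype with hDs
  have hDsP : ∀ j, Ds j ≤ (P : Subgroup G) := fun j => Subgroup.map_subtype_le _
  have hDs_succ : ∀ j, Ds (j + 1) = ⁅Ds j, Ds j⁆ := by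
    intro j
    simp only [hDs]
    rw [derivedSeries_succ, Subgroup.map_commutator]
  have hDs_bot : Ds (k + 1) = ⊥ := by
    simp only [hDs]
    rw [hk, Subgroup.map_bot]
  have hDs_norm : ∀ j, ∀ g ∈ (P : Subgroup G), ∀ y ∈ Ds j, g * y * g⁻¹ ∈ Ds j := by
    intro j g hg y hy
    obtain ⟨y', hy', rfl⟩ := hy
    have hn : (derivedSeries ↥(P : Subgroup G) j).Normal := derivedSeries_normal _ j
    exact ⟨⟨g, hg⟩ * y' * ⟨g, hg⟩⁻¹, hn.conj_mem y' hy' ⟨g, hg⟩, rfl⟩
  have hDs_comm_le : ∀ j, ⁅Ds j, (P : Subgroup G)⁆ ≤ Ds j := by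
    intro j
    rw [Subgroup.commutator_le]
    intro y hy g hg
    rw [commutatorElement_def]
    have h1 : g * y⁻¹ * g⁻¹ ∈ Ds j := hDs_norm j g hg _ ((Ds j).inv_mem hy)
    have e : y * g * y⁻¹ * g⁻¹ = y * (g * y⁻¹ * g⁻¹) := by group
    rw [e]
    exact (Ds j).mul_mem hy h1
  have hDk_comm : ∀ a ∈ Ds k, ∀ b ∈ Ds k, a * b = b * a := by
    intro a ha b hb
    have h1 : ⁅a, b⁆ ∈ ⁅Ds k, Ds k⁆ := Subgroup.commutator_mem_commutator ha hb
    rw [← hDs_succ, hDs_bot, Subgroup.mem_bot] at h1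
    exact commutatorElement_eq_one_iff_mul_comm.1 h1
  intro x hx
  have hxD : (x : G) ∈ Ds k := ⟨x, hx, rfl⟩
  rcases Nat.eq_zero_or_pos k with hk0 | hkpos
  · -- `P` is abelian
    apply hcent
    rw [Subgroup.mem_centralizer_iff]
    intro v hv
    have hvD : v ∈ Ds k := by
      rw [hk0]
      simp only [hDs]
      rw [derivedSeries_zero, ← MonoidHom.range_eq_map, Subgroup.range_subtype]
      exact hVP hv
    exact hDk_comm v hvD x hxD
  obtain ⟨j, rfl⟩ : ∃ j, k = j + 1 := ⟨k - 1, by omega⟩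
  -- the Frattini module
  have htriv : Cfsg.Agent.Lib.Helper70.trivOnFrattiniQuot V ≤ V :=
    Cfsg.Agent.Lib.Helper70.trivOnFrattiniQuot_le V hV hcent
      (fun N hN hNp => Cfsg.Agent.Lib.Helper1.le_pCore hN hNp)
  obtain ⟨M, instM, ρ, π, D⟩ := exists_frattData V hV
  have hMfin : Finite M := Finite.of_surjective π D.surj
  have hVker : ∀ v ∈ V, ρ v = 1 := fun v hv =>
    D.eq_one_of_mem (Cfsg.Agent.Lib.Helper70.le_trivOnFrattiniQuot V hV hv)
  set ρb : G ⧸ V →* (AddMonoid.End M)ˣ := QuotientGroup.lift V ρ hVker with hρb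
  have hρb_mk : ∀ g : G, ρb (QuotientGroup.mk' V g) = ρ g := fun g => rfl
  have hρb_inj : Function.Injective ρb := by
    rw [injective_iff_map_eq_one]
    intro y hy
    obtain ⟨g, rfl⟩ := QuotientGroup.mk'_surjective V y
    rw [hρb_mk] at hy
    have hg : g ∈ V := htriv (D.mem_trivOnFrattiniQuot hy)
    exact (QuotientGroup.eq_one_iff g).2 hg
  have hfinEnd : Finite (AddMonoid.End M) :=
    Finite.of_injective (fun f : M →+ M => (f : M → M)) DFunLike.coe_injective
  -- the quadratic relations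
  set E : Subgroup G := Ds j with hE
  set Dk : Subgroup G := Ds (j + 1) with hDk
  have hDkE : Dk = ⁅E, E⁆ := hDs_succ j
  have hDkleE : Dk ≤ E := by
    rw [hDkE, Subgroup.commutator_le]
    intro g₁ h₁ g₂ h₂
    rw [commutatorElement_def]
    exact E.mul_mem (E.mul_mem (E.mul_mem h₁ h₂) (E.inv_mem h₁)) (E.inv_mem h₂)
  have hzero : ∀ a ∈ Dk, ∀ v : ↥V, (v : G) ∈ Dk →
      (((ρ a : (AddMonoid.End M)ˣ) : AddMonoid.End M) - 1) (π v) = 0 := by
    intro a ha v hv
    obtain ⟨v', hv', hv'e⟩ := sub_one_apply_mem D Dk Dk ha v hv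
    rw [hv'e]
    have h1 : (v' : G) ∈ (⊥ : Subgroup G) := by
      rw [← hDs_bot, hDs_succ (j + 1)]
      exact hv'
    have h2 : v' = 1 := Subtype.ext (Subgroup.mem_bot.1 h1)
    rw [h2, D.map_one]
  have hc1 : ∀ a ∈ Dk, ∀ a' ∈ Dk,
      (((ρ a : (AddMonoid.End M)ˣ) : AddMonoid.End M) - 1)
        * (((ρ a' : (AddMonoid.End M)ˣ) : AddMonoid.End M) - 1) = 0 := by
    intro a ha a' ha'
    apply AddMonoid.End.ext
    intro m
    obtain ⟨v, rfl⟩ := D.surj m
    obtain ⟨v₁, hv₁, hv₁e⟩ := sub_one_apply_mem D Dk (P : Subgroup G) ha' v (hVP v.2)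
    show (((ρ a : (AddMonoid.End M)ˣ) : AddMonoid.End M) - 1)
      ((((ρ a' : (AddMonoid.End M)ˣ) : AddMonoid.End M) - 1) (π v)) = 0
    rw [hv₁e]
    exact hzero a ha v₁ (hDs_comm_le (j + 1) hv₁)
  have hc2 : ∀ a ∈ Dk, ∀ b ∈ E, ∀ b' ∈ E,
      (((ρ a : (AddMonoid.End M)ˣ) : AddMonoid.End M) - 1)
        * (((ρ b : (AddMonoid.End M)ˣ) : AddMonoid.End M) - 1)
        * (((ρ b' : (AddMonoid.End M)ˣ) : AddMonoid.End M) - 1) = 0 := by
    intro a ha b hb b' hb'
    apply AddMonoid.End.ext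
    intro m
    obtain ⟨v, rfl⟩ := D.surj m
    obtain ⟨v₁, hv₁, hv₁e⟩ := sub_one_apply_mem D E (P : Subgroup G) hb' v (hVP v.2)
    obtain ⟨v₂, hv₂, hv₂e⟩ := sub_one_apply_mem D E E hb v₁ (hDs_comm_le j hv₁)
    show (((ρ a : (AddMonoid.End M)ˣ) : AddMonoid.End M) - 1)
      ((((ρ b : (AddMonoid.End M)ˣ) : AddMonoid.End M) - 1)
        ((((ρ b' : (AddMonoid.End M)ˣ) : AddMonoid.End M) - 1) (π v))) = 0
    rw [hv₁e, hv₂e]
    apply hzero a ha v₂
    rw [hDkE]
    exact hv₂
  -- the quotient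
  have hsolvb : IsPSolvable p (G ⧸ V) :=
    Cfsg.Agent.Lib.Helper76.IsPSolvable_of_surjective p (QuotientGroup.mk' V)
      (QuotientGroup.mk'_surjective V) hsolv
  have hcoreb : ∀ N : Subgroup (G ⧸ V), N.Normal → IsPGroup p N → N = ⊥ := by
    intro N hNn hNp
    have h1 : (N.comap (QuotientGroup.mk' V)).Normal := hNn.comap _
    have h2 : IsPGroup p (N.comap (QuotientGroup.mk' V)) := by
      apply hNp.comap_of_ker_isPGroup
      rw [QuotientGroup.ker_mk']
      exact hV
    have h3 := Cfsg.Agent.Lib.Helper1.le_pCore h1 h2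
    rw [eq_bot_iff]
    intro y hy
    obtain ⟨g, rfl⟩ := QuotientGroup.mk'_surjective V y
    rw [Subgroup.mem_bot]
    exact (QuotientGroup.eq_one_iff g).2 (h3 hy)
  set K : Subgroup (G ⧸ V) := pPrimeCore p (G ⧸ V) with hKdef
  have hKn : K.Normal := inferInstance
  have hKcent : Subgroup.centralizer (K : Set (G ⧸ V)) ≤ K :=
    Cfsg.Agent.Lib.Helper62.centralizer_pPrimeCore_le p hsolvb hcoreb
  have hKcop : (Nat.card K).Coprime p := Cfsg.Agent.Lib.Helper1.pPrimeCore_card_coprime p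
  -- the `p`-group `Ē`
  have hEp : IsPGroup p E := by
    have h1 : IsPGroup p ↥(P : Subgroup G) := P.2
    have h2 : IsPGroup p ↥(derivedSeries ↥(P : Subgroup G) j) := h1.to_subgroup _
    exact h2.map _
  set Eb : Subgroup (G ⧸ V) := E.map (QuotientGroup.mk' V) with hEb
  have hEbp : IsPGroup p Eb := hEp.map _
  set xb : G ⧸ V := QuotientGroup.mk' V (x : G) with hxb
  -- `xb` centralizes `K`
  have hzK : K ⊓ Subgroup.centralizer ({xb} : Set (G ⧸ V)) = K := by
    apply eq_of_forall_sylow_le K _ inf_le_left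
    intro q hq
    obtain ⟨Q, hQ⟩ := exists_invariant_sylow_subgroup K p q hKcop Eb hEbp
    refine ⟨Q, ?_⟩
    set A : Subgroup (G ⧸ V) := (Q : Subgroup ↥K).map K.subtype with hA
    have hAK : A ≤ K := by
      rintro _ ⟨k, _, rfl⟩
      exact k.2
    refine le_inf hAK ?_
    by_cases hqp : q = p
    · subst hqp
      have hcard : Nat.card ↥(Q : Subgroup ↥K) = 1 := by
        rw [Q.card_eq_multiplicity]
        have : (Nat.card ↥K).factorization q = 0 := by
          apply Nat.factorization_eq_zero_of_not_dvd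
          intro hdvd
          have h2 : q ∣ Nat.gcd (Nat.card ↥K) q := Nat.dvd_gcd hdvd dvd_rfl
          rw [hKcop] at h2
          exact hpp.one_lt.ne' (Nat.dvd_one.1 h2)
        rw [this, pow_zero]
      have hbot : (Q : Subgroup ↥K) = ⊥ := Subgroup.card_eq_one.1 hcard
      rintro _ ⟨k, hk', rfl⟩
      have hk1 : k = 1 := by
        have hk'' : k ∈ (Q : Subgroup ↥K) := hk'
        rw [hbot] at hk''
        exact Subgroup.mem_bot.1 hk''
      rw [hk1, map_one]
      exact Subgroup.one_mem _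
    · have hAq : IsPGroup q A := Q.2.map _
      have hAE : ∀ e ∈ E, ∀ y ∈ A, QuotientGroup.mk' V e * y * (QuotientGroup.mk' V e)⁻¹ ∈ A := by
        rintro e he _ ⟨k, hk', rfl⟩
        refine ⟨(MulAut.conjNormal (QuotientGroup.mk' V e) : MulAut ↥K) k,
          hQ _ ⟨e, he, rfl⟩ k hk', ?_⟩
        simp [MulAut.conjNormal_apply]
      set A' : Subgroup (AddMonoid.End M)ˣ := A.map ρb with hA'
      have hA'q : IsPGroup q A' := hAq.map _
      have hA'E : ∀ e ∈ E, ∀ r ∈ A', ρ e * r * (ρ e)⁻¹ ∈ A' := by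
        rintro e he _ ⟨y, hy, rfl⟩
        refine ⟨QuotientGroup.mk' V e * y * (QuotientGroup.mk' V e)⁻¹, hAE e he y hy, ?_⟩
        rw [map_mul, map_mul, map_inv, hρb_mk]
      have hcommU : ∀ r ∈ A', ρ (x : G) * r = r * ρ (x : G) := by
        by_cases h32 : p = 3 ∧ q = 2
        · obtain ⟨hp3, hq2⟩ := h32
          subst hp3
          subst hq2
          have h3 : (3 : AddMonoid.End M) = 0 := by
            have := D.natCast_eq_zero
            exact_mod_cast this
          set B' : Subgroup (AddMonoid.End M)ˣ := E.map ρ with hB'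
          have hcommB' : ⁅B', B'⁆ = Dk.map ρ := by
            rw [hB', ← Subgroup.map_commutator, ← hDkE]
          have hcfg : Cfg A' B' := by
            refine ⟨inferInstance, inferInstance, hA'q, hEp.map _, ?_, ?_, ?_⟩
            · rintro _ ⟨e, he, rfl⟩ r hr
              exact hA'E e he r hr
            · intro a ha a' ha'
              rw [hcommB'] at ha ha'
              obtain ⟨a₀, ha₀, rfl⟩ := ha
              obtain ⟨a₀', ha₀', rfl⟩ := ha'
              exact hc1 a₀ ha₀ a₀' ha₀'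
            · intro a ha b hb b' hb'
              rw [hcommB'] at ha
              obtain ⟨a₀, ha₀, rfl⟩ := ha
              obtain ⟨b₀, hb₀, rfl⟩ := hb
              obtain ⟨b₀', hb₀', rfl⟩ := hb'
              exact hc2 a₀ ha₀ b₀ hb₀ b₀' hb₀'
          have hgood := core' h3 hcfg
          intro r hr
          apply hgood r hr
          rw [hcommB']
          exact ⟨(x : G), hxD, rfl⟩
        · have hpq : p ≠ q := fun h => hqp h.symm
          exact quad_centralizes hp2 hpq h32 D.exp A' hA'q (ρ (x : G))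
            (hA'E (x : G) (hDkleE hxD)) (hc1 _ hxD _ hxD)
      intro y hy
      rw [Subgroup.mem_centralizer_iff]
      intro t ht
      rw [Set.mem_singleton_iff] at ht
      subst ht
      have h1 := hcommU (ρb y) ⟨y, hy, rfl⟩
      rw [← hρb_mk, ← map_mul, ← map_mul] at h1
      exact hρb_inj h1
  have hzcent : xb ∈ Subgroup.centralizer (K : Set (G ⧸ V)) := by
    rw [Subgroup.mem_centralizer_iff]
    intro k hk'
    have hk'' : k ∈ K ⊓ Subgroup.centralizer ({xb} : Set (G ⧸ V)) := by rw [hzK]; exact hk'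
    have := Subgroup.mem_centralizer_iff.1 hk''.2 xb rfl
    exact this.symm
  have hxbK : xb ∈ K := hKcent hzcent
  have hxb1 : xb = 1 := by
    have h1 : xb ^ Nat.card K = 1 := by
      have := pow_card_eq_one' (G := ↥K) (x := ⟨xb, hxbK⟩)
      exact congrArg Subtype.val this
    obtain ⟨n, hn⟩ := P.2 x
    have h2 : xb ^ p ^ n = 1 := by
      rw [hxb, ← map_pow]
      have : (x : G) ^ p ^ n = 1 := by
        have := congrArg Subtype.val hn
        simpa using this
      rw [this, map_one]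
    exact Cfsg.Agent.Lib.Helper76.eq_one_of_pow_eq_one_of_coprime p xb (Nat.card K) n hKcop h1 h2
  exact (QuotientGroup.eq_one_iff _).1 hxb1

end key

end Cfsg.Agent.Lib.Helper29.HH3
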