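import Mathlib
import Cfsg.Prelude.Def_HallClasses

/-!
# S2538 module `[CYC-A]` (helper71's project, board #3614)

A Hall `π`-subgroup of `Alt(β)` with `3 ∈ π` contains a `3`-cycle.
-/

set_option autoImplicit false

namespace Cfsg.Agent.Lib.Helper29.HallAlt
open Cfsg Equiv
open scoped Pointwise

/-- if `q ∤ |G : H|`, every `q`-element of `G` has a conjugate in `H` -/
theorem exists_conj_mem_of_not_dvd_index {G : Type*} [Group G] [Finite G] (q : ℕ)
    [Fact q.Prime] (H : Subgroup G) (hH : ¬ q ∣ H.index) (x : G)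
    (hx : IsPGroup q (Subgroup.zpowers x)) : ∃ g : G, g * x * g⁻¹ ∈ H := by
  obtain ⟨P⟩ : Nonempty (Sylow q H) := inferInstance
  have hcard : Nat.card ((P : Subgroup H).map H.subtype) =
      q ^ (Nat.card G).factorization q := by
    rw [Subgroup.card_map_of_injective H.subtype_injective, Sylow.card_eq_multiplicity,
      ← Subgroup.card_mul_index H, Nat.factorization_mul Nat.card_pos.ne' H.index_ne_zero_of_finite,
      Finsupp.add_apply, Nat.factorization_eq_zero_of_not_dvd hH, add_zero]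
  set S : Sylow q G := Sylow.ofCard _ hcard with hS
  obtain ⟨Q', hQ'⟩ := hx.exists_le_sylow
  obtain ⟨g, hg⟩ := MulAction.exists_smul_eq G Q' S
  refine ⟨g, ?_⟩
  have hmem : x ∈ (Q' : Subgroup G) := hQ' (Subgroup.mem_zpowers x)
  have h1 : (S : Subgroup G) = MulAut.conj g • (Q' : Subgroup G) := by
    rw [← hg]; rfl
  have h2 : g * x * g⁻¹ = MulAut.conj g • x := rfl
  have h3 : g * x * g⁻¹ ∈ (S : Subgroup G) := by
    rw [h1, h2]
    exact Subgroup.smul_mem_pointwise_smul_iff.2 hmem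
  rw [hS, Sylow.coe_ofCard] at h3
  obtain ⟨y, -, hy⟩ := Subgroup.mem_map.1 h3
  rw [← hy]
  exact y.2

variable {β : Type} [Fintype β] [DecidableEq β]

/-- MODULE [CYC-A] -/
theorem alt_exists_three_cycle (π : Set ℕ) (M : Subgroup (Perm β))
    (hM : IsPiHallOf π M (alternatingGroup β)) (h3 : 3 ∈ π) (hn : 3 ≤ Fintype.card β) :
    ∃ g ∈ M, g.IsThreeCycle := by
  have : Fact (Nat.Prime 3) := ⟨Nat.prime_three⟩
  obtain ⟨a, b, c, hab, hac, hbc⟩ := Fintype.two_lt_card_iff.1 (show 2 < Fintype.card β by omega)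
  have hc3 : (swap a b * swap a c).IsThreeCycle :=
    Equiv.Perm.isThreeCycle_swap_mul_swap_same hab hac hbc
  set x : ↥(alternatingGroup β) := ⟨swap a b * swap a c, hc3.mem_alternatingGroup⟩ with hx
  have hxo : orderOf x = 3 := by
    rw [← Subgroup.orderOf_coe]
    exact hc3.orderOf
  have hxp : IsPGroup 3 (Subgroup.zpowers x) := by
    apply IsPGroup.of_card (n := 1)
    rw [Nat.card_zpowers, hxo, pow_one]
  have hidx : ¬ 3 ∣ (M.subgroupOf (alternatingGroup β)).index := hM.2.2 3 Nat.prime_three h3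
  obtain ⟨g, hg⟩ := exists_conj_mem_of_not_dvd_index 3 (M.subgroupOf (alternatingGroup β)) hidx x hxp
  rw [Subgroup.mem_subgroupOf] at hg
  refine ⟨_, hg, ?_⟩
  have : ((g * x * g⁻¹ : ↥(alternatingGroup β)) : Perm β) =
      (g : Perm β) * (swap a b * swap a c) * (g : Perm β)⁻¹ := rfl
  rw [this]
  unfold Equiv.Perm.IsThreeCycle
  rw [Equiv.Perm.cycleType_conj]
  exact hc3.cycleType

end Cfsg.Agent.Lib.Helper29.HallAlt
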