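import Mathlib
import Cfsg.Prelude.Def_HallClasses

/-!
# S2538 module `[SYL2-A]` (helper71's project, board #3614)

A `2`-subgroup of `Sym(β)` lies in a `2`-subgroup not contained in `Alt(β)`.
-/

set_option autoImplicit false

namespace Cfsg.Agent.Lib.Helper29.HallAlt
open Cfsg Equiv
open scoped Pointwise

variable {β : Type} [Fintype β] [DecidableEq β]

theorem isPGroup_of_prime_dvd {G : Type*} [Group G] [Finite G] (q : ℕ) [Fact q.Prime]
    (H : Subgroup G) (h : ∀ p : ℕ, p.Prime → p ∣ Nat.card H → p = q) : IsPGroup q H := by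
  have h0 : Nat.card H ≠ 0 := Nat.card_pos.ne'
  have := Nat.eq_prime_pow_of_unique_prime_dvd h0 (fun {p} hp hd => h p hp hd)
  exact IsPGroup.of_card this

/-- MODULE [SYL2-A] -/
theorem exists_two_overgroup (M : Subgroup (Perm β)) (hcard : 2 ≤ Fintype.card β)
    (hM2 : ∀ p : ℕ, p.Prime → p ∣ Nat.card M → p = 2) :
    ∃ K : Subgroup (Perm β), M ≤ K ∧ (∀ p : ℕ, p.Prime → p ∣ Nat.card K → p = 2) ∧
      ¬ K ≤ alternatingGroup β := by
  have : Fact (Nat.Prime 2) := ⟨Nat.prime_two⟩
  have hMp : IsPGroup 2 M := isPGroup_of_prime_dvd 2 M hM2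
  obtain ⟨Q, hMQ⟩ := hMp.exists_le_sylow
  refine ⟨Q, hMQ, ?_, ?_⟩
  · intro p hp hd
    obtain ⟨k, hk⟩ := (IsPGroup.iff_card.1 Q.2)
    rw [hk] at hd
    exact (Nat.prime_dvd_prime_iff_eq hp Nat.prime_two).1 (hp.dvd_of_dvd_pow hd)
  · -- a swap
    obtain ⟨a, b, hab⟩ := Fintype.exists_pair_of_one_lt_card (show 1 < Fintype.card β by omega)
    have hτ2 : (swap a b) ^ 2 = 1 := by rw [pow_two, swap_mul_self]
    have hτ1 : swap a b ≠ 1 := by
      intro h
      have := congrArg (fun σ : Perm β => σ a) h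
      simp at this
      exact hab this.symm
    have hτp : IsPGroup 2 (Subgroup.zpowers (swap a b)) := by
      apply IsPGroup.of_card (n := 1)
      rw [Nat.card_zpowers, pow_one]
      exact orderOf_eq_prime hτ2 hτ1
    obtain ⟨Q', hQ'⟩ := hτp.exists_le_sylow
    obtain ⟨g, hg⟩ := MulAction.exists_smul_eq (Perm β) Q' Q
    have hmem : swap a b ∈ Q' := hQ' (Subgroup.mem_zpowers _)
    have hmem2 : g * swap a b * g⁻¹ ∈ (Q : Subgroup (Perm β)) := by
      have h1 : (Q : Subgroup (Perm β)) = MulAut.conj g • (Q' : Subgroup (Perm β)) := by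
        rw [← hg]; rfl
      rw [h1]
      have h2 : g * swap a b * g⁻¹ = MulAut.conj g • swap a b := rfl
      rw [h2]
      exact Subgroup.smul_mem_pointwise_smul_iff.2 hmem
    intro hle
    have h1 := hle hmem2
    rw [Equiv.Perm.mem_alternatingGroup] at h1
    rw [map_mul, map_mul, map_inv, mul_comm, ← mul_assoc, inv_mul_cancel, one_mul,
      Equiv.Perm.sign_swap hab] at h1
    exact absurd h1 (by decide)

end Cfsg.Agent.Lib.Helper29.HallAlt
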