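import Mathlib
import Cfsg.Prelude.Def_HallClasses
import Cfsg.Agent.Lib.Helper55.HallSymB

/-!
# S2538 module `[TB-A]` (helper71's project, board #3614)

A Hall `π`-subgroup `M` of `Alt(β)` (`2 ∈ π`) preserving a subset `t` with `2 ≤ |t| ≤ n - 2` lies in
a `π`-subgroup of `Sym(β)` preserving `t` and not contained in `Alt(β)`.
-/

set_option autoImplicit false

namespace Cfsg.Agent.Lib.Helper29.HallAlt
open Cfsg Equiv Cfsg.Agent.Lib.Helper55.HallSym

variable {β : Type} [Fintype β] [DecidableEq β]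

/-- `2 |H|` divides `|γ|!` for a subgroup `H` of the alternating group on at least two points -/
theorem two_mul_card_dvd_factorial {γ : Type} [Fintype γ] [DecidableEq γ]
    (hγ : 2 ≤ Fintype.card γ) (H : Subgroup (Perm γ)) (hH : H ≤ alternatingGroup γ) :
    2 * Nat.card H ∣ (Fintype.card γ).factorial := by
  have : Nontrivial γ := Fintype.one_lt_card_iff_nontrivial.1 (by omega)
  have h1 : 2 * Nat.card (alternatingGroup γ) = (Fintype.card γ).factorial := by
    rw [Nat.card_eq_fintype_card, two_mul_card_alternatingGroup, Fintype.card_perm]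
  rw [← h1]
  exact Nat.mul_dvd_mul_left 2 (Subgroup.card_dvd_of_le hH)

/-- MODULE [TB-A] -/
theorem alt_restrict (π : Set ℕ) (M : Subgroup (Perm β))
    (hM : IsPiHallOf π M (alternatingGroup β)) (h2 : 2 ∈ π) (t : Finset β)
    (ht : ∀ h ∈ M, ∀ a ∈ t, h a ∈ t) (ht2 : 2 ≤ t.card) (htn : t.card + 2 ≤ Fintype.card β) :
    ∃ K : Subgroup (Perm β), M ≤ K ∧ (∀ p : ℕ, p.Prime → p ∣ Nat.card K → p ∈ π) ∧
      ¬ K ≤ alternatingGroup β ∧ ∀ k ∈ K, ∀ a ∈ t, k a ∈ t := by
  obtain ⟨hMA, hMπ, hMidx⟩ := hM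
  have hp : ∀ h ∈ M, ∀ a, (h a ∈ t) ↔ (a ∈ t) := by
    intro h hh a
    constructor
    · intro ha
      have := ht h⁻¹ (M.inv_mem hh) (h a) ha
      simpa using this
    · exact ht h hh a
  have hq : ∀ h ∈ M, ∀ a, (¬ h a ∈ t) ↔ (¬ a ∈ t) := fun h hh a => not_congr (hp h hh a)
  let ρA := restrictHom M (fun a => a ∈ t) hp
  let ρB := restrictHom M (fun a => ¬ a ∈ t) hq
  let φ := Equiv.Perm.subtypeCongrHom (fun a : β => a ∈ t)
  have hφinj : Function.Injective φ := Equiv.Perm.subtypeCongrHom_injective _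
  let K : Subgroup (Perm β) := (ρA.range.prod ρB.range).map φ
  have hMK : M ≤ K := by
    intro h hh
    refine ⟨(ρA ⟨h, hh⟩, ρB ⟨h, hh⟩), ⟨⟨⟨h, hh⟩, rfl⟩, ⟨⟨h, hh⟩, rfl⟩⟩, ?_⟩
    ext a
    by_cases ha : a ∈ t
    · exact Equiv.Perm.subtypeCongr.left_apply _ _ ha
    · exact Equiv.Perm.subtypeCongr.right_apply _ _ ha
  have hKcard : Nat.card K = Nat.card ρA.range * Nat.card ρB.range := by
    rw [Subgroup.card_map_of_injective hφinj,
      Nat.card_congr (Subgroup.prodEquiv ρA.range ρB.range).toEquiv, Nat.card_prod]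
  have hKπ : ∀ p : ℕ, p.Prime → p ∣ Nat.card K → p ∈ π := by
    intro p hp' hd
    rw [hKcard] at hd
    rcases (hp'.dvd_mul).mp hd with h1 | h1
    · exact hMπ p hp' (h1.trans (Subgroup.card_range_dvd ρA))
    · exact hMπ p hp' (h1.trans (Subgroup.card_range_dvd ρB))
  refine ⟨K, hMK, hKπ, ?_, ?_⟩
  · intro hKA
    -- `K = M`
    have hMKeq : M.relIndex K = 1 := by
      by_contra hne
      obtain ⟨r, hr, hrd⟩ := Nat.exists_prime_and_dvd hne
      have h1 : r ∣ Nat.card K := hrd.trans (Subgroup.relIndex_dvd_card M K)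
      have h3 : r ∣ M.relIndex (alternatingGroup β) := by
        rw [← Subgroup.relIndex_mul_relIndex M K _ hMK hKA]
        exact Dvd.dvd.mul_right hrd _
      exact hMidx r hr (hKπ r hr h1) h3
    have hKM : K ≤ M := Subgroup.relIndex_eq_one.1 hMKeq
    have hcardMK : Nat.card M = Nat.card K := by
      rw [le_antisymm hMK hKM]
    -- the two factors are even groups
    have hAeven : ρA.range ≤ alternatingGroup {a // a ∈ t} := by
      intro x hx
      have hmem : φ (x, 1) ∈ K :=
        ⟨(x, 1), Subgroup.mem_prod.2 ⟨hx, Subgroup.one_mem _⟩, rfl⟩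
      have h1 := hKA hmem
      rw [Equiv.Perm.mem_alternatingGroup] at h1 ⊢
      have h3 := Equiv.Perm.sign_subtypeCongr x (1 : Perm {a // ¬ a ∈ t})
      rw [map_one, mul_one] at h3
      have h4 : φ (x, 1) = x.subtypeCongr 1 := rfl
      rw [h4, h3] at h1
      convert h1
    have hBeven : ρB.range ≤ alternatingGroup {a // ¬ a ∈ t} := by
      intro y hy
      have hmem : φ (1, y) ∈ K :=
        ⟨(1, y), Subgroup.mem_prod.2 ⟨Subgroup.one_mem _, hy⟩, rfl⟩
      have h1 := hKA hmem
      rw [Equiv.Perm.mem_alternatingGroup] at h1 ⊢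
      have h3 := Equiv.Perm.sign_subtypeCongr (1 : Perm {a // a ∈ t}) y
      rw [map_one, one_mul] at h3
      have h4 : φ (1, y) = Equiv.Perm.subtypeCongr 1 y := rfl
      rw [h4, h3] at h1
      convert h1
    have hcA : Fintype.card {a // a ∈ t} = t.card := Fintype.card_coe t
    have hcB : Fintype.card {a // ¬ a ∈ t} = Fintype.card β - t.card := by
      rw [Fintype.card_subtype_compl, Fintype.card_coe]
    have hdA := two_mul_card_dvd_factorial (by rw [hcA]; exact ht2) ρA.range hAeven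
    have hdB := two_mul_card_dvd_factorial (by rw [hcB]; omega) ρB.range hBeven
    rw [hcA] at hdA
    rw [hcB] at hdB
    have hle : t.card ≤ Fintype.card β := by omega
    have hd1 : (2 * Nat.card ρA.range) * (2 * Nat.card ρB.range) ∣ (Fintype.card β).factorial :=
      (Nat.mul_dvd_mul hdA hdB).trans (Nat.factorial_mul_factorial_dvd_factorial hle)
    have : Nontrivial β := Fintype.one_lt_card_iff_nontrivial.1 (by omega)
    have hA : 2 * Nat.card (alternatingGroup β) = (Fintype.card β).factorial := by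
      rw [Nat.card_eq_fintype_card, two_mul_card_alternatingGroup, Fintype.card_perm]
    have hcardA : Nat.card (alternatingGroup β) = Nat.card M * M.relIndex (alternatingGroup β) := by
      have h1 := (M.subgroupOf (alternatingGroup β)).card_mul_index
      rw [Nat.card_congr (Subgroup.subgroupOfEquivOfLe hMA).toEquiv] at h1
      exact h1.symm
    have hd2 : 2 * (2 * Nat.card M) ∣ 2 * (Nat.card M * M.relIndex (alternatingGroup β)) := by
      rw [← hcardA, hA, hcardMK, hKcard]
      have e : 2 * (2 * (Nat.card ρA.range * Nat.card ρB.range)) =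
          (2 * Nat.card ρA.range) * (2 * Nat.card ρB.range) := by ring
      rw [e]
      exact hd1
    have hd3 : 2 * Nat.card M ∣ Nat.card M * M.relIndex (alternatingGroup β) :=
      Nat.dvd_of_mul_dvd_mul_left two_pos hd2
    have hd4 : 2 ∣ M.relIndex (alternatingGroup β) := by
      rw [mul_comm 2 (Nat.card M)] at hd3
      exact Nat.dvd_of_mul_dvd_mul_left Nat.card_pos hd3
    exact hMidx 2 Nat.prime_two h2 hd4
  · rintro k ⟨⟨x, y⟩, -, rfl⟩ a ha
    have h1 : φ (x, y) a = ((x ⟨a, ha⟩ : {a // a ∈ t}) : β) :=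
      Equiv.Perm.subtypeCongr.left_apply x y ha
    rw [h1]
    exact (x ⟨a, ha⟩).2

end Cfsg.Agent.Lib.Helper29.HallAlt
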