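import Mathlib
import Cfsg.Agent.S0225

/-!
# A non-cyclic simple group has a Klein four-subgroup, GIVEN the Odd Order Theorem for it (helper29)

`klein_of_oddOrder` : for a finite simple non-cyclic `G`, if `Odd (Nat.card G) → IsSolvable G`
(the instance of Feit–Thompson for `G` itself), then `G` has a Klein four-subgroup.
Uses the landed `Cfsg.Agent.S0225.result` (2-rank one ⇒ an involution central modulo an odd normal
subgroup).  Intended use: the final file of S0204 once `Cfsg.Agent.S0205.result` exists.
-/

set_option autoImplicit false
open Cfsg

namespace Cfsg.Agent.Lib.Helper29.KleinOfOdd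

theorem isCyclic_of_simple_of_comm {G : Type*} [Group G] [Finite G] [IsSimpleGroup G]
    (h : ∀ a b : G, a * b = b * a) : IsCyclic G := by
  let _ : CommGroup G := { (inferInstance : Group G) with mul_comm := h }
  exact IsSimpleGroup.isCyclic

theorem klein_of_oddOrder {G : Type*} [Group G] [Finite G] [IsSimpleGroup G] (hG : ¬ IsCyclic G)
    (hFT : Odd (Nat.card G) → Group.IsSolvable G) : ∃ E : Subgroup G, IsKleinFour E := by
  classical
  -- even order
  have heven : Even (Nat.card G) := by
    by_contra hodd
    rw [Nat.not_even_iff_odd] at hodd
    have hs : Group.IsSolvable G := hFT hodd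
    exact hG (isCyclic_of_simple_of_comm (IsSimpleGroup.comm_iff_isSolvable.mpr hs))
  by_contra hno
  push Not at hno
  obtain ⟨z, hz, N, hN, hNodd, hcomm⟩ := Cfsg.Agent.S0225.result heven hno
  have _ := hN
  rcases hN.eq_bot_or_eq_top with hb | ht
  · -- z is central
    have hzc : z ∈ Subgroup.center G := by
      rw [Subgroup.mem_center_iff]
      intro g
      have h1 := hcomm g
      rw [hb, Subgroup.mem_bot] at h1
      have h2 : z * g = g * z := by
        have : z * g * z⁻¹ * g⁻¹ * g * z = g * z := by rw [h1, one_mul]
        rw [← this]; group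
      exact h2.symm
    have hz1 : z ≠ 1 := by
      intro h; rw [h, orderOf_one] at hz; omega
    have hcne : Subgroup.center G ≠ ⊥ := by
      intro h; rw [h, Subgroup.mem_bot] at hzc; exact hz1 hzc
    have hctop : Subgroup.center G = ⊤ := by
      rcases (inferInstance : (Subgroup.center G).Normal).eq_bot_or_eq_top with h | h
      · exact absurd h hcne
      · exact h
    apply hG
    apply isCyclic_of_simple_of_comm
    intro a b
    have ha : a ∈ Subgroup.center G := by rw [hctop]; exact Subgroup.mem_top a
    exact ((Subgroup.mem_center_iff.mp ha) b).symm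
  · -- N = ⊤ has odd order, but G has even order
    rw [ht] at hNodd
    have : Nat.card (⊤ : Subgroup G) = Nat.card G := Subgroup.card_top
    rw [this] at hNodd
    exact (Nat.not_even_iff_odd.mpr hNodd) heven

end Cfsg.Agent.Lib.Helper29.KleinOfOdd
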