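/-
helper29: the associated Lie ring of the lower central series of a group
(module requested by helper63 for S3779).
-/
import Mathlib

set_option autoImplicit false
set_option linter.dupNamespace false

namespace Cfsg.Agent.Lib.Helper29.LcsLie

open scoped DirectSum commutatorElement

section Basic

variable (G : Type*) [Group G]

/-- the lower central series, 0-indexed: `gam G 0 = ⊤`. -/
abbrev gam (n : ℕ) : Subgroup G := (⊤ : Subgroup G).lowerCentralSeries n

theorem gam_zero : gam G 0 = ⊤ := rfl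

theorem gam_succ (n : ℕ) : gam G (n + 1) = ⁅gam G n, (⊤ : Subgroup G)⁆ := rfl

instance gam_normal (n : ℕ) : (gam G n).Normal := by
  unfold gam; infer_instance

theorem gam_antitone {m n : ℕ} (h : m ≤ n) : gam G n ≤ gam G m :=
  Subgroup.lowerCentralSeries_antitone _ h

variable {G}

/-- Three subgroups lemma modulo a normal subgroup. -/
theorem three_subgroups_mod (M : Subgroup G) [M.Normal] {H₁ H₂ H₃ : Subgroup G}
    (h1 : ⁅⁅H₂, H₃⁆, H₁⁆ ≤ M) (h2 : ⁅⁅H₃, H₁⁆, H₂⁆ ≤ M) : ⁅⁅H₁, H₂⁆, H₃⁆ ≤ M := by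
  have key : ∀ X : Subgroup G, X ≤ M ↔ X.map (QuotientGroup.mk' M) = ⊥ := fun X => by
    rw [Subgroup.map_eq_bot_iff, QuotientGroup.ker_mk']
  rw [key, Subgroup.map_commutator, Subgroup.map_commutator] at h1 h2 ⊢
  exact Subgroup.commutator_commutator_eq_bot_of_rotate h1 h2

variable (G)

/-- `[γ_i, γ_j] ≤ γ_{i+j+1}` (0-indexed). -/
theorem comm_gam_le : ∀ (j i : ℕ), ⁅gam G i, gam G j⁆ ≤ gam G (i + j + 1)
  | 0, i => by
    rw [gam_zero, Nat.add_zero, gam_succ]
  | j + 1, i => by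
    rw [gam_succ G j, Subgroup.commutator_comm]
    apply three_subgroups_mod
    · -- ⁅⁅⊤, γ i⁆, γ j⁆
      rw [Subgroup.commutator_comm ⊤ (gam G i), ← gam_succ]
      refine le_trans (comm_gam_le j (i + 1)) (le_of_eq ?_)
      congr 1; omega
    · -- ⁅⁅γ i, γ j⁆, ⊤⁆
      refine le_trans (Subgroup.commutator_mono (comm_gam_le j i) le_rfl) ?_
      rw [← gam_succ]
      exact le_of_eq (by congr 1)

variable {G}

theorem comm_mem_gam {i j : ℕ} {x y : G} (hx : x ∈ gam G i) (hy : y ∈ gam G j) :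
    ⁅x, y⁆ ∈ gam G (i + j + 1) :=
  comm_gam_le G j i (Subgroup.commutator_mem_commutator hx hy)

theorem comm_mem_gam_left {i : ℕ} {x : G} (hx : x ∈ gam G i) (g : G) :
    ⁅x, g⁆ ∈ gam G (i + 1) :=
  Subgroup.commutator_mem_commutator hx (Subgroup.mem_top g)

theorem comm_mem_gam_right {i : ℕ} {x : G} (hx : x ∈ gam G i) (g : G) :
    ⁅g, x⁆ ∈ gam G (i + 1) := by
  have := (gam G (i+1)).inv_mem (comm_mem_gam_left hx g)
  rwa [commutatorElement_inv] at this

theorem conj_mem_gam {i : ℕ} {x : G} (hx : x ∈ gam G i) (g : G) :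
    g * x * g⁻¹ ∈ gam G i :=
  (gam_normal G i).conj_mem x hx g

theorem mem_gam_of_eq {m n : ℕ} (h : m = n) {x : G} (hx : x ∈ gam G m) : x ∈ gam G n :=
  h ▸ hx

end Basic

section Factors

variable (G : Type*) [Group G]

/-- the `n`-th factor `γ_n / γ_{n+1}` of the lower central series, as a (multiplicative) group. -/
abbrev Fac (n : ℕ) : Type _ := gam G n ⧸ (gam G (n + 1)).subgroupOf (gam G n)

variable {G}

/-- the class of `c ∈ γ_k` in `γ_k / γ_{k+1}`. -/
def cl (k : ℕ) (c : G) (hc : c ∈ gam G k) : Fac G k :=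
  QuotientGroup.mk (⟨c, hc⟩ : gam G k)

theorem cl_congr {k : ℕ} {c d : G} (h : c = d) (hc : c ∈ gam G k) (hd : d ∈ gam G k) :
    cl k c hc = cl k d hd := by
  subst h; rfl

theorem cl_eq_iff {k : ℕ} {c d : G} (hc : c ∈ gam G k) (hd : d ∈ gam G k) :
    cl k c hc = cl k d hd ↔ c⁻¹ * d ∈ gam G (k + 1) := by
  unfold cl
  rw [QuotientGroup.eq, Subgroup.mem_subgroupOf]
  rfl

theorem cl_eq_one_iff {k : ℕ} {c : G} (hc : c ∈ gam G k) :
    cl k c hc = 1 ↔ c ∈ gam G (k + 1) := by
  unfold cl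
  rw [QuotientGroup.eq_one_iff, Subgroup.mem_subgroupOf]

theorem cl_mul {k : ℕ} {c d : G} (hc : c ∈ gam G k) (hd : d ∈ gam G k)
    (hcd : c * d ∈ gam G k) : cl k (c * d) hcd = cl k c hc * cl k d hd := rfl

theorem cl_one {k : ℕ} (h1 : (1 : G) ∈ gam G k) : cl k 1 h1 = 1 := rfl

theorem cl_inv {k : ℕ} {c : G} (hc : c ∈ gam G k) (hc' : c⁻¹ ∈ gam G k) :
    cl k c⁻¹ hc' = (cl k c hc)⁻¹ := rfl

theorem cl_conj {k : ℕ} {c : G} (hc : c ∈ gam G k) (g : G) (hg : g * c * g⁻¹ ∈ gam G k) :
    cl k (g * c * g⁻¹) hg = cl k c hc := by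
  rw [cl_eq_iff]
  have h := comm_mem_gam_right ((gam G k).inv_mem hc) g
  have e : ⁅g, c⁻¹⁆ = (g * c * g⁻¹)⁻¹ * c := by
    rw [commutatorElement_def]; group
  rw [e] at h
  -- (g c g⁻¹)⁻¹ * c ∈ γ (k+1)
  exact h

theorem cl_surj {k : ℕ} (t : Fac G k) : ∃ (c : G) (hc : c ∈ gam G k), cl k c hc = t := by
  induction t using QuotientGroup.induction_on with
  | H z => exact ⟨z.1, z.2, rfl⟩

instance facCommGroup (n : ℕ) : CommGroup (Fac G n) :=
  { (inferInstance : Group (Fac G n)) with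
    mul_comm := by
      intro a b
      obtain ⟨c, hc, rfl⟩ := cl_surj a
      obtain ⟨d, hd, rfl⟩ := cl_surj b
      rw [← cl_mul hc hd (mul_mem hc hd), ← cl_mul hd hc (mul_mem hd hc), cl_eq_iff]
      have h := comm_mem_gam_left ((gam G n).inv_mem hd) c⁻¹
      have e : ⁅d⁻¹, c⁻¹⁆ = (c * d)⁻¹ * (d * c) := by
        rw [commutatorElement_def]; group
      rwa [e] at h }

end Factors

section FacBracket

variable {G : Type*} [Group G]

theorem comm_mul_right_eq (x y y' : G) : ⁅x, y * y'⁆ = ⁅x, y⁆ * (y * ⁅x, y'⁆ * y⁻¹) := by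
  simp only [commutatorElement_def]; group

theorem comm_mul_left_eq (x x' y : G) : ⁅x * x', y⁆ = x * ⁅x', y⁆ * x⁻¹ * ⁅x, y⁆ := by
  simp only [commutatorElement_def]; group

/-- class of `[x, y y']`. -/
theorem cl_comm_mul_right {i j : ℕ} {x y y' : G} (hx : x ∈ gam G i) (hy : y ∈ gam G j)
    (hy' : y' ∈ gam G j) :
    cl (i + j + 1) ⁅x, y * y'⁆ (comm_mem_gam hx (mul_mem hy hy')) =
      cl (i + j + 1) ⁅x, y⁆ (comm_mem_gam hx hy) * cl (i + j + 1) ⁅x, y'⁆ (comm_mem_gam hx hy') := by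
  have h1 := comm_mem_gam hx hy
  have h2 := comm_mem_gam hx hy'
  rw [cl_congr (comm_mul_right_eq x y y') _ (mul_mem h1 (conj_mem_gam h2 y)),
    cl_mul h1 (conj_mem_gam h2 y), cl_conj h2]

/-- class of `[x x', y]`. -/
theorem cl_comm_mul_left {i j : ℕ} {x x' y : G} (hx : x ∈ gam G i) (hx' : x' ∈ gam G i)
    (hy : y ∈ gam G j) :
    cl (i + j + 1) ⁅x * x', y⁆ (comm_mem_gam (mul_mem hx hx') hy) =
      cl (i + j + 1) ⁅x, y⁆ (comm_mem_gam hx hy) * cl (i + j + 1) ⁅x', y⁆ (comm_mem_gam hx' hy) := by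
  have h1 := comm_mem_gam hx hy
  have h2 := comm_mem_gam hx' hy
  rw [cl_congr (comm_mul_left_eq x x' y) _ (mul_mem (conj_mem_gam h2 x) h1),
    cl_mul (conj_mem_gam h2 x) h1, cl_conj h2, mul_comm]

theorem cl_comm_eq_one_of_right {i j : ℕ} {x y : G} (hx : x ∈ gam G i) (hy : y ∈ gam G (j + 1)) :
    cl (i + j + 1) ⁅x, y⁆ (comm_mem_gam hx (gam_antitone G (Nat.le_succ j) hy)) = 1 := by
  rw [cl_eq_one_iff]
  exact mem_gam_of_eq (by omega) (comm_mem_gam hx hy)

theorem cl_comm_eq_one_of_left {i j : ℕ} {x y : G} (hx : x ∈ gam G (i + 1)) (hy : y ∈ gam G j) :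
    cl (i + j + 1) ⁅x, y⁆ (comm_mem_gam (gam_antitone G (Nat.le_succ i) hx) hy) = 1 := by
  rw [cl_eq_one_iff]
  exact mem_gam_of_eq (by omega) (comm_mem_gam hx hy)

/-- for fixed `x ∈ γ_i`, the map `y ↦ [x,y] mod γ_{i+j+2}` on `γ_j`. -/
def brL (i j : ℕ) (x : G) (hx : x ∈ gam G i) : gam G j →* Fac G (i + j + 1) where
  toFun y := cl (i + j + 1) ⁅x, (y : G)⁆ (comm_mem_gam hx y.2)
  map_one' := by
    rw [cl_eq_one_iff]
    simp
  map_mul' y y' := cl_comm_mul_right hx y.2 y'.2

theorem brL_apply (i j : ℕ) (x : G) (hx : x ∈ gam G i) (y : gam G j) :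
    brL i j x hx y = cl (i + j + 1) ⁅x, (y : G)⁆ (comm_mem_gam hx y.2) := rfl

/-- for fixed `x ∈ γ_i`, the induced map `γ_j/γ_{j+1} → γ_{i+j+1}/γ_{i+j+2}`. -/
def brL' (i j : ℕ) (x : G) (hx : x ∈ gam G i) : Fac G j →* Fac G (i + j + 1) :=
  QuotientGroup.lift _ (brL i j x hx) (by
    intro y hy
    rw [Subgroup.mem_subgroupOf] at hy
    rw [MonoidHom.mem_ker, brL_apply]
    exact cl_comm_eq_one_of_right hx hy)

theorem brL'_cl (i j : ℕ) (x : G) (hx : x ∈ gam G i) (y : G) (hy : y ∈ gam G j) :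
    brL' i j x hx (cl j y hy) = cl (i + j + 1) ⁅x, y⁆ (comm_mem_gam hx hy) := rfl

/-- the map `x ↦ brL' x` on `γ_i`. -/
def brR (i j : ℕ) : gam G i →* (Fac G j →* Fac G (i + j + 1)) where
  toFun x := brL' i j x.1 x.2
  map_one' := by
    refine MonoidHom.ext fun t => ?_
    obtain ⟨y, hy, rfl⟩ := cl_surj t
    rw [brL'_cl, MonoidHom.one_apply, cl_eq_one_iff]
    simp
  map_mul' x x' := by
    refine MonoidHom.ext fun t => ?_
    obtain ⟨y, hy, rfl⟩ := cl_surj t
    rw [MonoidHom.mul_apply, brL'_cl, brL'_cl, brL'_cl]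
    exact cl_comm_mul_left x.2 x'.2 hy

/-- the bracket on factors, multiplicatively. -/
def brM (i j : ℕ) : Fac G i →* (Fac G j →* Fac G (i + j + 1)) :=
  QuotientGroup.lift _ (brR i j) (by
    intro x hx
    rw [Subgroup.mem_subgroupOf] at hx
    rw [MonoidHom.mem_ker]
    refine MonoidHom.ext fun t => ?_
    obtain ⟨y, hy, rfl⟩ := cl_surj t
    show brL' i j x.1 x.2 (cl j y hy) = 1
    rw [brL'_cl]
    exact cl_comm_eq_one_of_left hx hy)

theorem brM_cl (i j : ℕ) (x y : G) (hx : x ∈ gam G i) (hy : y ∈ gam G j) :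
    brM i j (cl i x hx) (cl j y hy) = cl (i + j + 1) ⁅x, y⁆ (comm_mem_gam hx hy) := rfl

end FacBracket

section DirectSumLevel

variable (G : Type*) [Group G]

/-- additive version of the `n`-th factor. -/
abbrev Lc (n : ℕ) : Type _ := Additive (Fac G n)

/-- the underlying direct sum `⨁ n, γ_n / γ_{n+1}`. -/
abbrev DS : Type _ := ⨁ n, Lc G n

variable {G}

/-- the additive bracket on factors. -/
def br (i j : ℕ) : Lc G i →+ Lc G j →+ Lc G (i + j + 1) where
  toFun a := MonoidHom.toAdditive (brM i j a.toMul)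
  map_zero' := by
    refine AddMonoidHom.ext fun b => ?_
    simp
  map_add' a a' := by
    refine AddMonoidHom.ext fun b => ?_
    simp

theorem br_apply (i j : ℕ) (a : Lc G i) (b : Lc G j) :
    br i j a b = Additive.ofMul (brM i j a.toMul b.toMul) := rfl

/-- the bracket as a biadditive map on the direct sum. -/
def lieHom : DS G →+ DS G →+ DS G :=
  DirectSum.toAddMonoid fun i =>
    AddMonoidHom.flip <|
      DirectSum.toAddMonoid fun j =>
        AddMonoidHom.flip <|
          (DirectSum.of (fun n => Lc G n) (i + j + 1)).compHom.comp <| br i j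

theorem lieHom_of_of (i j : ℕ) (a : Lc G i) (b : Lc G j) :
    lieHom (DirectSum.of (fun n => Lc G n) i a) (DirectSum.of (fun n => Lc G n) j b) =
      DirectSum.of (fun n => Lc G n) (i + j + 1) (br i j a b) := by
  simp [lieHom]

/-- the homogeneous element of degree `n` defined by `x ∈ γ_n` (direct sum level). -/
def iotaD (n : ℕ) (x : G) (hx : x ∈ gam G n) : DS G :=
  DirectSum.of (fun n => Lc G n) n (Additive.ofMul (cl n x hx))

theorem iotaD_congr {m n : ℕ} (h : m = n) {x y : G} (hxy : x = y) (hx : x ∈ gam G m)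
    (hy : y ∈ gam G n) : iotaD m x hx = iotaD n y hy := by
  subst h; subst hxy; rfl

theorem iotaD_mul {n : ℕ} {x y : G} (hx : x ∈ gam G n) (hy : y ∈ gam G n)
    (hxy : x * y ∈ gam G n) :
    iotaD n (x * y) hxy = iotaD n x hx + iotaD n y hy := by
  unfold iotaD
  rw [← map_add]
  rfl

theorem iotaD_one (n : ℕ) (h1 : (1 : G) ∈ gam G n) : iotaD n (1 : G) h1 = 0 := by
  unfold iotaD
  exact map_zero _

theorem iotaD_inv {n : ℕ} {x : G} (hx : x ∈ gam G n) (hx' : x⁻¹ ∈ gam G n) :
    iotaD n x⁻¹ hx' = - iotaD n x hx := by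
  unfold iotaD
  rw [← map_neg]
  rfl

theorem iotaD_conj {n : ℕ} {x : G} (hx : x ∈ gam G n) (g : G) (hg : g * x * g⁻¹ ∈ gam G n) :
    iotaD n (g * x * g⁻¹) hg = iotaD n x hx := by
  unfold iotaD
  rw [cl_conj hx]

theorem iotaD_eq_zero_iff {n : ℕ} {x : G} (hx : x ∈ gam G n) :
    iotaD n x hx = 0 ↔ x ∈ gam G (n + 1) := by
  unfold iotaD
  rw [← cl_eq_one_iff hx]
  constructor
  · intro h
    have h2 : DirectSum.of (fun n => Lc G n) n (Additive.ofMul (cl n x hx)) =
        DirectSum.of (fun n => Lc G n) n 0 := by rw [map_zero]; exact h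
    have := DirectSum.of_injective (β := fun n => Lc G n) n h2
    exact this
  · intro h
    rw [h]
    exact map_zero _

theorem lieHom_iotaD {i j : ℕ} {x y : G} (hx : x ∈ gam G i) (hy : y ∈ gam G j)
    (hxy : ⁅x, y⁆ ∈ gam G (i + j + 1)) :
    lieHom (iotaD i x hx) (iotaD j y hy) = iotaD (i + j + 1) ⁅x, y⁆ hxy := by
  unfold iotaD
  rw [lieHom_of_of]
  rfl

/-- induction principle: every element is a sum of homogeneous elements. -/
theorem inductionD (P : DS G → Prop) (h0 : P 0)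
    (hi : ∀ (n : ℕ) (x : G) (hx : x ∈ gam G n), P (iotaD n x hx))
    (ha : ∀ a b, P a → P b → P (a + b)) : ∀ a, P a := by
  intro a
  refine DirectSum.induction_on (motive := P) a h0 ?_ ha
  intro n t
  obtain ⟨c, hc, hcl⟩ := cl_surj (Additive.toMul t)
  have : t = Additive.ofMul (cl n c hc) := by rw [hcl]; rfl
  rw [this]
  exact hi n c hc

theorem lieHom_add_left (a b c : DS G) : lieHom (a + b) c = lieHom a c + lieHom b c := by
  rw [map_add]; rfl

theorem lieHom_add_right (a b c : DS G) : lieHom a (b + c) = lieHom a b + lieHom a c :=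
  map_add _ _ _

theorem lieHom_skew : ∀ a b : DS G, lieHom a b + lieHom b a = 0 := by
  refine inductionD _ ?_ ?_ ?_
  · intro b; simp
  · intro i x hx
    refine inductionD _ ?_ ?_ ?_
    · simp
    · intro j y hy
      have hxy := comm_mem_gam hx hy
      have hyx : ⁅y, x⁆ ∈ gam G (i + j + 1) := mem_gam_of_eq (by omega) (comm_mem_gam hy hx)
      rw [lieHom_iotaD hx hy hxy, lieHom_iotaD hy hx (comm_mem_gam hy hx),
        iotaD_congr (show j + i + 1 = i + j + 1 by omega) rfl _ hyx,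
        ← iotaD_mul hxy hyx (mul_mem hxy hyx)]
      have e : ⁅x, y⁆ * ⁅y, x⁆ = 1 := by
        simp only [commutatorElement_def]; group
      rw [iotaD_congr rfl e _ (one_mem _), iotaD_one]
    · intro b c hb hc
      rw [map_add, map_add, AddMonoidHom.add_apply]
      calc lieHom (iotaD i x hx) b + lieHom (iotaD i x hx) c +
            (lieHom b (iotaD i x hx) + lieHom c (iotaD i x hx))
          = (lieHom (iotaD i x hx) b + lieHom b (iotaD i x hx)) +
            (lieHom (iotaD i x hx) c + lieHom c (iotaD i x hx)) := by abel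
        _ = 0 := by rw [hb, hc, add_zero]
  · intro a a' ha ha' b
    rw [map_add, map_add, AddMonoidHom.add_apply]
    calc lieHom a b + lieHom a' b + (lieHom b a + lieHom b a')
        = (lieHom a b + lieHom b a) + (lieHom a' b + lieHom b a') := by abel
      _ = 0 := by rw [ha b, ha' b, add_zero]

theorem lieHom_skew' (a b : DS G) : lieHom a b = - lieHom b a :=
  eq_neg_of_add_eq_zero_left (lieHom_skew a b)

theorem lieHom_self : ∀ a : DS G, lieHom a a = 0 := by
  refine inductionD _ ?_ ?_ ?_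
  · simp
  · intro n x hx
    rw [lieHom_iotaD hx hx (comm_mem_gam hx hx),
      iotaD_congr rfl (commutatorElement_self x) _ (one_mem _), iotaD_one]
  · intro a b ha hb
    rw [map_add, map_add, AddMonoidHom.add_apply, AddMonoidHom.add_apply, ha, hb]
    have := lieHom_skew a b
    calc 0 + lieHom b a + (lieHom a b + 0) = lieHom a b + lieHom b a := by abel
      _ = 0 := this

/-- the cyclic Jacobi identity for homogeneous elements, from the Hall-Witt identity. -/
theorem jacobi_iotaD {i j k : ℕ} {x y z : G} (hx : x ∈ gam G i) (hy : y ∈ gam G j)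
    (hz : z ∈ gam G k) :
    lieHom (iotaD j y hy) (lieHom (iotaD i x hx) (iotaD k z hz)) +
      lieHom (iotaD i x hx) (lieHom (iotaD k z hz) (iotaD j y hy)) +
      lieHom (iotaD k z hz) (lieHom (iotaD j y hy) (iotaD i x hx)) = 0 := by
  have hx' := (gam G i).inv_mem hx
  have hy' := (gam G j).inv_mem hy
  have hz' := (gam G k).inv_mem hz
  -- replace each inner left argument by the inverse
  have e1 : lieHom (iotaD j y hy) (lieHom (iotaD i x hx) (iotaD k z hz)) =
      - lieHom (iotaD j y hy) (lieHom (iotaD i x⁻¹ hx') (iotaD k z hz)) := by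
    rw [iotaD_inv hx hx', map_neg, AddMonoidHom.neg_apply, map_neg, neg_neg]
  have e2 : lieHom (iotaD i x hx) (lieHom (iotaD k z hz) (iotaD j y hy)) =
      - lieHom (iotaD i x hx) (lieHom (iotaD k z⁻¹ hz') (iotaD j y hy)) := by
    rw [iotaD_inv hz hz', map_neg, AddMonoidHom.neg_apply, map_neg, neg_neg]
  have e3 : lieHom (iotaD k z hz) (lieHom (iotaD j y hy) (iotaD i x hx)) =
      - lieHom (iotaD k z hz) (lieHom (iotaD j y⁻¹ hy') (iotaD i x hx)) := by
    rw [iotaD_inv hy hy', map_neg, AddMonoidHom.neg_apply, map_neg, neg_neg]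
  rw [e1, e2, e3]
  -- now compute
  have h1a := comm_mem_gam hx' hz
  have h1 := comm_mem_gam hy h1a
  have h2a := comm_mem_gam hz' hy
  have h2 := comm_mem_gam hx h2a
  have h3a := comm_mem_gam hy' hx
  have h3 := comm_mem_gam hz h3a
  rw [lieHom_iotaD hx' hz h1a, lieHom_iotaD hy h1a h1,
    lieHom_iotaD hz' hy h2a, lieHom_iotaD hx h2a h2,
    lieHom_iotaD hy' hx h3a, lieHom_iotaD hz h3a h3]
  -- common index
  have g1 : ⁅y, ⁅x⁻¹, z⁆⁆ ∈ gam G (i + j + k + 2) := mem_gam_of_eq (by omega) h1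
  have g2 : ⁅x, ⁅z⁻¹, y⁆⁆ ∈ gam G (i + j + k + 2) := mem_gam_of_eq (by omega) h2
  have g3 : ⁅z, ⁅y⁻¹, x⁆⁆ ∈ gam G (i + j + k + 2) := mem_gam_of_eq (by omega) h3
  rw [iotaD_congr (show j + (i + k + 1) + 1 = i + j + k + 2 by omega) rfl h1 g1,
    iotaD_congr (show i + (k + j + 1) + 1 = i + j + k + 2 by omega) rfl h2 g2,
    iotaD_congr (show k + (j + i + 1) + 1 = i + j + k + 2 by omega) rfl h3 g3]
  -- conjugate
  have c1 := conj_mem_gam g1 x
  have c2 := conj_mem_gam g2 z
  have c3 := conj_mem_gam g3 y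
  rw [← iotaD_conj g1 x c1, ← iotaD_conj g2 z c2, ← iotaD_conj g3 y c3,
    ← neg_add, ← neg_add, neg_eq_zero,
    ← iotaD_mul c1 c2 (mul_mem c1 c2), ← iotaD_mul (mul_mem c1 c2) c3 (mul_mem (mul_mem c1 c2) c3)]
  have hw : (x * ⁅y, ⁅x⁻¹, z⁆⁆ * x⁻¹) * (z * ⁅x, ⁅z⁻¹, y⁆⁆ * z⁻¹) * (y * ⁅z, ⁅y⁻¹, x⁆⁆ * y⁻¹) = 1 := by
    simp only [commutatorElement_def]; group
  rw [iotaD_congr rfl hw _ (one_mem _), iotaD_one]

/-- Leibniz form of the Jacobi identity for homogeneous elements. -/
theorem leibniz_iotaD {i j k : ℕ} {x y z : G} (hx : x ∈ gam G i) (hy : y ∈ gam G j)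
    (hz : z ∈ gam G k) :
    lieHom (iotaD i x hx) (lieHom (iotaD j y hy) (iotaD k z hz)) =
      lieHom (lieHom (iotaD i x hx) (iotaD j y hy)) (iotaD k z hz) +
        lieHom (iotaD j y hy) (lieHom (iotaD i x hx) (iotaD k z hz)) := by
  have J := jacobi_iotaD hx hy hz
  set X := iotaD i x hx
  set Y := iotaD j y hy
  set Z := iotaD k z hz
  have s1 : lieHom X (lieHom Z Y) = - lieHom X (lieHom Y Z) := by
    rw [lieHom_skew' Z Y, map_neg]
  have s2 : lieHom Z (lieHom Y X) = lieHom (lieHom X Y) Z := by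
    rw [lieHom_skew' Z (lieHom Y X), lieHom_skew' Y X, map_neg, AddMonoidHom.neg_apply, neg_neg]
  rw [s1, s2] at J
  -- J : [Y,[X,Z]] + -[X,[Y,Z]] + [[X,Y],Z] = 0
  have : lieHom X (lieHom Y Z) = lieHom Y (lieHom X Z) + lieHom (lieHom X Y) Z := by
    have h := J
    rw [add_comm (lieHom Y (lieHom X Z)) _, add_assoc, neg_add_eq_zero] at h
    exact h
  rw [this, add_comm]

theorem lieHom_leibniz : ∀ a b c : DS G,
    lieHom a (lieHom b c) = lieHom (lieHom a b) c + lieHom b (lieHom a c) := by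
  refine inductionD _ ?_ ?_ ?_
  · intro b c; simp
  · intro i x hx
    refine inductionD _ ?_ ?_ ?_
    · intro c; simp
    · intro j y hy
      refine inductionD _ ?_ ?_ ?_
      · simp
      · intro k z hz
        exact leibniz_iotaD hx hy hz
      · intro c c' hc hc'
        simp only [map_add, hc, hc']
        abel
    · intro b b' hb hb' c
      simp only [map_add, AddMonoidHom.add_apply, hb c, hb' c]
      abel
  · intro a a' ha ha' b c
    simp only [map_add, AddMonoidHom.add_apply, ha b c, ha' b c]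
    abel

end DirectSumLevel

section AutLevel

variable {G : Type*} [Group G]

theorem aut_mem_gam (α : MulAut G) {n : ℕ} {x : G} (hx : x ∈ gam G n) : α x ∈ gam G n := by
  have h : (gam G n).map α.toMonoidHom = gam G n := by
    unfold gam
    rw [Subgroup.map_lowerCentralSeries, Subgroup.map_top_of_surjective _ α.surjective]
  rw [← h]
  exact Subgroup.mem_map_of_mem _ hx

/-- the map induced by an automorphism on `γ_n`, with values in the factor. -/
def facMapL (α : MulAut G) (n : ℕ) : gam G n →* Fac G n where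
  toFun y := cl n (α (y : G)) (aut_mem_gam α y.2)
  map_one' := by
    rw [cl_eq_one_iff]
    simp
  map_mul' y y' := by
    have e : α ((y * y' : gam G n) : G) = α (y : G) * α (y' : G) := by
      rw [Subgroup.coe_mul, map_mul]
    rw [cl_congr e _ (mul_mem (aut_mem_gam α y.2) (aut_mem_gam α y'.2))]
    rfl

/-- the map induced by an automorphism on the factor `γ_n/γ_{n+1}`. -/
def facMap (α : MulAut G) (n : ℕ) : Fac G n →* Fac G n :=
  QuotientGroup.lift _ (facMapL α n) (by
    intro y hy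
    rw [Subgroup.mem_subgroupOf] at hy
    rw [MonoidHom.mem_ker]
    show cl n (α (y : G)) _ = 1
    rw [cl_eq_one_iff]
    exact aut_mem_gam α hy)

theorem facMap_cl (α : MulAut G) (n : ℕ) (x : G) (hx : x ∈ gam G n) :
    facMap α n (cl n x hx) = cl n (α x) (aut_mem_gam α hx) := rfl

/-- the additive endomorphism of the direct sum induced by an automorphism. -/
def mapD (α : MulAut G) : DS G →+ DS G :=
  DirectSum.map (fun n => MonoidHom.toAdditive (facMap α n))

theorem mapD_iotaD (α : MulAut G) {n : ℕ} {x : G} (hx : x ∈ gam G n) :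
    mapD α (iotaD n x hx) = iotaD n (α x) (aut_mem_gam α hx) := by
  unfold mapD iotaD
  rw [DirectSum.map_of]
  rfl

theorem mapD_lieHom (α : MulAut G) : ∀ a b : DS G,
    mapD α (lieHom a b) = lieHom (mapD α a) (mapD α b) := by
  refine inductionD _ ?_ ?_ ?_
  · intro b; simp
  · intro i x hx
    refine inductionD _ ?_ ?_ ?_
    · simp
    · intro j y hy
      have hxy := comm_mem_gam hx hy
      rw [lieHom_iotaD hx hy hxy, mapD_iotaD, mapD_iotaD, mapD_iotaD,
        lieHom_iotaD (aut_mem_gam α hx) (aut_mem_gam α hy)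
          (comm_mem_gam (aut_mem_gam α hx) (aut_mem_gam α hy))]
      exact iotaD_congr rfl (map_commutatorElement α x y) _ _
    · intro b c hb hc
      simp only [map_add, hb, hc]
  · intro a a' ha ha' b
    simp only [map_add, AddMonoidHom.add_apply, ha b, ha' b]

theorem mapD_one : mapD (1 : MulAut G) = AddMonoidHom.id (DS G) := by
  refine AddMonoidHom.ext fun a => ?_
  revert a
  refine inductionD _ ?_ ?_ ?_
  · simp
  · intro n x hx
    rw [mapD_iotaD]
    rfl
  · intro a b ha hb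
    simp only [map_add, ha, hb]

theorem mapD_mul (α β : MulAut G) : mapD (α * β) = (mapD α).comp (mapD β) := by
  refine AddMonoidHom.ext fun a => ?_
  revert a
  refine inductionD _ ?_ ?_ ?_
  · simp
  · intro n x hx
    rw [AddMonoidHom.comp_apply, mapD_iotaD, mapD_iotaD, mapD_iotaD]
    rfl
  · intro a b ha hb
    simp only [map_add, ha, hb]

end AutLevel

/-! ### The public interface -/

section Public

variable (G : Type*) [Group G]

/-- The associated Lie ring of the lower central series: `⨁ n, γ_n / γ_{n+1}`. -/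
def LcsLie : Type _ := DS G

instance instAddCommGroupLcsLie : AddCommGroup (LcsLie G) :=
  inferInstanceAs (AddCommGroup (DS G))

instance instLieRingLcsLie : LieRing (LcsLie G) :=
  { (instAddCommGroupLcsLie G) with
    bracket := fun a b => lieHom (G := G) a b
    add_lie := fun a b c => lieHom_add_left (G := G) a b c
    lie_add := fun a b c => lieHom_add_right (G := G) a b c
    lie_self := fun a => lieHom_self a
    leibniz_lie := fun a b c => lieHom_leibniz a b c }

variable {G}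

theorem lie_def (a b : LcsLie G) : ⁅a, b⁆ = lieHom (G := G) a b := rfl

/-- the homogeneous element of degree `n` defined by `x ∈ γ_n`. -/
def iota (n : ℕ) (x : G) (hx : x ∈ gam G n) : LcsLie G := iotaD n x hx

theorem iota_congr {m n : ℕ} (h : m = n) {x y : G} (hxy : x = y) (hx : x ∈ gam G m)
    (hy : y ∈ gam G n) : iota m x hx = iota n y hy :=
  iotaD_congr h hxy hx hy

theorem iota_mul {n : ℕ} {x y : G} (hx : x ∈ gam G n) (hy : y ∈ gam G n) :
    iota n (x * y) (mul_mem hx hy) = iota n x hx + iota n y hy :=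
  iotaD_mul hx hy _

theorem iota_one (n : ℕ) : iota n (1 : G) (one_mem _) = 0 :=
  iotaD_one n _

theorem iota_inv {n : ℕ} {x : G} (hx : x ∈ gam G n) :
    iota n x⁻¹ (inv_mem hx) = - iota n x hx :=
  iotaD_inv hx _

theorem iota_conj {n : ℕ} {x : G} (hx : x ∈ gam G n) (g : G) :
    iota n (g * x * g⁻¹) (conj_mem_gam hx g) = iota n x hx :=
  iotaD_conj hx g _

theorem iota_eq_zero_iff {n : ℕ} {x : G} (hx : x ∈ gam G n) :
    iota n x hx = 0 ↔ x ∈ gam G (n + 1) :=
  iotaD_eq_zero_iff hx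

theorem iota_eq_iota_iff {n : ℕ} {x y : G} (hx : x ∈ gam G n) (hy : y ∈ gam G n) :
    iota n x hx = iota n y hy ↔ x⁻¹ * y ∈ gam G (n + 1) := by
  rw [← iota_eq_zero_iff (mul_mem (inv_mem hx) hy), iota_mul (inv_mem hx) hy, iota_inv hx,
    neg_add_eq_zero]

theorem lie_iota {i j : ℕ} {x y : G} (hx : x ∈ gam G i) (hy : y ∈ gam G j) :
    ⁅iota i x hx, iota j y hy⁆ = iota (i + j + 1) ⁅x, y⁆ (comm_mem_gam hx hy) :=
  lieHom_iotaD hx hy _

/-- induction principle: every element is a sum of homogeneous elements `iota n x`. -/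
theorem induction_on (P : LcsLie G → Prop) (h0 : P 0)
    (hi : ∀ (n : ℕ) (x : G) (hx : x ∈ gam G n), P (iota n x hx))
    (ha : ∀ a b, P a → P b → P (a + b)) : ∀ a, P a :=
  inductionD P h0 hi ha

/-- the additive endomorphism induced by an automorphism of `G`. -/
def map (α : MulAut G) : LcsLie G →+ LcsLie G := mapD α

theorem map_iota (α : MulAut G) {n : ℕ} {x : G} (hx : x ∈ gam G n) :
    map α (iota n x hx) = iota n (α x) (aut_mem_gam α hx) :=
  mapD_iotaD α hx

theorem map_lie (α : MulAut G) (a b : LcsLie G) : map α ⁅a, b⁆ = ⁅map α a, map α b⁆ :=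
  mapD_lieHom α a b

theorem map_one : map (1 : MulAut G) = AddMonoidHom.id (LcsLie G) :=
  mapD_one

theorem map_mul (α β : MulAut G) : map (α * β) = (map α).comp (map β) :=
  mapD_mul α β

theorem map_pow (α : MulAut G) (k : ℕ) (a : LcsLie G) : map (α ^ k) a = (map α)^[k] a := by
  induction k generalizing a with
  | zero => rw [pow_zero, map_one]; rfl
  | succ k ih =>
    rw [pow_succ, map_mul, AddMonoidHom.comp_apply, ih, ← Function.iterate_succ_apply]

end Public

end Cfsg.Agent.Lib.Helper29.LcsLie
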