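/-
helper29: glue lemmas for the associated Lie ring of the lower central series
(homogeneous components, nilpotency transfer, fixed-point-free automorphisms).
-/
import Cfsg.Agent.Lib.Helper29.LcsLie

set_option autoImplicit false
set_option linter.dupNamespace false

namespace Cfsg.Agent.Lib.Helper29.LcsLie

open scoped DirectSum commutatorElement

section Homog

variable {G : Type*} [Group G]

/-- the homogeneous component of degree `n`, as an additive subgroup. -/
def homog (n : ℕ) : AddSubgroup (LcsLie G) where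
  carrier := {a | ∃ (x : G) (hx : x ∈ gam G n), a = iota n x hx}
  zero_mem' := ⟨1, one_mem _, (iota_one n).symm⟩
  add_mem' := by
    rintro a b ⟨x, hx, rfl⟩ ⟨y, hy, rfl⟩
    exact ⟨x * y, mul_mem hx hy, (iota_mul hx hy).symm⟩
  neg_mem' := by
    rintro a ⟨x, hx, rfl⟩
    exact ⟨x⁻¹, inv_mem hx, (iota_inv hx).symm⟩

theorem mem_homog_iff {n : ℕ} {a : LcsLie G} :
    a ∈ homog n ↔ ∃ (x : G) (hx : x ∈ gam G n), a = iota n x hx := Iff.rfl

theorem iota_mem_homog {n : ℕ} {x : G} (hx : x ∈ gam G n) : iota n x hx ∈ homog n :=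
  ⟨x, hx, rfl⟩

theorem lie_mem_homog {i j : ℕ} {a b : LcsLie G} (ha : a ∈ homog i) (hb : b ∈ homog j) :
    ⁅a, b⁆ ∈ homog (i + j + 1) := by
  obtain ⟨x, hx, rfl⟩ := ha
  obtain ⟨y, hy, rfl⟩ := hb
  rw [lie_iota hx hy]
  exact iota_mem_homog _

theorem map_mem_homog (α : MulAut G) {n : ℕ} {a : LcsLie G} (ha : a ∈ homog n) :
    map α a ∈ homog n := by
  obtain ⟨x, hx, rfl⟩ := ha
  rw [map_iota]
  exact iota_mem_homog _

/-- the component of degree `n+1` is spanned by the brackets of the component of degree `n`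
with elements of degree `0`. -/
theorem homog_succ_le (n : ℕ) :
    (homog (n + 1) : AddSubgroup (LcsLie G)) ≤
      AddSubgroup.closure {a | ∃ (u : G) (hu : u ∈ gam G n) (g : G),
        a = ⁅iota n u hu, iota 0 g (Subgroup.mem_top g)⁆} := by
  set S : AddSubgroup (LcsLie G) := AddSubgroup.closure {a | ∃ (u : G) (hu : u ∈ gam G n) (g : G),
        a = ⁅iota n u hu, iota 0 g (Subgroup.mem_top g)⁆} with hS
  rintro a ⟨x, hx, rfl⟩
  have key : ∀ y ∈ ⁅gam G n, (⊤ : Subgroup G)⁆, ∀ hy : y ∈ gam G (n + 1), iota (n + 1) y hy ∈ S := by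
    intro y hy
    refine Subgroup.closure_induction (p := fun y _ => ∀ hy : y ∈ gam G (n + 1),
      iota (n + 1) y hy ∈ S) ?_ ?_ ?_ ?_ hy
    · rintro z ⟨u, hu, g, _, rfl⟩ hz
      apply AddSubgroup.subset_closure
      refine ⟨u, hu, g, ?_⟩
      rw [lie_iota hu (Subgroup.mem_top g)]
    · intro h1
      rw [iota_one]
      exact S.zero_mem
    · intro y z _ _ ihy ihz hyz
      have hy' : y ∈ gam G (n + 1) := by rwa [gam_succ]
      have hz' : z ∈ gam G (n + 1) := by rwa [gam_succ]
      rw [iota_congr rfl rfl hyz (mul_mem hy' hz'), iota_mul hy' hz']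
      exact S.add_mem (ihy hy') (ihz hz')
    · intro y _ ihy hy'
      have hy'' : y ∈ gam G (n + 1) := by rwa [gam_succ]
      rw [iota_congr rfl rfl hy' (inv_mem hy''), iota_inv hy'']
      exact S.neg_mem (ihy hy'')
  exact key x (by rwa [gam_succ] at hx) hx

/-- If a family `T n` of additive subgroups contains the degree `0` elements and is stable under
bracketing with degree `0` elements, then `T n` contains the component of degree `n`. -/
theorem homog_le_of_step (T : ℕ → AddSubgroup (LcsLie G))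
    (hT0 : ∀ g : G, iota 0 g (Subgroup.mem_top g) ∈ T 0)
    (hTs : ∀ n, ∀ a ∈ T n, ∀ g : G, ⁅a, iota 0 g (Subgroup.mem_top g)⁆ ∈ T (n + 1)) :
    ∀ n, (homog n : AddSubgroup (LcsLie G)) ≤ T n
  | 0 => by
    rintro a ⟨x, hx, rfl⟩
    exact hT0 x
  | n + 1 => by
    refine le_trans (homog_succ_le n) ?_
    rw [AddSubgroup.closure_le]
    rintro a ⟨u, hu, g, rfl⟩
    exact hTs n _ (homog_le_of_step T hT0 hTs n (iota_mem_homog hu)) g

/-- If all brackets `⁅iota c u, iota 0 g⁆` vanish then `γ_{c+1} ≤ γ_{c+2}`. -/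
theorem gam_succ_le_of_lie_eq_zero (c : ℕ)
    (h : ∀ (u : G) (hu : u ∈ gam G c) (g : G),
      ⁅iota c u hu, iota 0 g (Subgroup.mem_top g)⁆ = 0) :
    gam G (c + 1) ≤ gam G (c + 2) := by
  rw [gam_succ, Subgroup.commutator_le]
  intro u hu g _
  have := h u hu g
  rw [lie_iota hu (Subgroup.mem_top g), iota_eq_zero_iff] at this
  exact this

/-- If the lower central series stops at `k`, it stays there. -/
theorem gam_le_add_of_le_succ (k : ℕ) (h : gam G k ≤ gam G (k + 1)) :
    ∀ m, gam G k ≤ gam G (k + m)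
  | 0 => le_rfl
  | m + 1 => by
    have ih := gam_le_add_of_le_succ k h m
    calc gam G k ≤ gam G (k + 1) := h
      _ = ⁅gam G k, (⊤ : Subgroup G)⁆ := gam_succ G k
      _ ≤ ⁅gam G (k + m), (⊤ : Subgroup G)⁆ := Subgroup.commutator_mono ih le_rfl
      _ = gam G (k + (m + 1)) := (gam_succ G (k + m)).symm

theorem gam_eq_bot_of_le_succ [Group.IsNilpotent G] (k : ℕ) (h : gam G k ≤ gam G (k + 1)) :
    gam G k = ⊥ := by
  obtain ⟨n, hn⟩ := Subgroup.nilpotent_iff_lowerCentralSeries.mp (inferInstance : Group.IsNilpotent G)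
  rw [eq_bot_iff]
  calc gam G k ≤ gam G (k + n) := gam_le_add_of_le_succ k h n
    _ ≤ gam G n := gam_antitone G (Nat.le_add_left n k)
    _ = ⊥ := hn

/-- For a nilpotent group: if the degree `c` component of the Lie ring vanishes then
`γ_c = 1` (0-indexed: the class is at most `c`). -/
theorem gam_eq_bot_of_homog_eq_bot [Group.IsNilpotent G] (c : ℕ)
    (h : ∀ (x : G) (hx : x ∈ gam G c), iota c x hx = 0) : gam G c = ⊥ := by
  apply gam_eq_bot_of_le_succ
  intro x hx
  exact (iota_eq_zero_iff hx).mp (h x hx)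

/-- Nilpotency transfer, packaged: if `T n` is a family of additive subgroups containing the
degree-`0` elements, stable under bracketing with them, and `T c = ⊥`, then `γ_c(G) = 1`
for nilpotent `G`. -/
theorem gam_eq_bot_of_step [Group.IsNilpotent G] (T : ℕ → AddSubgroup (LcsLie G))
    (hT0 : ∀ g : G, iota 0 g (Subgroup.mem_top g) ∈ T 0)
    (hTs : ∀ n, ∀ a ∈ T n, ∀ g : G, ⁅a, iota 0 g (Subgroup.mem_top g)⁆ ∈ T (n + 1))
    (c : ℕ) (hc : T c = ⊥) : gam G c = ⊥ := by
  apply gam_eq_bot_of_homog_eq_bot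
  intro x hx
  have := homog_le_of_step T hT0 hTs c (iota_mem_homog hx)
  rw [hc] at this
  exact (AddSubgroup.mem_bot).mp this

end Homog

section Fpf

variable {G : Type*} [Group G]

/-- a fixed-point-free automorphism of a finite group: an element `x` with
`(α x)⁻¹ * x` in an `α`-invariant subgroup `N` lies in `N`. -/
theorem mem_of_fpf_of_mem [Finite G] (α : MulAut G) (hfpf : ∀ g : G, α g = g → g = 1)
    (N : Subgroup G) (hN : ∀ y ∈ N, α y ∈ N) {x : G} (hx : (α x)⁻¹ * x ∈ N) : x ∈ N := by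
  classical
  have hinjG : ∀ y z : G, (α y)⁻¹ * y = (α z)⁻¹ * z → y = z := by
    intro y z h
    have h2 : α (z * y⁻¹) = z * y⁻¹ := by
      rw [_root_.map_mul, _root_.map_inv]
      calc α z * (α y)⁻¹ = α z * ((α y)⁻¹ * y) * y⁻¹ := by group
        _ = α z * ((α z)⁻¹ * z) * y⁻¹ := by rw [h]
        _ = z * y⁻¹ := by group
    have h3 := hfpf _ h2
    have : z = y := by
      calc z = (z * y⁻¹) * y := by group
        _ = y := by rw [h3, one_mul]
    exact this.symm
  let φ : N → N := fun y => ⟨(α (y : G))⁻¹ * (y : G), N.mul_mem (N.inv_mem (hN y y.2)) y.2⟩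
  have hφinj : Function.Injective φ := by
    intro y z h
    have : (α (y : G))⁻¹ * (y : G) = (α (z : G))⁻¹ * (z : G) := congrArg Subtype.val h
    exact Subtype.ext (hinjG _ _ this)
  have hφsurj : Function.Surjective φ := Finite.surjective_of_injective hφinj
  obtain ⟨y, hy⟩ := hφsurj ⟨(α x)⁻¹ * x, hx⟩
  have : (α (y : G))⁻¹ * (y : G) = (α x)⁻¹ * x := congrArg Subtype.val hy
  have hxy := hinjG _ _ this
  rw [← hxy]
  exact y.2

theorem facMap_fix_eq_one [Finite G] (α : MulAut G) (hfpf : ∀ g : G, α g = g → g = 1) (n : ℕ)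
    (t : Fac G n) (ht : facMap α n t = t) : t = 1 := by
  obtain ⟨x, hx, rfl⟩ := cl_surj t
  rw [facMap_cl, cl_eq_iff] at ht
  rw [cl_eq_one_iff]
  exact mem_of_fpf_of_mem α hfpf (gam G (n + 1)) (fun y hy => aut_mem_gam α hy) ht

theorem mapD_fix_eq_zero [Finite G] (α : MulAut G) (hfpf : ∀ g : G, α g = g → g = 1)
    (a : DS G) (h : mapD α a = a) : a = 0 := by
  refine DFinsupp.ext fun n => ?_
  have hn : (mapD α a) n = a n := by rw [h]
  unfold mapD at hn
  rw [DirectSum.map_apply] at hn
  have := facMap_fix_eq_one α hfpf n (Additive.toMul (a n)) hn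
  exact this

/-- A fixed-point-free automorphism of a finite group induces a fixed-point-free
additive automorphism on the associated Lie ring. -/
theorem map_fix_eq_zero [Finite G] (α : MulAut G) (hfpf : ∀ g : G, α g = g → g = 1)
    (a : LcsLie G) (h : map α a = a) : a = 0 :=
  mapD_fix_eq_zero α hfpf a h

theorem map_iterate_of_pow_eq_one (α : MulAut G) {k : ℕ} (hk : α ^ k = 1) (a : LcsLie G) :
    (map α)^[k] a = a := by
  rw [← map_pow, hk, map_one]
  rfl

theorem iota_pow {n : ℕ} {x : G} (hx : x ∈ gam G n) (k : ℕ) :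
    iota n (x ^ k) (pow_mem hx k) = k • iota n x hx := by
  induction k with
  | zero =>
    rw [zero_smul]
    exact (iota_congr rfl (pow_zero x) _ (one_mem _)).trans (iota_one n)
  | succ k ih =>
    rw [succ_nsmul, ← ih, ← iota_mul (pow_mem hx k) hx]
    exact iota_congr rfl (pow_succ x k) _ _

/-- the associated Lie ring of a finite group is killed by the group order. -/
theorem card_nsmul_eq_zero [Finite G] (a : LcsLie G) : Nat.card G • a = 0 := by
  revert a
  refine induction_on _ (smul_zero _) ?_ ?_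
  · intro n x hx
    rw [← iota_pow hx]
    exact (iota_congr rfl (pow_card_eq_one' (G := G)) _ (one_mem _)).trans (iota_one n)
  · intro a b ha hb
    rw [smul_add, ha, hb, add_zero]

end Fpf

end Cfsg.Agent.Lib.Helper29.LcsLie
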