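/-
helper29: S5634 project (owner helper43), module [SL-L2] `sl_uni_row_eq_one`:
an element of `M` which is the identity outside row `i₀` and has `x i₀ i₀ = 1` is trivial, provided
`M` contains all diagonal matrices of determinant one and no non-trivial elementary transvection.
-/
import Mathlib
import Cfsg.Agent.Lib.Helper43.MonoStar

set_option autoImplicit false
set_option linter.unusedSectionVars false
set_option linter.unusedVariables false

namespace Cfsg.Agent.Lib.Helper29

open Matrix Cfsg.Geo Cfsg.Agent.Lib.Helper93 Cfsg.Agent.Lib.Helper43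

variable {ι : Type} [Fintype ι] [DecidableEq ι] {F : Type*} [Field F]

/-- entries of a general transvection -/
theorem monoL2_tv_apply (v φ : ι → F) (h : φ ⬝ᵥ v = 0) (r s : ι) :
    ((tv v φ h : GL ι F) : Matrix ι ι F) r s = (if r = s then 1 else 0) + v r * φ s := by
  rw [tv_val, tvMat, Matrix.add_apply, Matrix.one_apply, Matrix.vecMulVec_apply]

theorem monoL2_dot_single (β : ι → F) (i₀ : ι) (hβ : β i₀ = 0) :
    β ⬝ᵥ (Pi.single i₀ (1 : F)) = 0 := by
  rw [dotProduct_single, hβ, zero_mul]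

/-- the row element `1 + e_{i₀} βᵀ` (`β i₀ = 0`) -/
def monoL2_row (i₀ : ι) (β : ι → F) (hβ : β i₀ = 0) : GL ι F :=
  tv (Pi.single i₀ (1 : F)) β (monoL2_dot_single β i₀ hβ)

theorem monoL2_row_apply (i₀ : ι) (β : ι → F) (hβ : β i₀ = 0) (r s : ι) :
    ((monoL2_row i₀ β hβ : GL ι F) : Matrix ι ι F) r s =
      (if r = s then 1 else 0) + (if r = i₀ then β s else 0) := by
  unfold monoL2_row
  rw [monoL2_tv_apply, Pi.single_apply]
  by_cases hr : r = i₀
  · rw [if_pos hr, if_pos hr, one_mul]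
  · rw [if_neg hr, if_neg hr, zero_mul]

/-- an element which is the identity outside row `i₀` with `x i₀ i₀ = 1` is a row element -/
theorem monoL2_eq_row (i₀ : ι) (x : GL ι F)
    (hrow : ∀ i j, i ≠ i₀ → (x : Matrix ι ι F) i j = if i = j then 1 else 0)
    (hdiag : (x : Matrix ι ι F) i₀ i₀ = 1) :
    x = monoL2_row i₀ (fun s => if s = i₀ then 0 else (x : Matrix ι ι F) i₀ s) (if_pos rfl) := by
  apply Units.ext
  ext r s
  rw [monoL2_row_apply]
  by_cases hr : r = i₀
  · subst hr
    rw [if_pos rfl]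
    by_cases hs : s = r
    · subst hs
      rw [if_pos rfl, if_pos rfl, add_zero, hdiag]
    · rw [if_neg (Ne.symm hs), if_neg hs, zero_add]
  · rw [hrow r s hr, if_neg hr, add_zero]

/-- commutator of a diagonal element with a row element -/
theorem monoL2_comm (i₀ : ι) (d : ι → Fˣ) (β : ι → F) (hβ : β i₀ = 0) :
    dg d * monoL2_row i₀ β hβ * (dg d)⁻¹ * (monoL2_row i₀ β hβ)⁻¹ =
      monoL2_row i₀ (fun s => ((d i₀ : F) * (((d s)⁻¹ : Fˣ) : F) - 1) * β s)
        (by simp [hβ]) := by
  have key : monoL2_row i₀ (fun s => ((d i₀ : F) * (((d s)⁻¹ : Fˣ) : F) - 1) * β s)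
        (by simp [hβ]) * monoL2_row i₀ β hβ * dg d = dg d * monoL2_row i₀ β hβ := by
    apply Units.ext
    ext r s
    rw [mul_dg_apply, dg_mul_apply, monoL2_row_apply]
    unfold monoL2_row
    rw [Units.val_mul, tv_val, tv_val, tvMat_mul_tvMat _ _ _ (monoL2_dot_single _ i₀ (by simp [hβ])),
      ← tv_val _ _ (by
        rw [dotProduct_single]; simp [hβ]), monoL2_tv_apply, Pi.single_apply]
    by_cases hr : r = i₀
    · subst hr
      rw [if_pos rfl, if_pos rfl, one_mul, Pi.add_apply]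
      by_cases hs : r = s
      · subst hs
        rw [if_pos rfl, hβ]
        ring
      · rw [if_neg hs]
        have hne : ((d s : Fˣ) : F) ≠ 0 := (d s).ne_zero
        rw [Units.val_inv_eq_inv_val]
        field_simp
        ring
    · rw [if_neg hr, if_neg hr, zero_mul, add_zero]
      by_cases hs : r = s
      · subst hs
        rw [if_pos rfl]
        ring
      · rw [if_neg hs]
        ring
  rw [← key]
  group


theorem monoL2_step {M : Subgroup (GL ι F)} (i₀ : ι) (d : ι → Fˣ) (hd : dg d ∈ M) (β : ι → F)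
    (hβ : β i₀ = 0) (hx : monoL2_row i₀ β hβ ∈ M) :
    monoL2_row i₀ (fun s => ((d i₀ : F) * (((d s)⁻¹ : Fˣ) : F) - 1) * β s) (by simp [hβ]) ∈ M := by
  rw [← monoL2_comm i₀ d β hβ]
  exact M.mul_mem (M.mul_mem (M.mul_mem hd hx) (M.inv_mem hd)) (M.inv_mem hx)

theorem monoL2_row_eq_elemTv (i₀ j : ι) (hij : i₀ ≠ j) (c : F) (γ : ι → F) (hγ : γ i₀ = 0)
    (h : ∀ s, γ s = if s = j then c else 0) : monoL2_row i₀ γ hγ = elemTv i₀ j hij c := by
  apply Units.ext
  ext r s
  rw [monoL2_row_apply, elemTv_apply, h s]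
  by_cases hr : r = i₀ <;> by_cases hs : s = j <;> simp [hr, hs]

theorem monoL2_d_apply (j l : ι) (μ : Fˣ) (s : ι) :
    (Function.update (1 : ι → Fˣ) j μ * Function.update (1 : ι → Fˣ) l μ⁻¹) s =
      (if s = j then μ else 1) * (if s = l then μ⁻¹ else 1) := by
  simp [Function.update_apply]

theorem monoL2_d_prod (j l : ι) (hjl : j ≠ l) (μ : Fˣ) :
    ∏ s, (Function.update (1 : ι → Fˣ) j μ * Function.update (1 : ι → Fˣ) l μ⁻¹) s = 1 := by
  simp only [Pi.mul_apply]
  rw [Finset.prod_mul_distrib, Finset.prod_update_of_mem (Finset.mem_univ j),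
    Finset.prod_update_of_mem (Finset.mem_univ l)]
  simp

/-- [SL-L2] -/
theorem sl_uni_row_eq_one (hμ : ∃ μ : Fˣ, μ ≠ 1) (hcard : 4 ≤ Fintype.card ι)
    {M : Subgroup (GL ι F)} (hT : ∀ d : ι → Fˣ, ∏ i, d i = 1 → dg d ∈ M) (hnet : NET M) (i₀ : ι)
    {x : GL ι F} (hx : x ∈ M)
    (hrow : ∀ i j, i ≠ i₀ → (x : Matrix ι ι F) i j = if i = j then 1 else 0)
    (hdiag : (x : Matrix ι ι F) i₀ i₀ = 1) : x = 1 := by
  obtain ⟨μ, hμ1⟩ := hμ
  have hμF : ((μ⁻¹ : Fˣ) : F) - 1 ≠ 0 := by
    intro h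
    apply hμ1
    have h1 : ((μ⁻¹ : Fˣ) : F) = ((1 : Fˣ) : F) := by rw [Units.val_one]; exact sub_eq_zero.1 h
    have h2 : μ⁻¹ = 1 := Units.ext h1
    exact inv_eq_one.1 h2
  have hxrow := monoL2_eq_row i₀ x hrow hdiag
  set β : ι → F := fun s => if s = i₀ then 0 else (x : Matrix ι ι F) i₀ s with hβdef
  have hβ0 : β i₀ = 0 := if_pos rfl
  have hxM : monoL2_row i₀ β hβ0 ∈ M := by rw [← hxrow]; exact hx
  -- all off-diagonal entries of row i₀ vanish
  have hzero : ∀ j, j ≠ i₀ → (x : Matrix ι ι F) i₀ j = 0 := by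
    intro j hj
    -- choose l, l'
    have h2 : ({i₀, j} : Finset ι).card < (Finset.univ : Finset ι).card := by
      rw [Finset.card_univ]
      exact lt_of_le_of_lt (Finset.card_insert_le _ _) (by rw [Finset.card_singleton]; omega)
    obtain ⟨l, -, hl⟩ := Finset.exists_mem_notMem_of_card_lt_card h2
    have hl0 : l ≠ i₀ := fun h => hl (by rw [h]; simp)
    have hlj : l ≠ j := fun h => hl (by rw [h]; simp)
    have h3 : ({i₀, j, l} : Finset ι).card < (Finset.univ : Finset ι).card := by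
      rw [Finset.card_univ]
      refine lt_of_le_of_lt (Finset.card_insert_le _ _) ?_
      have := Finset.card_insert_le j ({l} : Finset ι)
      rw [Finset.card_singleton] at this
      omega
    obtain ⟨l', -, hl'⟩ := Finset.exists_mem_notMem_of_card_lt_card h3
    have hl'0 : l' ≠ i₀ := fun h => hl' (by rw [h]; simp)
    have hl'j : l' ≠ j := fun h => hl' (by rw [h]; simp)
    have hl'l : l' ≠ l := fun h => hl' (by rw [h]; simp)
    -- step 1
    have hd1 := hT _ (monoL2_d_prod j l (Ne.symm hlj) μ)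
    have hx1 := monoL2_step i₀ _ hd1 β hβ0 hxM
    -- step 2
    have hd2 := hT _ (monoL2_d_prod j l' (Ne.symm hl'j) μ)
    have hx2 := monoL2_step i₀ _ hd2 _ _ hx1
    rw [monoL2_row_eq_elemTv i₀ j (Ne.symm hj)
      ((((μ⁻¹ : Fˣ) : F) - 1) * ((((μ⁻¹ : Fˣ) : F) - 1) * β j))] at hx2
    · have := hnet i₀ j (Ne.symm hj) _ hx2
      have hβj : β j = 0 := by
        rcases mul_eq_zero.1 this with h | h
        · exact absurd h hμF
        · rcases mul_eq_zero.1 h with h | h
          · exact absurd h hμF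
          · exact h
      rw [hβdef] at hβj
      simpa [hj] using hβj
    · intro s
      simp only [monoL2_d_apply]
      by_cases hsj : s = j
      · subst hsj
        simp [Ne.symm hj, Ne.symm hlj, Ne.symm hl'j, Ne.symm hl0, Ne.symm hl'0]
      · rw [if_neg hsj]
        by_cases hsl' : s = l'
        · subst hsl'
          simp [Ne.symm hl0, Ne.symm hl'0, hl'l, hl'j, Ne.symm hj]
        · by_cases hsl : s = l
          · subst hsl
            simp [Ne.symm hl0, Ne.symm hl'0, Ne.symm hl'l, hlj, Ne.symm hj]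
          · simp [hsj, hsl, hsl', Ne.symm hl0, Ne.symm hl'0, Ne.symm hj]
  apply Units.ext
  ext r s
  rw [Units.val_one, Matrix.one_apply]
  by_cases hr : r = i₀
  · subst hr
    by_cases hs : r = s
    · subst hs
      rw [if_pos rfl, hdiag]
    · rw [if_neg hs, hzero s (Ne.symm hs)]
  · rw [hrow r s hr]

end Cfsg.Agent.Lib.Helper29
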