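/-
helper29: S5634 project (owner helper43), module [SL-CASEA] `sl_caseA`:
if `M` contains the diagonal matrices of determinant one and every non-monomial element of `M` has
no zero entry, then `M` is monomial (`card ι ≥ 5`).

Proof: let `g ∈ M` be non-monomial, `φ = g⁻¹`.  There are `i ≠ k` and `a, b` with
`c_a := g i a * φ a k ≠ c_b := g i b * φ b k`; with `lam = c_b / c_a` the element
`y = g * dg2 a b lam * g⁻¹ ∈ M` has `y i k = 0`, so it is monomial.  Its entries are
`y s j = δ_sj + (lam - 1) g s a φ a j + (lam⁻¹ - 1) g s b φ b j`; an off-diagonal zero entry `y s j = 0`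
means `lam * (g s a * φ a j) = g s b * φ b j`.  Rows of `y` have at most one non-zero entry, so any two
rows `s, s₀` have a common zero column `j ∉ {s, s₀}`, which gives `g s b * g s₀ a = g s₀ b * g s a`:
columns `a` and `b` of `g` are proportional, a contradiction.
-/
import Mathlib
import Cfsg.Agent.Lib.Helper43.MonoStar
import Cfsg.Agent.Lib.Helper29.MonoSLL2

set_option autoImplicit false
set_option linter.unusedSectionVars false
set_option linter.unusedVariables false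

namespace Cfsg.Agent.Lib.Helper29

open Matrix Cfsg.Geo Cfsg.Agent.Lib.Helper93 Cfsg.Agent.Lib.Helper43

variable {ι : Type} [Fintype ι] [DecidableEq ι] {F : Type*} [Field F]

theorem monoA_exists_notMem (s : Finset ι) (h : s.card < Fintype.card ι) : ∃ x, x ∉ s := by
  by_contra hcon
  push Not at hcon
  have hs : s = Finset.univ := Finset.eq_univ_iff_forall.2 hcon
  rw [hs, Finset.card_univ] at h
  exact lt_irrefl _ h

theorem monoA_mul_inv_sum (g : GL ι F) (s j : ι) :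
    ∑ x, (g : Matrix ι ι F) s x * ((g⁻¹ : GL ι F) : Matrix ι ι F) x j = if s = j then 1 else 0 := by
  have h : ((g : Matrix ι ι F) * ((g⁻¹ : GL ι F) : Matrix ι ι F)) s j = if s = j then 1 else 0 := by
    rw [← Units.val_mul, mul_inv_cancel, Units.val_one, Matrix.one_apply]
  rw [Matrix.mul_apply] at h
  exact h

theorem monoA_inv_mul_sum (g : GL ι F) (s j : ι) :
    ∑ x, ((g⁻¹ : GL ι F) : Matrix ι ι F) s x * (g : Matrix ι ι F) x j = if s = j then 1 else 0 := by
  have h : (((g⁻¹ : GL ι F) : Matrix ι ι F) * (g : Matrix ι ι F)) s j = if s = j then 1 else 0 := by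
    rw [← Units.val_mul, inv_mul_cancel, Units.val_one, Matrix.one_apply]
  rw [Matrix.mul_apply] at h
  exact h

/-- entries of `g * dg2 a b lam * g⁻¹` -/
theorem monoA_conj_apply (g : GL ι F) {a b : ι} (hab : a ≠ b) (lam : Fˣ) (s j : ι) :
    ((g * dg (Function.update (1 : ι → Fˣ) a lam * Function.update (1 : ι → Fˣ) b lam⁻¹) * g⁻¹ :
      GL ι F) : Matrix ι ι F) s j =
      (if s = j then 1 else 0) +
        ((lam : F) - 1) * ((g : Matrix ι ι F) s a * ((g⁻¹ : GL ι F) : Matrix ι ι F) a j) +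
        (((lam⁻¹ : Fˣ) : F) - 1) * ((g : Matrix ι ι F) s b * ((g⁻¹ : GL ι F) : Matrix ι ι F) b j) := by
  rw [mul_dg_mul_apply, ← monoA_mul_inv_sum g s j]
  have hpt : ∀ x, (g : Matrix ι ι F) s x *
      ((((Function.update (1 : ι → Fˣ) a lam * Function.update (1 : ι → Fˣ) b lam⁻¹) x : Fˣ)) : F) *
      ((g⁻¹ : GL ι F) : Matrix ι ι F) x j =
      (g : Matrix ι ι F) s x * ((g⁻¹ : GL ι F) : Matrix ι ι F) x j +
      (if x = a then ((lam : F) - 1) *
        ((g : Matrix ι ι F) s a * ((g⁻¹ : GL ι F) : Matrix ι ι F) a j) else 0) +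
      (if x = b then (((lam⁻¹ : Fˣ) : F) - 1) *
        ((g : Matrix ι ι F) s b * ((g⁻¹ : GL ι F) : Matrix ι ι F) b j) else 0) := by
    intro x
    rw [monoL2_d_apply]
    by_cases hxa : x = a
    · subst hxa
      rw [if_pos rfl, if_neg hab, if_pos rfl, if_neg hab, mul_one]
      ring
    · by_cases hxb : x = b
      · subst hxb
        rw [if_neg hxa, if_pos rfl, if_neg hxa, if_pos rfl, one_mul]
        ring
      · rw [if_neg hxa, if_neg hxb, if_neg hxa, if_neg hxb, one_mul, Units.val_one]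
        ring
  rw [Finset.sum_congr rfl (fun x _ => hpt x), Finset.sum_add_distrib, Finset.sum_add_distrib,
    Finset.sum_ite_eq' Finset.univ a, Finset.sum_ite_eq' Finset.univ b, if_pos (Finset.mem_univ a),
    if_pos (Finset.mem_univ b)]

/-- three pairwise distinct indices -/
theorem monoA_exists_three (hcard : 3 ≤ Fintype.card ι) :
    ∃ k i i' : ι, i ≠ k ∧ i' ≠ k ∧ i' ≠ i := by
  obtain ⟨k, -⟩ := monoA_exists_notMem (∅ : Finset ι) (by rw [Finset.card_empty]; omega)
  obtain ⟨i, hi⟩ := monoA_exists_notMem ({k} : Finset ι) (by rw [Finset.card_singleton]; omega)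
  obtain ⟨i', hi'⟩ := monoA_exists_notMem ({k, i} : Finset ι)
    (lt_of_le_of_lt (Finset.card_le_two) (by omega))
  rw [Finset.mem_singleton] at hi
  rw [Finset.mem_insert, Finset.mem_singleton] at hi'
  push Not at hi'
  exact ⟨k, i, i', hi, hi'.1, hi'.2⟩

/-- step (A): two columns with different "weights" at an off-diagonal position -/
theorem monoA_exists_weights (hcard : 3 ≤ Fintype.card ι) (g : GL ι F)
    (hφ : ∀ i j, ((g⁻¹ : GL ι F) : Matrix ι ι F) i j ≠ 0)
    (hg : ∀ i j, (g : Matrix ι ι F) i j ≠ 0) :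
    ∃ i k a b, i ≠ k ∧ (g : Matrix ι ι F) i a * ((g⁻¹ : GL ι F) : Matrix ι ι F) a k ≠
      (g : Matrix ι ι F) i b * ((g⁻¹ : GL ι F) : Matrix ι ι F) b k := by
  by_contra hcon
  push Not at hcon
  obtain ⟨k, i, i', hik, hi'k, hi'i⟩ := monoA_exists_three hcard
  set b₀ : ι := k
  have h1 : ∀ x, (g : Matrix ι ι F) i x * ((g⁻¹ : GL ι F) : Matrix ι ι F) x k =
      (g : Matrix ι ι F) i b₀ * ((g⁻¹ : GL ι F) : Matrix ι ι F) b₀ k := fun x => hcon i k x b₀ hik
  have h2 : ∀ x, (g : Matrix ι ι F) i' x * ((g⁻¹ : GL ι F) : Matrix ι ι F) x k =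
      (g : Matrix ι ι F) i' b₀ * ((g⁻¹ : GL ι F) : Matrix ι ι F) b₀ k :=
    fun x => hcon i' k x b₀ hi'k
  have h3 : ∀ x, (g : Matrix ι ι F) i' x *
      ((g : Matrix ι ι F) i b₀ * ((g⁻¹ : GL ι F) : Matrix ι ι F) b₀ k) =
      (g : Matrix ι ι F) i x *
      ((g : Matrix ι ι F) i' b₀ * ((g⁻¹ : GL ι F) : Matrix ι ι F) b₀ k) := by
    intro x
    rw [← h1 x, ← h2 x]
    ring
  have h4 : ∑ x, ((g : Matrix ι ι F) i' x * ((g⁻¹ : GL ι F) : Matrix ι ι F) x i) *
      ((g : Matrix ι ι F) i b₀ * ((g⁻¹ : GL ι F) : Matrix ι ι F) b₀ k) =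
      ∑ x, ((g : Matrix ι ι F) i x * ((g⁻¹ : GL ι F) : Matrix ι ι F) x i) *
      ((g : Matrix ι ι F) i' b₀ * ((g⁻¹ : GL ι F) : Matrix ι ι F) b₀ k) := by
    apply Finset.sum_congr rfl
    intro x _
    have := h3 x
    calc ((g : Matrix ι ι F) i' x * ((g⁻¹ : GL ι F) : Matrix ι ι F) x i) *
        ((g : Matrix ι ι F) i b₀ * ((g⁻¹ : GL ι F) : Matrix ι ι F) b₀ k)
        = ((g⁻¹ : GL ι F) : Matrix ι ι F) x i * ((g : Matrix ι ι F) i' x *
          ((g : Matrix ι ι F) i b₀ * ((g⁻¹ : GL ι F) : Matrix ι ι F) b₀ k)) := by ring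
      _ = ((g⁻¹ : GL ι F) : Matrix ι ι F) x i * ((g : Matrix ι ι F) i x *
          ((g : Matrix ι ι F) i' b₀ * ((g⁻¹ : GL ι F) : Matrix ι ι F) b₀ k)) := by rw [this]
      _ = _ := by ring
  rw [← Finset.sum_mul, ← Finset.sum_mul, monoA_mul_inv_sum, monoA_mul_inv_sum, if_neg hi'i,
    if_pos rfl, zero_mul, one_mul] at h4
  exact mul_ne_zero (hg i' b₀) (hφ b₀ k) h4.symm

/-- [SL-CASEA] -/
theorem sl_caseA [Fintype F] (hq : 5 ≤ Fintype.card F) (hcard : 5 ≤ Fintype.card ι)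
    {M : Subgroup (GL ι F)} (hT : ∀ d : ι → Fˣ, ∏ i, d i = 1 → dg d ∈ M)
    (hfull : ∀ g ∈ M, g ∉ Mono ι F → ∀ i j, (g : Matrix ι ι F) i j ≠ 0) : M ≤ Mono ι F := by
  classical
  intro g hgM
  by_contra hgN
  have hg := hfull g hgM hgN
  have hφM : g⁻¹ ∈ M := M.inv_mem hgM
  have hφN : g⁻¹ ∉ Mono ι F := fun h => hgN (by simpa using (Mono ι F).inv_mem h)
  have hφ := hfull g⁻¹ hφM hφN
  obtain ⟨i, k, a, b, hik, hne⟩ := monoA_exists_weights (by omega) g hφ hg
  have hab : a ≠ b := by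
    rintro rfl
    exact hne rfl
  set P : F := (g : Matrix ι ι F) i a * ((g⁻¹ : GL ι F) : Matrix ι ι F) a k with hP
  set Q : F := (g : Matrix ι ι F) i b * ((g⁻¹ : GL ι F) : Matrix ι ι F) b k with hQ
  have hP0 : P ≠ 0 := mul_ne_zero (hg i a) (hφ a k)
  have hQ0 : Q ≠ 0 := mul_ne_zero (hg i b) (hφ b k)
  have hlam0 : Q / P ≠ 0 := div_ne_zero hQ0 hP0
  set lam : Fˣ := Units.mk0 (Q / P) hlam0 with hlam
  have hlamv : (lam : F) = Q / P := Units.val_mk0 hlam0
  have hlaminv : ((lam⁻¹ : Fˣ) : F) = P / Q := by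
    rw [Units.val_inv_eq_inv_val, hlamv, inv_div]
  have hlam1 : (lam : F) - 1 ≠ 0 := by
    rw [hlamv]
    intro h
    apply hne
    have : Q / P = 1 := sub_eq_zero.1 h
    rw [div_eq_one_iff_eq hP0] at this
    exact this.symm
  set y : GL ι F :=
    g * dg (Function.update (1 : ι → Fˣ) a lam * Function.update (1 : ι → Fˣ) b lam⁻¹) * g⁻¹
    with hy
  have hyM : y ∈ M :=
    M.mul_mem (M.mul_mem hgM (hT _ (monoL2_d_prod a b hab lam))) hφM
  have hyik : (y : Matrix ι ι F) i k = 0 := by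
    rw [hy, monoA_conj_apply g hab lam i k, if_neg hik, hlamv, hlaminv, ← hP, ← hQ]
    field_simp
    ring
  have hyMono : y ∈ Mono ι F := by
    by_contra hyN
    exact hfull y hyM hyN i k hyik
  have hyIs : IsMono (y : Matrix ι ι F) := mem_Mono.1 hyMono
  -- off-diagonal zero entries
  have hzero : ∀ s j, s ≠ j → (y : Matrix ι ι F) s j = 0 →
      (lam : F) * ((g : Matrix ι ι F) s a * ((g⁻¹ : GL ι F) : Matrix ι ι F) a j) =
        (g : Matrix ι ι F) s b * ((g⁻¹ : GL ι F) : Matrix ι ι F) b j := by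
    intro s j hsj h0
    rw [hy, monoA_conj_apply g hab lam s j, if_neg hsj, zero_add] at h0
    have hl0 : (lam : F) ≠ 0 := lam.ne_zero
    have hinv : ((lam⁻¹ : Fˣ) : F) * (lam : F) = 1 := by
      rw [← Units.val_mul, inv_mul_cancel, Units.val_one]
    have h1 : ((lam : F) - 1) * ((lam : F) *
        ((g : Matrix ι ι F) s a * ((g⁻¹ : GL ι F) : Matrix ι ι F) a j) -
        (g : Matrix ι ι F) s b * ((g⁻¹ : GL ι F) : Matrix ι ι F) b j) = 0 := by
      have h2 : ((lam : F) - 1) * ((lam : F) *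
        ((g : Matrix ι ι F) s a * ((g⁻¹ : GL ι F) : Matrix ι ι F) a j) -
        (g : Matrix ι ι F) s b * ((g⁻¹ : GL ι F) : Matrix ι ι F) b j) =
        (lam : F) * (((lam : F) - 1) *
          ((g : Matrix ι ι F) s a * ((g⁻¹ : GL ι F) : Matrix ι ι F) a j) +
          (((lam⁻¹ : Fˣ) : F) - 1) *
          ((g : Matrix ι ι F) s b * ((g⁻¹ : GL ι F) : Matrix ι ι F) b j)) +
        (1 - ((lam⁻¹ : Fˣ) : F) * (lam : F)) *
          ((g : Matrix ι ι F) s b * ((g⁻¹ : GL ι F) : Matrix ι ι F) b j) := by ring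
      rw [h2, h0, hinv]
      ring
    rcases mul_eq_zero.1 h1 with h | h
    · exact absurd h hlam1
    · exact sub_eq_zero.1 h
  -- the rows of `y` have at most one non-zero entry
  have hrowcard : ∀ s, (Finset.univ.filter (fun j => (y : Matrix ι ι F) s j ≠ 0)).card ≤ 1 := by
    intro s
    apply Finset.card_le_one.2
    intro j hj j' hj'
    exact IsMono.row_unique hyIs (Finset.mem_filter.1 hj).2 (Finset.mem_filter.1 hj').2
  obtain ⟨s₀, -⟩ := monoA_exists_notMem (∅ : Finset ι) (by rw [Finset.card_empty]; omega)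
  have hprop : ∀ s, (g : Matrix ι ι F) s b * (g : Matrix ι ι F) s₀ a =
      (g : Matrix ι ι F) s a * (g : Matrix ι ι F) s₀ b := by
    intro s
    by_cases hs : s = s₀
    · rw [hs]; ring
    · have hc : ((Finset.univ.filter (fun j => (y : Matrix ι ι F) s j ≠ 0)) ∪
          (Finset.univ.filter (fun j => (y : Matrix ι ι F) s₀ j ≠ 0)) ∪ {s, s₀}).card <
          Fintype.card ι := by
        have c1 := Finset.card_union_le
          ((Finset.univ.filter (fun j => (y : Matrix ι ι F) s j ≠ 0)) ∪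
            (Finset.univ.filter (fun j => (y : Matrix ι ι F) s₀ j ≠ 0))) ({s, s₀} : Finset ι)
        have c2 := Finset.card_union_le
          (Finset.univ.filter (fun j => (y : Matrix ι ι F) s j ≠ 0))
            (Finset.univ.filter (fun j => (y : Matrix ι ι F) s₀ j ≠ 0))
        have c3 := hrowcard s
        have c4 := hrowcard s₀
        have c5 : ({s, s₀} : Finset ι).card ≤ 2 := Finset.card_le_two
        omega
      obtain ⟨j, hj⟩ := monoA_exists_notMem _ hc
      rw [Finset.mem_union, Finset.mem_union, Finset.mem_filter, Finset.mem_filter,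
        Finset.mem_insert, Finset.mem_singleton] at hj
      push Not at hj
      obtain ⟨⟨hj1, hj2⟩, hjs, hjs₀⟩ := hj
      have e1 := hzero s j (Ne.symm hjs) (hj1 (Finset.mem_univ j))
      have e2 := hzero s₀ j (Ne.symm hjs₀) (hj2 (Finset.mem_univ j))
      have hl0 : (lam : F) ≠ 0 := lam.ne_zero
      have hnz : (lam : F) * ((g⁻¹ : GL ι F) : Matrix ι ι F) a j *
          ((g⁻¹ : GL ι F) : Matrix ι ι F) b j ≠ 0 :=
        mul_ne_zero (mul_ne_zero hl0 (hφ a j)) (hφ b j)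
      apply mul_right_cancel₀ hnz
      calc (g : Matrix ι ι F) s b * (g : Matrix ι ι F) s₀ a *
            ((lam : F) * ((g⁻¹ : GL ι F) : Matrix ι ι F) a j * ((g⁻¹ : GL ι F) : Matrix ι ι F) b j)
          = ((g : Matrix ι ι F) s b * ((g⁻¹ : GL ι F) : Matrix ι ι F) b j) *
            ((lam : F) * ((g : Matrix ι ι F) s₀ a * ((g⁻¹ : GL ι F) : Matrix ι ι F) a j)) := by ring
        _ = ((lam : F) * ((g : Matrix ι ι F) s a * ((g⁻¹ : GL ι F) : Matrix ι ι F) a j)) *
            ((g : Matrix ι ι F) s₀ b * ((g⁻¹ : GL ι F) : Matrix ι ι F) b j) := by rw [e1, e2]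
        _ = _ := by ring
  -- columns `a` and `b` of `g` are proportional: contradiction
  have hsum : ∑ s, ((g⁻¹ : GL ι F) : Matrix ι ι F) a s *
      ((g : Matrix ι ι F) s b * (g : Matrix ι ι F) s₀ a) =
      ∑ s, ((g⁻¹ : GL ι F) : Matrix ι ι F) a s *
      ((g : Matrix ι ι F) s a * (g : Matrix ι ι F) s₀ b) :=
    Finset.sum_congr rfl (fun s _ => by rw [hprop s])
  have hl : ∑ s, ((g⁻¹ : GL ι F) : Matrix ι ι F) a s *
      ((g : Matrix ι ι F) s b * (g : Matrix ι ι F) s₀ a) = 0 := by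
    have : ∀ s, ((g⁻¹ : GL ι F) : Matrix ι ι F) a s *
        ((g : Matrix ι ι F) s b * (g : Matrix ι ι F) s₀ a) =
        (((g⁻¹ : GL ι F) : Matrix ι ι F) a s * (g : Matrix ι ι F) s b) *
          (g : Matrix ι ι F) s₀ a := fun s => by ring
    rw [Finset.sum_congr rfl (fun s _ => this s), ← Finset.sum_mul, monoA_inv_mul_sum,
      if_neg hab, zero_mul]
  have hr : ∑ s, ((g⁻¹ : GL ι F) : Matrix ι ι F) a s *
      ((g : Matrix ι ι F) s a * (g : Matrix ι ι F) s₀ b) = (g : Matrix ι ι F) s₀ b := by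
    have : ∀ s, ((g⁻¹ : GL ι F) : Matrix ι ι F) a s *
        ((g : Matrix ι ι F) s a * (g : Matrix ι ι F) s₀ b) =
        (((g⁻¹ : GL ι F) : Matrix ι ι F) a s * (g : Matrix ι ι F) s a) *
          (g : Matrix ι ι F) s₀ b := fun s => by ring
    rw [Finset.sum_congr rfl (fun s _ => this s), ← Finset.sum_mul, monoA_inv_mul_sum,
      if_pos rfl, one_mul]
  rw [hl, hr] at hsum
  exact hg s₀ b hsum.symm

end Cfsg.Agent.Lib.Helper29
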