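/-
helper29: S5634 project (owner helper43), module [SL-L3] `sl_star_self`:
an element of `M` whose column `i₀` is a multiple of `e_{i₀}` is monomial if the section
`secSL M i₀` is monomial.
-/
import Mathlib
import Cfsg.Agent.Lib.Helper43.MonoStar
import Cfsg.Agent.Lib.Helper29.MonoSLL2

set_option autoImplicit false
set_option linter.unusedSectionVars false
set_option linter.unusedVariables false

namespace Cfsg.Agent.Lib.Helper29

open Matrix Cfsg.Geo Cfsg.Agent.Lib.Helper93 Cfsg.Agent.Lib.Helper43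

variable {F : Type*} [Field F] {k : ℕ}

/-- determinant of a matrix whose column `i₀` is a multiple of `e_{i₀}` -/
theorem monoL3_det (i₀ : Fin (k + 1)) (h : Matrix (Fin (k + 1)) (Fin (k + 1)) F)
    (hcol : ∀ a, h (i₀.succAbove a) i₀ = 0) :
    h.det = (Matrix.of fun a b => h (i₀.succAbove a) (i₀.succAbove b)).det * h i₀ i₀ := by
  have hh : h = (Matrix.fromBlocks (Matrix.of fun a b => h (i₀.succAbove a) (i₀.succAbove b)) 0
      (Matrix.of fun (_ : PUnit.{1}) b => h i₀ (i₀.succAbove b))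
      (Matrix.of fun (_ : PUnit.{1}) (_ : PUnit.{1}) => h i₀ i₀)).submatrix (saEquiv i₀).symm
        (saEquiv i₀).symm := by
    ext i j
    rcases Fin.eq_self_or_eq_succAbove i₀ i with hi | ⟨a, hi⟩
    · rcases Fin.eq_self_or_eq_succAbove i₀ j with hj | ⟨b, hj⟩
      · subst hi; subst hj
        simp [saEquiv_symm_self]
      · subst hi; subst hj
        simp [saEquiv_symm_self, saEquiv_symm_sa]
    · rcases Fin.eq_self_or_eq_succAbove i₀ j with hj | ⟨b, hj⟩
      · subst hi; subst hj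
        simp [saEquiv_symm_self, saEquiv_symm_sa, hcol]
      · subst hi; subst hj
        simp [saEquiv_symm_sa]
  conv_lhs => rw [hh]
  rw [Matrix.det_submatrix_equiv_self, Matrix.det_fromBlocks_zero₁₂]
  simp


theorem monoL3_dg1_inv {ι : Type} [Fintype ι] [DecidableEq ι] (i₀ : ι) (a : Fˣ) :
    (dg1 i₀ a : GL ι F)⁻¹ = dg1 i₀ a⁻¹ := by
  unfold dg1
  rw [dg_inv]
  congr 1
  funext s
  by_cases hs : s = i₀ <;> simp [hs]

theorem monoL3_det_dg1 {ι : Type} [Fintype ι] [DecidableEq ι] (i₀ : ι) (a : Fˣ) :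
    ((dg1 i₀ a : GL ι F) : Matrix ι ι F).det = (a : F) := by
  unfold dg1
  rw [det_dg, ← Units.coe_prod, Finset.prod_update_of_mem (Finset.mem_univ i₀)]
  simp

/-- [SL-L3] -/
theorem sl_star_self [Fintype F] (hq : 4 ≤ Fintype.card F) {k : ℕ} (hk : 5 ≤ k)
    {M : Subgroup (GL (Fin (k + 1)) F)} (hM : SLHyp M) (i₀ : Fin (k + 1))
    (hsec : secSL M i₀ ≤ Mono (Fin k) F)
    {h : GL (Fin (k + 1)) F} (hh : h ∈ M)
    (hcol : ∀ a, (h : Matrix (Fin (k + 1)) (Fin (k + 1)) F) (i₀.succAbove a) i₀ = 0) :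
    h ∈ Mono (Fin (k + 1)) F := by
  classical
  have hdet1 : (h : Matrix (Fin (k + 1)) (Fin (k + 1)) F).det = 1 :=
    (mem_specialLinear_iff h).1 (hM.le_sl hh)
  set C' : Matrix (Fin k) (Fin k) F := Matrix.of fun a b =>
    (h : Matrix (Fin (k + 1)) (Fin (k + 1)) F) (i₀.succAbove a) (i₀.succAbove b) with hC'
  have hdet := monoL3_det i₀ (h : Matrix (Fin (k + 1)) (Fin (k + 1)) F) hcol
  rw [hdet1] at hdet
  have hCu : IsUnit C'.det := IsUnit.of_mul_eq_one _ hdet.symm
  have ha0 : (h : Matrix (Fin (k + 1)) (Fin (k + 1)) F) i₀ i₀ ≠ 0 := by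
    intro hz
    rw [hz, mul_zero] at hdet
    exact one_ne_zero hdet
  set C : GL (Fin k) F := Matrix.GeneralLinearGroup.mk'' C' hCu with hC
  have hCval : (C : Matrix (Fin k) (Fin k) F) = C' := rfl
  have hCsec : C ∈ secSL M i₀ := mem_secSL.2 ⟨h, hh, hcol, fun a b => rfl⟩
  have hCmono : C ∈ Mono (Fin k) F := hsec hCsec
  set a : Fˣ := Units.mk0 _ ha0 with ha
  have haval : (a : F) = (h : Matrix (Fin (k + 1)) (Fin (k + 1)) F) i₀ i₀ := rfl
  have hnMono : dg1 i₀ a * embSA i₀ C ∈ Mono (Fin (k + 1)) F :=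
    (Mono _ F).mul_mem (dg1_mem_Mono _ _) ((embSA_mem_Mono_iff i₀ C).2 hCmono)
  have hn : dg1 i₀ a * embSA i₀ C ∈ M := by
    apply hM.mono_le
    rw [Subgroup.mem_inf]
    refine ⟨hnMono, ?_⟩
    rw [mem_specialLinear_iff, Units.val_mul, Matrix.det_mul, det_embSA, hCval,
      monoL3_det_dg1, haval, mul_comm]
    exact hdet.symm
  -- the element x = h * n⁻¹
  have hxM : h * (dg1 i₀ a * embSA i₀ C)⁻¹ ∈ M := M.mul_mem hh (M.inv_mem hn)
  have hninv : (dg1 i₀ a * embSA i₀ C)⁻¹ = embSA i₀ C⁻¹ * dg1 i₀ a⁻¹ := by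
    rw [_root_.mul_inv_rev, monoL3_dg1_inv, map_inv]
  -- entries of h * embSA i₀ C⁻¹
  have hE_sa_sa : ∀ a' b, ((h * embSA i₀ C⁻¹ : GL (Fin (k + 1)) F) :
      Matrix (Fin (k + 1)) (Fin (k + 1)) F) (i₀.succAbove a') (i₀.succAbove b) =
      if a' = b then 1 else 0 := by
    intro a' b
    rw [Units.val_mul, Matrix.mul_apply, Fin.sum_univ_succAbove _ i₀, hcol a', zero_mul, zero_add]
    have h1 : ((C : Matrix (Fin k) (Fin k) F) * ((C⁻¹ : GL (Fin k) F) : Matrix (Fin k) (Fin k) F)) a' b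
        = if a' = b then 1 else 0 := by
      rw [← Units.val_mul, mul_inv_cancel, Units.val_one, Matrix.one_apply]
    rw [← h1, Matrix.mul_apply]
    apply Finset.sum_congr rfl
    intro c _
    rw [embSA_sa_sa]
    rfl
  have hE_sa_self : ∀ a', ((h * embSA i₀ C⁻¹ : GL (Fin (k + 1)) F) :
      Matrix (Fin (k + 1)) (Fin (k + 1)) F) (i₀.succAbove a') i₀ = 0 := by
    intro a'
    rw [Units.val_mul, Matrix.mul_apply, Fin.sum_univ_succAbove _ i₀, hcol a', zero_mul, zero_add]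
    apply Finset.sum_eq_zero
    intro c _
    rw [embSA_sa_self, mul_zero]
  have hE_self_self : ((h * embSA i₀ C⁻¹ : GL (Fin (k + 1)) F) :
      Matrix (Fin (k + 1)) (Fin (k + 1)) F) i₀ i₀ = (a : F) := by
    rw [Units.val_mul, Matrix.mul_apply, Fin.sum_univ_succAbove _ i₀, embSA_self_self, mul_one,
      haval, add_eq_left]
    apply Finset.sum_eq_zero
    intro c _
    rw [embSA_sa_self, mul_zero]
  -- apply [SL-L2]
  have hμ : ∃ μ : Fˣ, μ ≠ 1 := by
    apply Fintype.exists_ne_of_one_lt_card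
    rw [Fintype.card_units]
    omega
  have hT : ∀ d : Fin (k + 1) → Fˣ, ∏ i, d i = 1 → dg d ∈ M := fun d hd =>
    hM.mono_le (Subgroup.mem_inf.2 ⟨dg_mem_Mono d, dg_mem_specialLinear hd⟩)
  have hx1 : h * (dg1 i₀ a * embSA i₀ C)⁻¹ = 1 := by
    apply sl_uni_row_eq_one hμ (by rw [Fintype.card_fin]; omega) hT hM.net i₀ hxM
    · intro i j hi
      rw [hninv, ← mul_assoc]
      unfold dg1
      rw [mul_dg_apply]
      rcases Fin.eq_self_or_eq_succAbove i₀ i with hi' | ⟨a', hi'⟩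
      · exact absurd hi' hi
      · subst hi'
        rcases Fin.eq_self_or_eq_succAbove i₀ j with hj | ⟨b, hj⟩
        · subst hj
          rw [hE_sa_self, zero_mul, if_neg (Fin.succAbove_ne j a')]
        · subst hj
          rw [hE_sa_sa, Function.update_of_ne (Fin.succAbove_ne i₀ b)]
          simp only [Fin.succAbove_right_inj]
          simp
    · rw [hninv, ← mul_assoc]
      unfold dg1
      rw [mul_dg_apply, hE_self_self, Function.update_self, Units.val_inv_eq_inv_val]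
      exact mul_inv_cancel₀ (Units.ne_zero a)
  have : h = dg1 i₀ a * embSA i₀ C := by
    rw [← mul_inv_eq_one]; exact hx1
  rw [this]
  exact hnMono

end Cfsg.Agent.Lib.Helper29
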