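import Mathlib
import Cfsg.Agent.Lib.Helper29.OddProdDefs
import Cfsg.Agent.Lib.Helper29.OddProdIns
import Cfsg.Agent.Lib.Helper29.OddProdSpec

/-!
# S3265 modules `[LIFT-END]`, `[RED-END]`, `[RED-RB]`
-/

set_option autoImplicit false
set_option linter.unusedSectionVars false

namespace Cfsg.Agent.Lib.Helper29.OddProd
open Equiv

variable {α : Type*} [DecidableEq α] [Fintype α]

/-- `(z * swap a b) * (y * swap a b) = z * y` when `y` fixes `a` and `b` -/
theorem mul_swap_mul_mul_swap_cancel (z y : Perm α) {a b : α} (ha : y a = a) (hb : y b = b) :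
    z * swap a b * (y * swap a b) = z * y := by
  have h := commute_swap_of_fixed ha hb
  calc z * swap a b * (y * swap a b) = z * (swap a b * y) * swap a b := by group
    _ = z * (y * swap a b) * swap a b := by rw [← h]
    _ = z * y * (swap a b * swap a b) := by group
    _ = z * y := by rw [Equiv.swap_mul_self, mul_one]

/-- MODULE [LIFT-END] -/
theorem lift_end : SpecLiftEnd α := by
  intro x' y' z' a b c hab hac hbc hza hzb hya hyb h1 h2
  constructor
  · rw [mul_swap_mul_mul_swap_cancel x' z' hza hzb]
    exact h1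
  · have h := commute_swap_of_fixed hya hyb
    have e : z' * swap a b * (y' * swap b c) = (z' * y') * (swap a b * swap b c) := by
      calc z' * swap a b * (y' * swap b c) = z' * (swap a b * y') * swap b c := by group
        _ = z' * (y' * swap a b) * swap b c := by rw [← h]
        _ = (z' * y') * (swap a b * swap b c) := by group
    rw [e]
    refine odd_insert (z' * y') a b c hab hac hbc ?_ ?_ h2
    · rw [Perm.mul_apply, hya, hza]
    · rw [Perm.mul_apply, hyb, hzb]

/-- points fixed by `x'` and `y'` (and outside `E`) are fixed by a solution `z'` -/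
theorem fixed_of_support_subset {E : Finset α} {x' y' z' : Perm α}
    (hs : z'.support ⊆ x'.support ∪ y'.support ∪ E) {p : α} (hx : x' p = p) (hy : y' p = p)
    (hE : p ∉ E) : z' p = p := by
  by_contra hz
  have := hs (Perm.mem_support.2 hz)
  simp only [Finset.mem_union, Perm.mem_support] at this
  rcases this with (h | h) | h
  · exact h hx
  · exact h hy
  · exact hE h

/-- MODULE [RED-END] -/
theorem red_end (hD1 : SpecD1 α) (hLE : SpecLiftEnd α) (x y : Perm α) (h : Inst x y) (a : α)
    (hxa : x a ≠ a) (hya : y a = a) (hyb : y (x a) ≠ x a) (ih : IH x) : Sol ∅ x y := by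
  have hxx := inv_apply_apply h.hx
  have hyy := inv_apply_apply h.hy
  obtain ⟨b, hb⟩ : ∃ b, b = x a := ⟨_, rfl⟩
  obtain ⟨c, hc⟩ : ∃ c, c = y b := ⟨_, rfl⟩
  have hab : a ≠ b := by rw [hb]; exact fun e => hxa e.symm
  have hyb' : y b ≠ b := by rw [hb]; exact hyb
  have hbc : b ≠ c := by rw [hc]; exact fun e => hyb' e.symm
  have hac : a ≠ c := by
    intro e
    have h1 : y a = b := by rw [e, hc, hyy]
    rw [hya] at h1
    exact hab h1
  obtain ⟨x', hx'⟩ : ∃ x', x' = x * swap a (x a) := ⟨_, rfl⟩
  obtain ⟨y', hy'⟩ : ∃ y', y' = y * swap b (y b) := ⟨_, rfl⟩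
  have hx'a : x' a = a := by rw [hx']; exact rm_apply_left h.hx a
  have hx'b : x' b = b := by rw [hx', hb]; exact rm_apply_right a
  have hx'p : ∀ p, p ≠ a → p ≠ b → x' p = x p := by
    intro p h1 h2
    rw [hx']
    exact rm_apply_of_ne h1 (by rw [← hb]; exact h2)
  have hx'inv : x' * x' = 1 := by rw [hx']; exact rm_mul_self h.hx a
  have hx'card : x'.support.card + 2 = x.support.card := by rw [hx']; exact card_support_rm h.hx hxa
  have hx'sub : x'.support ⊆ x.support := by rw [hx']; exact support_rm_subset h.hx a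
  have hx'x : x' * swap a b = x := by rw [hx', hb]; exact rm_mul_swap x a
  have hy'b : y' b = b := by rw [hy']; exact rm_apply_left h.hy b
  have hy'c : y' c = c := by rw [hy', hc]; exact rm_apply_right b
  have hy'p : ∀ p, p ≠ b → p ≠ c → y' p = y p := by
    intro p h1 h2
    rw [hy']
    exact rm_apply_of_ne h1 (by rw [← hc]; exact h2)
  have hy'a : y' a = a := by rw [hy'p a hab hac, hya]
  have hy'inv : y' * y' = 1 := by rw [hy']; exact rm_mul_self h.hy b
  have hy'card : y'.support.card + 2 = y.support.card := by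
    rw [hy']; exact card_support_rm h.hy hyb'
  have hy'sub : y'.support ⊆ y.support := by rw [hy']; exact support_rm_subset h.hy b
  have hy'y : y' * swap b c = y := by rw [hy', hc]; exact rm_mul_swap y b
  have hinst : Inst x' y' := ⟨hx'inv, hy'inv, by have := h.bal; omega⟩
  have hlt : x'.support.card < x.support.card := by omega
  have hyc : y c ≠ c := by
    have e : y c = b := by rw [hc, hyy]
    rw [e]
    exact hbc
  -- the reduced solution
  have hsol : Sol {c} x' y' := by
    by_cases hexc : Exc x' y'
    · have hxc : x c = c := by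
        by_contra hne
        have h1 : c ∈ x'.support := by
          rw [Perm.mem_support, hx'p c (Ne.symm hac) (Ne.symm hbc)]
          exact hne
        rw [← hexc.2.1, Perm.mem_support] at h1
        exact h1 hy'c
      have hx'c : x' c = c := by rw [hx'p c (Ne.symm hac) (Ne.symm hbc), hxc]
      exact hD1 x' y' hx'inv hy'inv hexc c hx'c hy'c
    · obtain ⟨z', hz1, hz2, hz3, hz4, hz5⟩ := ih x' y' hinst hlt hexc
      exact ⟨z', hz1, hz2.trans (Finset.union_subset_union_right (Finset.empty_subset _)), hz3,
        hz4, hz5⟩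
  obtain ⟨z', hz1, hz2, hz3, hz4, hz5⟩ := hsol
  have hza : z' a = a :=
    fixed_of_support_subset hz2 hx'a hy'a (by simp only [Finset.mem_singleton]; exact hac)
  have hzb : z' b = b :=
    fixed_of_support_subset hz2 hx'b hy'b (by simp only [Finset.mem_singleton]; exact hbc)
  obtain ⟨o1, o2⟩ := hLE x' y' z' a b c hab hac hbc hza hzb hy'a hy'b hz4 hz5
  rw [hx'x] at o1
  rw [hy'y] at o2
  refine ⟨z' * swap a b, mul_swap_mul_self hz1 hza hzb, ?_, ?_, o1, o2⟩
  · rw [support_mul_swap hab hza hzb]
    intro p hp
    simp only [Finset.mem_union, Finset.mem_insert, Finset.mem_singleton] at hp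
    simp only [Finset.mem_union, Perm.mem_support, Finset.notMem_empty, or_false]
    rcases hp with hp | rfl | rfl
    · have := hz2 hp
      simp only [Finset.mem_union, Finset.mem_singleton] at this
      rcases this with (h1 | h1) | rfl
      · left; exact Perm.mem_support.1 (hx'sub h1)
      · right; exact Perm.mem_support.1 (hy'sub h1)
      · right; exact hyc
    · left; exact hxa
    · left; rw [hb, hxx]; exact fun e => hxa e.symm
  · rw [card_support_mul_swap hab hza hzb, hz3]
    exact hx'card

/-- MODULE [RED-RB] -/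
theorem red_rb (hD3 : SpecD3 α) (x y : Perm α) (h : Inst x y) (r b : α) (hxr : x r ≠ r)
    (hyr : y r = r) (hyxr : y (x r) = x r) (hyb : y b ≠ b) (hxb : x b = b) (hxyb : x (y b) = y b)
    (ih : IH x) : Sol ∅ x y := by
  have hxx := inv_apply_apply h.hx
  have hyy := inv_apply_apply h.hy
  obtain ⟨r2, hr2⟩ : ∃ r2, r2 = x r := ⟨_, rfl⟩
  obtain ⟨b2, hb2⟩ : ∃ b2, b2 = y b := ⟨_, rfl⟩
  rw [← hr2] at hyxr
  rw [← hb2] at hxyb
  have hxr2 : x r2 = r := by rw [hr2, hxx]
  have hyb2 : y b2 = b := by rw [hb2, hyy]
  have hrr2 : r ≠ r2 := by rw [hr2]; exact fun e => hxr e.symm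
  have hbb2 : b ≠ b2 := by rw [hb2]; exact fun e => hyb e.symm
  have hrb : r ≠ b := by rintro rfl; exact hxr hxb
  have hrb2 : r ≠ b2 := by rintro rfl; exact hxr hxyb
  have hr2b : r2 ≠ b := by
    rintro rfl
    rw [hxb] at hxr2
    exact hrb hxr2.symm
  have hr2b2 : r2 ≠ b2 := by
    rintro rfl
    rw [hxyb] at hxr2
    exact hrb2 hxr2.symm
  obtain ⟨x', hx'⟩ : ∃ x', x' = x * swap r (x r) := ⟨_, rfl⟩
  obtain ⟨y', hy'⟩ : ∃ y', y' = y * swap b (y b) := ⟨_, rfl⟩
  have hx'r : x' r = r := by rw [hx']; exact rm_apply_left h.hx r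
  have hx'r2 : x' r2 = r2 := by rw [hx', hr2]; exact rm_apply_right r
  have hx'p : ∀ p, p ≠ r → p ≠ r2 → x' p = x p := by
    intro p h1 h2
    rw [hx']
    exact rm_apply_of_ne h1 (by rw [← hr2]; exact h2)
  have hx'b : x' b = b := by rw [hx'p b (Ne.symm hrb) (Ne.symm hr2b), hxb]
  have hx'b2 : x' b2 = b2 := by rw [hx'p b2 (Ne.symm hrb2) (Ne.symm hr2b2), hxyb]
  have hx'inv : x' * x' = 1 := by rw [hx']; exact rm_mul_self h.hx r
  have hx'card : x'.support.card + 2 = x.support.card := by rw [hx']; exact card_support_rm h.hx hxr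
  have hx'sub : x'.support ⊆ x.support := by rw [hx']; exact support_rm_subset h.hx r
  have hx'x : x' * swap r r2 = x := by rw [hx', hr2]; exact rm_mul_swap x r
  have hy'b : y' b = b := by rw [hy']; exact rm_apply_left h.hy b
  have hy'b2 : y' b2 = b2 := by rw [hy', hb2]; exact rm_apply_right b
  have hy'p : ∀ p, p ≠ b → p ≠ b2 → y' p = y p := by
    intro p h1 h2
    rw [hy']
    exact rm_apply_of_ne h1 (by rw [← hb2]; exact h2)
  have hy'r : y' r = r := by rw [hy'p r hrb hrb2, hyr]
  have hy'r2 : y' r2 = r2 := by rw [hy'p r2 hr2b hr2b2, hyxr]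
  have hy'inv : y' * y' = 1 := by rw [hy']; exact rm_mul_self h.hy b
  have hy'card : y'.support.card + 2 = y.support.card := by rw [hy']; exact card_support_rm h.hy hyb
  have hy'sub : y'.support ⊆ y.support := by rw [hy']; exact support_rm_subset h.hy b
  have hy'y : y' * swap b b2 = y := by rw [hy', hb2]; exact rm_mul_swap y b
  have hinst : Inst x' y' := ⟨hx'inv, hy'inv, by have := h.bal; omega⟩
  have hlt : x'.support.card < x.support.card := by omega
  by_cases hexc : Exc x' y'
  · have := hD3 x' y' hx'inv hy'inv hexc r r2 b b2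
      (by
        simp only [List.nodup_cons, List.mem_cons, List.not_mem_nil, or_false, not_or,
          List.nodup_nil, and_true, not_false_eq_true]
        exact ⟨⟨hrr2, hrb, hrb2⟩, ⟨hr2b, hr2b2⟩, hbb2⟩)
      (by
        intro p hp
        simp only [List.mem_cons, List.not_mem_nil, or_false] at hp
        rcases hp with rfl | rfl | rfl | rfl
        · exact hx'r
        · exact hx'r2
        · exact hx'b
        · exact hx'b2)
      (by
        intro p hp
        simp only [List.mem_cons, List.not_mem_nil, or_false] at hp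
        rcases hp with rfl | rfl | rfl | rfl
        · exact hy'r
        · exact hy'r2
        · exact hy'b
        · exact hy'b2)
    rw [hx'x, hy'y] at this
    exact this
  obtain ⟨z', hz1, hz2, hz3, hz4, hz5⟩ := ih x' y' hinst hlt hexc
  have hE : ∀ p : α, p ∉ (∅ : Finset α) := fun p => Finset.notMem_empty p
  have hzr : z' r = r := fixed_of_support_subset hz2 hx'r hy'r (hE r)
  have hzr2 : z' r2 = r2 := fixed_of_support_subset hz2 hx'r2 hy'r2 (hE r2)
  have hzb : z' b = b := fixed_of_support_subset hz2 hx'b hy'b (hE b)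
  have hzb2 : z' b2 = b2 := fixed_of_support_subset hz2 hx'b2 hy'b2 (hE b2)
  -- the two 3-cycles
  have t1 : (swap r r2 * swap r b) ^ 3 = 1 := by
    have h3 := Perm.isThreeCycle_swap_mul_swap_same hrr2 hrb hr2b
    rw [← h3.orderOf]
    exact pow_orderOf_eq_one _
  have t2 : (swap r b * swap b b2) ^ 3 = 1 := by
    have h3 := Perm.isThreeCycle_swap_mul_swap_same (Ne.symm hrb) hbb2 hrb2
    rw [Equiv.swap_comm r b]
    rw [← h3.orderOf]
    exact pow_orderOf_eq_one _
  -- x * z
  have e1 : x * (z' * swap r b) = (x' * z') * (swap r r2 * swap r b) := by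
    rw [← hx'x]
    have hc := commute_swap_of_fixed hzr hzr2
    calc x' * swap r r2 * (z' * swap r b) = x' * (swap r r2 * z') * swap r b := by group
      _ = x' * (z' * swap r r2) * swap r b := by rw [← hc]
      _ = (x' * z') * (swap r r2 * swap r b) := by group
  have e2 : (z' * swap r b) * y = (z' * y') * (swap r b * swap b b2) := by
    rw [← hy'y]
    have hc := commute_swap_of_fixed hy'r hy'b
    calc z' * swap r b * (y' * swap b b2) = z' * (swap r b * y') * swap b b2 := by group
      _ = z' * (y' * swap r b) * swap b b2 := by rw [← hc]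
      _ = (z' * y') * (swap r b * swap b b2) := by group
  have c1 : (x' * z') * (swap r r2 * swap r b) = (swap r r2 * swap r b) * (x' * z') := by
    have f1 : (x' * z') r = r := by rw [Perm.mul_apply, hzr, hx'r]
    have f2 : (x' * z') r2 = r2 := by rw [Perm.mul_apply, hzr2, hx'r2]
    have f3 : (x' * z') b = b := by rw [Perm.mul_apply, hzb, hx'b]
    have g1 := commute_swap_of_fixed f1 f2
    have g2 := commute_swap_of_fixed f1 f3
    calc (x' * z') * (swap r r2 * swap r b) = ((x' * z') * swap r r2) * swap r b := by group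
      _ = (swap r r2 * (x' * z')) * swap r b := by rw [g1]
      _ = swap r r2 * ((x' * z') * swap r b) := by group
      _ = swap r r2 * (swap r b * (x' * z')) := by rw [g2]
      _ = (swap r r2 * swap r b) * (x' * z') := by group
  have c2 : (z' * y') * (swap r b * swap b b2) = (swap r b * swap b b2) * (z' * y') := by
    have f1 : (z' * y') r = r := by rw [Perm.mul_apply, hy'r, hzr]
    have f3 : (z' * y') b = b := by rw [Perm.mul_apply, hy'b, hzb]
    have f4 : (z' * y') b2 = b2 := by rw [Perm.mul_apply, hy'b2, hzb2]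
    have g1 := commute_swap_of_fixed f1 f3
    have g2 := commute_swap_of_fixed f3 f4
    calc (z' * y') * (swap r b * swap b b2) = ((z' * y') * swap r b) * swap b b2 := by group
      _ = (swap r b * (z' * y')) * swap b b2 := by rw [g1]
      _ = swap r b * ((z' * y') * swap b b2) := by group
      _ = swap r b * (swap b b2 * (z' * y')) := by rw [g2]
      _ = (swap r b * swap b b2) * (z' * y') := by group
  refine ⟨z' * swap r b, mul_swap_mul_self hz1 hzr hzb, ?_, ?_, ?_, ?_⟩
  · rw [support_mul_swap hrb hzr hzb]
    intro p hp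
    simp only [Finset.mem_union, Finset.mem_insert, Finset.mem_singleton] at hp
    simp only [Finset.mem_union, Perm.mem_support, Finset.notMem_empty, or_false]
    rcases hp with hp | rfl | rfl
    · have := hz2 hp
      simp only [Finset.mem_union, Finset.notMem_empty, or_false] at this
      rcases this with h1 | h1
      · left; exact Perm.mem_support.1 (hx'sub h1)
      · right; exact Perm.mem_support.1 (hy'sub h1)
    · left; exact hxr
    · right; exact hyb
  · rw [card_support_mul_swap hrb hzr hzb, hz3]
    exact hx'card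
  · rw [e1]
    exact odd_orderOf_mul_of_commute c1 hz4 t1
  · rw [e2]
    exact odd_orderOf_mul_of_commute c2 hz5 t2

end Cfsg.Agent.Lib.Helper29.OddProd
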