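import Mathlib
import Cfsg.Agent.Lib.Helper29.OddProdDefs
import Cfsg.Agent.Lib.Helper29.OddProdSpec

/-!
# S3265: the induction (case analysis) from the five reductions
-/

set_option autoImplicit false
set_option linter.unusedSectionVars false

namespace Cfsg.Agent.Lib.Helper29.OddProd
open Equiv

variable (α : Type*) [DecidableEq α] [Fintype α]

/-- statement of module [RED-D] -/
def SpecRedD : Prop :=
  ∀ (x y : Perm α), Inst x y → ∀ a : α, x a ≠ a → x a = y a → IH x → Sol ∅ x y

/-- statement of module [RED-END] -/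
def SpecRedEnd : Prop :=
  ∀ (x y : Perm α), Inst x y → ∀ a : α, x a ≠ a → y a = a → y (x a) ≠ x a → IH x → Sol ∅ x y

/-- statement of module [RED-RB] -/
def SpecRedRB : Prop :=
  ∀ (x y : Perm α), Inst x y → ∀ r b : α, x r ≠ r → y r = r → y (x r) = x r → y b ≠ b → x b = b →
    x (y b) = y b → IH x → Sol ∅ x y

/-- statement of module [RED-C] -/
def SpecRedC : Prop :=
  ∀ (x y : Perm α), Inst x y → (∀ p, x p ≠ p ↔ y p ≠ p) → (∀ p, x p ≠ p → x p ≠ y p) →
    ∀ a : α, x a ≠ a → y (x (y (x a))) ≠ a → IH x → Sol ∅ x y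

/-- statement of module [RED-A] -/
def SpecRedA : Prop :=
  ∀ (x y : Perm α), Inst x y → (∀ p, x p ≠ p ↔ y p ≠ p) → (∀ p, x p ≠ p → x p ≠ y p) →
    (∀ p, x p ≠ p → y (x (y (x p))) = p) → ∀ a a' : α, x a ≠ a → x a' ≠ a' → a' ≠ a → a' ≠ x a →
    a' ≠ y (x a) → a' ≠ x (y (x a)) → IH x → Sol ∅ x y

variable {α}

theorem main_aux (hd : SpecRedD α) (hend : SpecRedEnd α) (hrb : SpecRedRB α) (hc : SpecRedC α)
    (hra : SpecRedA α) (n : ℕ) :
    ∀ x y : Perm α, x.support.card = n → Inst x y → ¬ Exc x y → Sol ∅ x y := by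
  induction n using Nat.strong_induction_on with
  | _ n IHn =>
  intro x y hn h hexc
  have ih : IH x := by
    intro x' y' h' hlt hne'
    exact IHn x'.support.card (by omega) x' y' rfl h' hne'
  have ihy : IH y := by
    intro x' y' h' hlt hne'
    exact ih x' y' h' (by rw [h.bal]; exact hlt) hne'
  -- 1. common edge
  by_cases c1 : ∃ a, x a ≠ a ∧ x a = y a
  · obtain ⟨a, ha1, ha2⟩ := c1
    exact hd x y h a ha1 ha2 ih
  push Not at c1
  -- 2. red path end / lone red edge
  by_cases c2 : ∃ a, x a ≠ a ∧ y a = a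
  · obtain ⟨a, ha1, ha2⟩ := c2
    by_cases c2' : y (x a) ≠ x a
    · exact hend x y h a ha1 ha2 c2' ih
    push Not at c2'
    have hex : ∃ b, y b ≠ b ∧ x b = b := by
      by_contra hcon
      push Not at hcon
      have hsub : y.support ⊆ x.support := by
        intro p hp
        rw [Perm.mem_support] at hp ⊢
        exact hcon p hp
      have heq : y.support = x.support :=
        Finset.eq_of_subset_of_card_le hsub (le_of_eq h.bal)
      have : a ∈ y.support := by rw [heq, Perm.mem_support]; exact ha1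
      rw [Perm.mem_support] at this
      exact this ha2
    obtain ⟨b, hb1, hb2⟩ := hex
    by_cases c2'' : x (y b) ≠ y b
    · exact (hend y x h.symm b hb1 hb2 c2'' ihy).symm h.bal.symm
    push Not at c2''
    exact hrb x y h a b ha1 ha2 c2' hb1 hb2 c2'' ih
  push Not at c2
  by_cases c3 : ∃ b, y b ≠ b ∧ x b = b
  · obtain ⟨b, hb1, hb2⟩ := c3
    exfalso
    have hsub : x.support ⊆ y.support := by
      intro p hp
      rw [Perm.mem_support] at hp ⊢
      exact c2 p hp
    have heq : x.support = y.support :=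
      Finset.eq_of_subset_of_card_le hsub (le_of_eq h.bal.symm)
    have : b ∈ x.support := by rw [heq, Perm.mem_support]; exact hb1
    rw [Perm.mem_support] at this
    exact this hb2
  push Not at c3
  have hint : ∀ p, x p ≠ p ↔ y p ≠ p := fun p => ⟨c2 p, c3 p⟩
  have hne : ∀ p, x p ≠ p → x p ≠ y p := c1
  by_cases c4 : ∃ a, x a ≠ a
  swap
  · push Not at c4
    have hx1 : x = 1 := by ext p; simp [c4 p]
    have hy1 : y = 1 := by
      ext p
      have := (hint p).not.1 (not_not.2 (c4 p))
      simp [not_not.1 this]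
    refine ⟨1, by simp, by simp, by simp [hx1], ?_, ?_⟩
    · rw [hx1]; simp
    · rw [hy1]; simp
  obtain ⟨a, ha⟩ := c4
  by_cases c5 : ∃ p, x p ≠ p ∧ y (x (y (x p))) ≠ p
  · obtain ⟨p, hp1, hp2⟩ := c5
    exact hc x y h hint hne p hp1 hp2 ih
  push Not at c5
  by_cases c6 : ∃ a', x a' ≠ a' ∧ a' ≠ a ∧ a' ≠ x a ∧ a' ≠ y (x a) ∧ a' ≠ x (y (x a))
  · obtain ⟨a', h0, h1, h2, h3, h4⟩ := c6
    exact hra x y h hint hne c5 a a' ha h0 h1 h2 h3 h4 ih
  push Not at c6
  -- the exceptional pair
  exfalso
  apply hexc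
  have hxx := inv_apply_apply h.hx
  have hyy := inv_apply_apply h.hy
  obtain ⟨b, hb⟩ : ∃ b, b = x a := ⟨_, rfl⟩
  obtain ⟨c, hcdef⟩ : ∃ c, c = y b := ⟨_, rfl⟩
  obtain ⟨d, hddef⟩ : ∃ d, d = x c := ⟨_, rfl⟩
  rw [← hb, ← hcdef, ← hddef] at c6
  have hxb : x b = a := by rw [hb, hxx]
  have hab : a ≠ b := by rw [hb]; exact fun e => ha e.symm
  have hbm : x b ≠ b := by rw [hxb]; exact hab
  have hyb : y b ≠ b := (hint b).1 hbm
  have hbc : b ≠ c := by rw [hcdef]; exact fun e => hyb e.symm
  have hyc : y c = b := by rw [hcdef, hyy]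
  have hac : a ≠ c := by
    intro e
    -- y b = a, so y a = b = x a
    have h1 : y a = b := by rw [e]; exact hyc
    exact hne a ha (by rw [h1, hb])
  have hcm : y c ≠ c := by rw [hyc]; exact hbc
  have hxc : x c ≠ c := (hint c).2 hcm
  have hcd : c ≠ d := by rw [hddef]; exact fun e => hxc e.symm
  have hxd : x d = c := by rw [hddef, hxx]
  have hbd : b ≠ d := by
    intro e
    have : x b = x d := by rw [e]
    rw [hxb, hxd] at this
    exact hac this
  have had : a ≠ d := by
    intro e
    have : x a = x d := by rw [e]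
    rw [← hb, hxd] at this
    exact hbc this
  have hsupp : x.support = {a, b, c, d} := by
    ext p
    rw [Perm.mem_support]
    simp only [Finset.mem_insert, Finset.mem_singleton]
    constructor
    · intro hp
      by_contra hcon
      push Not at hcon
      exact hcon.2.2.2 (c6 p hp hcon.1 hcon.2.1 hcon.2.2.1)
    · rintro (rfl | rfl | rfl | rfl)
      · exact ha
      · exact hbm
      · exact hxc
      · rw [hxd]; exact fun e => hcd e
  refine ⟨?_, ?_, ?_⟩
  · rw [hsupp]
    rw [Finset.card_insert_of_notMem, Finset.card_insert_of_notMem, Finset.card_insert_of_notMem,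
      Finset.card_singleton]
    · simp only [Finset.mem_singleton]; exact hcd
    · simp only [Finset.mem_insert, Finset.mem_singleton]; push Not; exact ⟨hbc, hbd⟩
    · simp only [Finset.mem_insert, Finset.mem_singleton]; push Not; exact ⟨hab, hac, had⟩
  · ext p
    rw [Perm.mem_support, Perm.mem_support]
    exact (hint p).symm
  · intro e
    exact hne a ha (by rw [e])

/-- the main theorem: a non-exceptional balanced pair of involutions has a midpoint -/
theorem main (hd : SpecRedD α) (hend : SpecRedEnd α) (hrb : SpecRedRB α) (hc : SpecRedC α)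
    (hra : SpecRedA α) (x y : Perm α) (h : Inst x y) (hne : ¬ Exc x y) : Sol ∅ x y :=
  main_aux hd hend hrb hc hra _ x y rfl h hne

end Cfsg.Agent.Lib.Helper29.OddProd
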