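import Mathlib
import Cfsg.Agent.Lib.Helper7.M24OctStab
import Cfsg.Agent.Lib.Helper26.GolayBitsCode

/-!
# Finite data for the monomial `2^{1+8}` on the octad `octO`

* `c0L`: masks of the 32 code words disjoint from `octO`;
* `octT q`: the table of `octStabElem q`;
* boolean checks (F1), (F2), (F3) on these tables.
-/

set_option autoImplicit false

namespace Cfsg.Agent.Lib.Helper29.PStruct
open Cfsg Cfsg.Agent.Lib.Helper7

/-- masks of the 32 code words disjoint from the octad `octO` -/
def c0L : List ℕ :=
  [0, 6889680, 4038912, 5538256, 832080, 6656640, 3216208, 5780352, 6100032, 3421328, 6337856,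
   628112, 5350928, 3704512, 7079696, 337856, 7903248, 1161408, 4536592, 2890176, 7612992,
   1903248, 4819776, 2141072, 2460752, 5024896, 1584464, 7409024, 2702848, 4202192, 1351424,
   8241104]

/-- mask of the complement of `octO` -/
def kMask : ℕ := 8241104

/-- the table of `octStabElem q` -/
def octT (q : ℕ) : List ℕ := (wT.getD q []).getD ((uT 5 q).getD 5 0) []

theorem c0L_complete :
    Cfsg.Agent.Lib.Helper26.allRange
      (fun c => !(Cfsg.Agent.Lib.Helper26.comb c &&& octO == 0) ||
        c0L.contains (Cfsg.Agent.Lib.Helper26.comb c)) 12 0 = true := by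
  decide +kernel

theorem c0L_sound :
    c0L.all (fun m => Cfsg.Agent.Lib.Helper26.isCode m && (m &&& octO == 0)) = true := by
  decide +kernel

theorem c0L_card : c0L.toFinset.card = 32 := by decide +kernel

/-- (F1): every element of the octad stabiliser maps a code word `d` of `c0L` to `d` or
`d ∆ K` -/
theorem f1_check :
    ((List.range 24).all fun q => !orbitOK 5 q || c0L.all fun m =>
      mapsInto (octT q) m m ||
        (mapsInto (octT q) m (m ^^^ kMask) && decide (pc (m ^^^ kMask) ≤ pc m))) = true := by
  decide +kernel

/-- (F2): only the identity fixes all code words of `c0L` -/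
theorem f2_check :
    ((List.range 24).all fun q => !orbitOK 5 q || q == 4 ||
      c0L.any fun m => !mapsInto (octT q) m m) = true := by
  decide +kernel

/-- (F3): only `∅` and `K` are fixed by the whole octad stabiliser -/
theorem f3_check :
    (c0L.all fun m => m == 0 || m == kMask ||
      (List.range 24).any fun q => orbitOK 5 q && !mapsInto (octT q) m m) = true := by
  decide +kernel

end Cfsg.Agent.Lib.Helper29.PStruct
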