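import Mathlib
import Cfsg.Agent.Lib.Helper8.CrossStab
import Cfsg.Agent.Lib.Helper7.M24OctStab
import Cfsg.Agent.Lib.Helper7.M24Pres

/-!
# Algebra of the monomial elements `monoCo0 σ c` of `Co0`

`mono σ c` is a total version of `Helper8.monoCo0` (junk value `1`), with the product rule
`mono σ c * mono τ d = mono (σ * τ) (c ∆ σ • d)` and injectivity.
-/

set_option autoImplicit false

namespace Cfsg.Agent.Lib.Helper29.PStruct
open Cfsg Cfsg.Agent.Lib.Helper7 Cfsg.Agent.Lib.Helper8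
open scoped Pointwise

/-- supports of code words -/
abbrev Supp : Set (Finset GolayPt) := supports (golayCode : Set (GolayPt → ZMod 2))

theorem empty_mem_Supp : (∅ : Finset GolayPt) ∈ Supp := by
  refine ⟨0, golayCode.zero_mem, ?_⟩
  ext p
  simp [support₂]

theorem symmDiff_mem_Supp {c d : Finset GolayPt} (hc : c ∈ Supp) (hd : d ∈ Supp) :
    symmDiff c d ∈ Supp := by
  obtain ⟨v, hv, rfl⟩ := hc
  obtain ⟨w, hw, rfl⟩ := hd
  refine ⟨v + w, golayCode.add_mem hv hw, ?_⟩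
  ext i
  simp only [support₂, Finset.mem_filter, Finset.mem_univ, true_and, Finset.mem_symmDiff,
    Pi.add_apply]
  have hc : ∀ a b : ZMod 2, (a + b ≠ 0) ↔ ((a ≠ 0 ∧ ¬ b ≠ 0) ∨ (b ≠ 0 ∧ ¬ a ≠ 0)) := by decide
  exact hc (v i) (w i)

theorem smul_mem_Supp {σ : Equiv.Perm GolayPt} (hσ : σ ∈ M24) {c : Finset GolayPt}
    (hc : c ∈ Supp) : σ • c ∈ Supp := smul_mem_supports_of_mem_M24 hσ hc

theorem signedPerm_comp (σ τ : Equiv.Perm GolayPt) (c d : Finset GolayPt) (x : GolayPt → ℤ) :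
    signedPerm σ c (signedPerm τ d x) = signedPerm (σ * τ) (symmDiff c (σ • d)) x := by
  funext i
  unfold signedPerm
  have h1 : (σ * τ).symm i = τ.symm (σ.symm i) := rfl
  have h2 : i ∈ symmDiff c (σ • d) ↔ ((i ∈ c ∧ ¬ σ.symm i ∈ d) ∨ (σ.symm i ∈ d ∧ ¬ i ∈ c)) := by
    rw [Finset.mem_symmDiff, mem_perm_smul_finset]
  rw [h1]
  by_cases hc : i ∈ c <;> by_cases hd : σ.symm i ∈ d <;> simp [hc, hd, h2]

theorem co0_ext {g h : Co0}
    (H : ∀ v : leechLattice, ((g • v : leechLattice) : GolayPt → ℤ) = ((h • v : leechLattice) : GolayPt → ℤ)) :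
    g = h := by
  apply Subtype.ext
  apply Equiv.ext
  intro v
  apply Subtype.ext
  exact H v

/-- total version of `monoCo0` -/
noncomputable def mono (σ : Equiv.Perm GolayPt) (c : Finset GolayPt) : Co0 :=
  open Classical in if h : σ ∈ M24 ∧ c ∈ Supp then monoCo0 σ h.1 c h.2 else 1

theorem mono_eq {σ : Equiv.Perm GolayPt} (hσ : σ ∈ M24) {c : Finset GolayPt} (hc : c ∈ Supp) :
    mono σ c = monoCo0 σ hσ c hc := by
  unfold mono
  rw [dif_pos ⟨hσ, hc⟩]

theorem mono_apply {σ : Equiv.Perm GolayPt} (hσ : σ ∈ M24) {c : Finset GolayPt} (hc : c ∈ Supp)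
    (v : leechLattice) :
    ((mono σ c • v : leechLattice) : GolayPt → ℤ) = signedPerm σ c (v : GolayPt → ℤ) := by
  rw [mono_eq hσ hc, monoCo0_apply]

theorem mono_mul {σ τ : Equiv.Perm GolayPt} (hσ : σ ∈ M24) (hτ : τ ∈ M24) {c d : Finset GolayPt}
    (hc : c ∈ Supp) (hd : d ∈ Supp) :
    mono σ c * mono τ d = mono (σ * τ) (symmDiff c (σ • d)) := by
  apply co0_ext
  intro v
  rw [mul_smul, mono_apply hσ hc, mono_apply hτ hd,
    mono_apply (M24.mul_mem hσ hτ) (symmDiff_mem_Supp hc (smul_mem_Supp hσ hd)), signedPerm_comp]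

theorem mono_one : mono 1 ∅ = 1 := by
  apply co0_ext
  intro v
  rw [mono_apply M24.one_mem empty_mem_Supp, one_smul]
  funext i
  have h1 : (1 : Equiv.Perm GolayPt).symm i = i := rfl
  simp [signedPerm, h1]

theorem mono_inj {σ τ : Equiv.Perm GolayPt} (hσ : σ ∈ M24) (hτ : τ ∈ M24) {c d : Finset GolayPt}
    (hc : c ∈ Supp) (hd : d ∈ Supp) (h : mono σ c = mono τ d) : σ = τ ∧ c = d := by
  rw [mono_eq hσ hc, mono_eq hτ hd] at h
  obtain ⟨w, hw, rfl⟩ := hc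
  obtain ⟨w', hw', rfl⟩ := hd
  have h2 : monoMap (⟨w, hw⟩, ⟨σ, hσ⟩) = monoMap (⟨w', hw'⟩, ⟨τ, hτ⟩) := Subtype.ext h
  have h3 := monoMap_injective h2
  simp only [Prod.mk.injEq, Subtype.mk.injEq] at h3
  exact ⟨h3.2, by rw [h3.1]⟩

end Cfsg.Agent.Lib.Helper29.PStruct
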