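import Mathlib
import Cfsg.Agent.Lib.Helper29.PStructMono
import Cfsg.Agent.Lib.Helper29.PStructData
import Cfsg.Agent.Lib.Helper90.ESCriterion

/-!
# The monomial group `2^{1+8}` on the octad `octO` inside `Co0`

`pset_struct`: the set `PMonoSet` of monomial elements `monoCo0 σ c` with `σ ∈ M24` fixing the
octad `setOf octO` pointwise and `c` the support of a code word disjoint from the octad is (the
carrier of) a subgroup of `Co0` of order `2^9`, and this subgroup is extraspecial.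
-/

set_option autoImplicit false

namespace Cfsg.Agent.Lib.Helper29.PStruct
open Cfsg Cfsg.Agent.Lib.Helper7 Cfsg.Agent.Lib.Helper8
open scoped Pointwise

def PMonoSet : Set Co0 := {g | ∃ (σ : Equiv.Perm GolayPt) (hσ : σ ∈ M24) (c : Finset GolayPt) (hc : c ∈ supports (golayCode : Set (GolayPt → ZMod 2))), (∀ p ∈ setOf octO, σ p = p) ∧ Disjoint c (setOf octO) ∧ g = monoCo0 σ hσ c hc}

/-! ### Bridging the two bit layers -/

theorem idx_eq26 (p : GolayPt) : idx p = Cfsg.Agent.Lib.Helper26.idx p := by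
  cases p <;> rfl

theorem setOf_eq26 (m : ℕ) : setOf m = Cfsg.Agent.Lib.Helper26.setOf m := by
  ext p
  rw [mem_setOf, idx_eq26]
  simp [Cfsg.Agent.Lib.Helper26.setOf]

/-! ### The code words disjoint from the octad -/

/-- supports of code words disjoint from the octad -/
def IsC0 (c : Finset GolayPt) : Prop := c ∈ Supp ∧ Disjoint c (setOf octO)

theorem c0L_mem {m : ℕ} (hm : m ∈ c0L) :
    Cfsg.Agent.Lib.Helper26.isCode m = true ∧ m &&& octO = 0 := by
  have h := List.all_eq_true.1 c0L_sound m hm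
  simpa only [Bool.and_eq_true, beq_iff_eq] using h

theorem c0L_lt {m : ℕ} (hm : m ∈ c0L) : m < 2 ^ 24 :=
  Cfsg.Agent.Lib.Helper26.isCode_lt (c0L_mem hm).1

theorem isC0_iff (c : Finset GolayPt) : IsC0 c ↔ ∃ m ∈ c0L, c = setOf m := by
  constructor
  · rintro ⟨⟨w, hw, rfl⟩, hdis⟩
    obtain ⟨k, hk, rfl⟩ := Cfsg.Agent.Lib.Helper26.exists_comb_of_mem hw
    rw [Cfsg.Agent.Lib.Helper26.support₂_wordOf] at hdis ⊢
    rw [setOf_eq26 octO,
      Cfsg.Agent.Lib.Helper26.disjoint_iff_and (Cfsg.Agent.Lib.Helper26.comb_lt k)] at hdis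
    have h := (Cfsg.Agent.Lib.Helper26.allRange_zero_iff _ 12).1 c0L_complete k
      (by norm_num; exact hk)
    simp only [hdis, beq_self_eq_true, Bool.not_true, Bool.false_or, List.contains_eq_mem,
      decide_eq_true_eq] at h
    exact ⟨_, h, (setOf_eq26 _).symm⟩
  · rintro ⟨m, hm, rfl⟩
    obtain ⟨h1, h2⟩ := c0L_mem hm
    have hlt := c0L_lt hm
    refine ⟨?_, ?_⟩
    · show setOf m ∈ supports (golayCode : Set (GolayPt → ZMod 2))
      rw [setOf_eq26]
      exact (Cfsg.Agent.Lib.Helper26.setOf_mem_supports_iff hlt).2 h1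
    · rw [setOf_eq26, setOf_eq26, Cfsg.Agent.Lib.Helper26.disjoint_iff_and hlt]
      exact h2

theorem card_C0 : Nat.card {c : Finset GolayPt // IsC0 c} = 32 := by
  have e : {m // m ∈ c0L.toFinset} ≃ {c : Finset GolayPt // IsC0 c} := Equiv.ofBijective
    (fun m => ⟨setOf m.1, (isC0_iff _).2 ⟨m.1, List.mem_toFinset.1 m.2, rfl⟩⟩) ⟨?_, ?_⟩
  · rw [← Nat.card_congr e, Nat.card_eq_fintype_card, Fintype.card_coe, c0L_card]
  · rintro ⟨m, hm⟩ ⟨n, hn⟩ h
    have h1 : setOf m = setOf n := congrArg Subtype.val h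
    rw [setOf_eq26, setOf_eq26] at h1
    apply Subtype.ext
    exact Cfsg.Agent.Lib.Helper26.setOf_injOn (c0L_lt (List.mem_toFinset.1 hm))
      (c0L_lt (List.mem_toFinset.1 hn)) h1
  · rintro ⟨c, hc⟩
    obtain ⟨m, hm, rfl⟩ := (isC0_iff c).1 hc
    exact ⟨⟨m, List.mem_toFinset.2 hm⟩, rfl⟩

/-! ### The pointwise stabiliser of the octad, with tables -/

theorem orbitOK6_lt {r : ℕ} (h : orbitOK 6 r = true) : r < 24 := by
  by_contra hcon
  have h1 : octO.testBit r = false := by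
    apply Nat.testBit_lt_two_pow
    calc octO < 2 ^ 24 := by decide
      _ ≤ 2 ^ r := Nat.pow_le_pow_right (by decide) (by omega)
  unfold orbitOK at h
  simp [h1] at h

theorem matches_octStabElem {q : ℕ} (hq : q < 24) (h5 : orbitOK 5 q = true) :
    Matches (octStabElem q) (octT q) := by
  have hchk := octStab_check q hq h5
  simp only [octStabOK, Bool.and_eq_true] at hchk
  obtain ⟨⟨⟨h6, _⟩, _⟩, _⟩ := hchk
  exact matches_wP' hq (orbitOK6_lt h6) h5 h6

theorem mapsInto_of_smul_eq {σ : Equiv.Perm GolayPt} {t : List ℕ} (hM : Matches σ t) {m : ℕ}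
    (h : σ • setOf m = setOf m) : mapsInto t m m = true := by
  apply mapsInto_complete hM
  intro p hp
  have := (apply_mem_perm_smul_finset σ (setOf m) p).2 hp
  rwa [h] at this

/-- (F1) -/
theorem f1 {σ : Equiv.Perm GolayPt} (hσ : σ ∈ fixM24 (setOf octO)) {c : Finset GolayPt}
    (hc : IsC0 c) : σ • c = c ∨ σ • c = symmDiff c (setOf kMask) := by
  obtain ⟨q, hq, h5, rfl⟩ := eq_octStabElem_of_mem hσ
  obtain ⟨m, hm, rfl⟩ := (isC0_iff c).1 hc
  have hM := matches_octStabElem hq h5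
  have h := f1_check
  rw [List.all_eq_true] at h
  have h1 := h q (List.mem_range.2 hq)
  rw [h5] at h1
  simp only [Bool.not_true, Bool.false_or, List.all_eq_true] at h1
  have h2 := h1 m hm
  rw [Bool.or_eq_true, Bool.and_eq_true, decide_eq_true_eq] at h2
  rcases h2 with h2 | ⟨h2, h3⟩
  · left; exact smul_setOf_eq_of_mapsInto hM h2 le_rfl
  · right; rw [← setOf_xor]; exact smul_setOf_eq_of_mapsInto hM h2 h3

/-- (F2) -/
theorem f2 {σ : Equiv.Perm GolayPt} (hσ : σ ∈ fixM24 (setOf octO))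
    (h : ∀ c, IsC0 c → σ • c = c) : σ = 1 := by
  obtain ⟨q, hq, h5, rfl⟩ := eq_octStabElem_of_mem hσ
  by_cases hq4 : q = 4
  · subst hq4
    apply eq_one_of_mem_fixM24_octO hσ
    rw [bp5_eq]; exact (octStabElem_spec hq h5).2.1
  · exfalso
    have hM := matches_octStabElem hq h5
    have hch := f2_check
    rw [List.all_eq_true] at hch
    have h1 := hch q (List.mem_range.2 hq)
    rw [h5] at h1
    have hq4' : (q == 4) = false := by simpa using hq4
    rw [hq4'] at h1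
    simp only [Bool.not_true, Bool.false_or, List.any_eq_true] at h1
    obtain ⟨m, hm, hmf⟩ := h1
    have hc : IsC0 (setOf m) := (isC0_iff _).2 ⟨m, hm, rfl⟩
    have h3 := mapsInto_of_smul_eq hM (h _ hc)
    rw [h3] at hmf
    exact absurd hmf (by decide)

/-- (F3) -/
theorem f3 {c : Finset GolayPt} (hc : IsC0 c)
    (h : ∀ σ ∈ fixM24 (setOf octO), σ • c = c) : c = ∅ ∨ c = setOf kMask := by
  obtain ⟨m, hm, rfl⟩ := (isC0_iff c).1 hc
  have hch := f3_check
  rw [List.all_eq_true] at hch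
  have h1 := hch m hm
  simp only [Bool.or_eq_true, beq_iff_eq, List.any_eq_true, Bool.and_eq_true] at h1
  rcases h1 with (h1 | h1) | ⟨q, hq, h5, hf⟩
  · left; rw [h1, setOf_zero]
  · right; rw [h1]
  · exfalso
    have hq' := List.mem_range.1 hq
    have hM := matches_octStabElem hq' h5
    have h3 := mapsInto_of_smul_eq hM (h _ (octStabElem_spec hq' h5).1)
    rw [h3] at hf
    exact absurd hf (by decide)

/-! ### Closure properties -/

theorem mem_M24_of_mem_B {σ : Equiv.Perm GolayPt} (h : σ ∈ fixM24 (setOf octO)) : σ ∈ M24 :=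
  (mem_fixM24.1 h).1

theorem smul_isC0 {σ : Equiv.Perm GolayPt} (hσ : σ ∈ fixM24 (setOf octO)) {c : Finset GolayPt}
    (hc : IsC0 c) : IsC0 (σ • c) := by
  refine ⟨smul_mem_Supp (mem_M24_of_mem_B hσ) hc.1, ?_⟩
  rw [Finset.disjoint_left]
  intro p hp hpO
  rw [mem_perm_smul_finset] at hp
  have h1 : σ p = p := (mem_fixM24.1 hσ).2 p hpO
  have h2 : σ.symm p = p := by rw [Equiv.symm_apply_eq]; exact h1.symm
  rw [h2] at hp
  exact Finset.disjoint_left.1 hc.2 hp hpO

theorem symmDiff_isC0 {c d : Finset GolayPt} (hc : IsC0 c) (hd : IsC0 d) :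
    IsC0 (symmDiff c d) := by
  refine ⟨symmDiff_mem_Supp hc.1 hd.1, ?_⟩
  rw [Finset.disjoint_left]
  intro p hp hpO
  rw [Finset.mem_symmDiff] at hp
  rcases hp with ⟨h, _⟩ | ⟨h, _⟩
  · exact Finset.disjoint_left.1 hc.2 h hpO
  · exact Finset.disjoint_left.1 hd.2 h hpO

theorem empty_isC0 : IsC0 ∅ := ⟨empty_mem_Supp, Finset.disjoint_empty_left _⟩

theorem K_isC0 : IsC0 (setOf kMask) := (isC0_iff _).2 ⟨kMask, by decide, rfl⟩

theorem K_ne_empty : setOf kMask ≠ ∅ := by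
  intro h
  have h1 := card_setOf kMask
  rw [h, Finset.card_empty] at h1
  exact absurd h1 (by decide)

theorem smul_K {σ : Equiv.Perm GolayPt} (hσ : σ ∈ fixM24 (setOf octO)) :
    σ • setOf kMask = setOf kMask := by
  rcases f1 hσ K_isC0 with h | h
  · exact h
  · exfalso
    rw [symmDiff_self] at h
    have h1 := card_perm_smul_finset σ (setOf kMask)
    rw [h, card_setOf] at h1
    exact absurd h1 (by decide)

theorem mem_PMonoSet_iff (g : Co0) :
    g ∈ PMonoSet ↔ ∃ σ ∈ fixM24 (setOf octO), ∃ c, IsC0 c ∧ g = mono σ c := by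
  constructor
  · rintro ⟨σ, hσ, c, hc, hfix, hdis, rfl⟩
    exact ⟨σ, mem_fixM24.2 ⟨hσ, hfix⟩, c, ⟨hc, hdis⟩, (mono_eq hσ hc).symm⟩
  · rintro ⟨σ, hσ, c, hc, rfl⟩
    exact ⟨σ, mem_M24_of_mem_B hσ, c, hc.1, (mem_fixM24.1 hσ).2, hc.2, mono_eq _ _⟩

theorem mono_mul' {σ τ : Equiv.Perm GolayPt} (hσ : σ ∈ fixM24 (setOf octO))
    (hτ : τ ∈ fixM24 (setOf octO)) {c d : Finset GolayPt} (hc : IsC0 c) (hd : IsC0 d) :
    mono σ c * mono τ d = mono (σ * τ) (symmDiff c (σ • d)) :=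
  mono_mul (mem_M24_of_mem_B hσ) (mem_M24_of_mem_B hτ) hc.1 hd.1

theorem mono_inj' {σ τ : Equiv.Perm GolayPt} (hσ : σ ∈ fixM24 (setOf octO))
    (hτ : τ ∈ fixM24 (setOf octO)) {c d : Finset GolayPt} (hc : IsC0 c) (hd : IsC0 d)
    (h : mono σ c = mono τ d) : σ = τ ∧ c = d :=
  mono_inj (mem_M24_of_mem_B hσ) (mem_M24_of_mem_B hτ) hc.1 hd.1 h

/-- the monomial group `2^{1+8}` -/
def PSub : Subgroup Co0 where
  carrier := PMonoSet
  mul_mem' := by
    intro a b ha hb
    rw [mem_PMonoSet_iff] at ha hb ⊢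
    obtain ⟨σ, hσ, c, hc, rfl⟩ := ha
    obtain ⟨τ, hτ, d, hd, rfl⟩ := hb
    exact ⟨σ * τ, (fixM24 _).mul_mem hσ hτ, _, symmDiff_isC0 hc (smul_isC0 hσ hd),
      mono_mul' hσ hτ hc hd⟩
  one_mem' := (mem_PMonoSet_iff 1).2 ⟨1, (fixM24 _).one_mem, ∅, empty_isC0, mono_one.symm⟩
  inv_mem' := by
    intro a ha
    rw [mem_PMonoSet_iff] at ha ⊢
    obtain ⟨σ, hσ, c, hc, rfl⟩ := ha
    have hσi := (fixM24 _).inv_mem hσ
    refine ⟨σ⁻¹, hσi, σ⁻¹ • c, smul_isC0 hσi hc, ?_⟩
    apply inv_eq_of_mul_eq_one_right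
    rw [mono_mul' hσ hσi hc (smul_isC0 hσi hc), mul_inv_cancel, smul_inv_smul, symmDiff_self]
    exact mono_one

theorem mem_PSub_iff (g : Co0) :
    g ∈ PSub ↔ ∃ σ ∈ fixM24 (setOf octO), ∃ c, IsC0 c ∧ g = mono σ c := mem_PMonoSet_iff g

theorem mono_mem_PSub {σ : Equiv.Perm GolayPt} (hσ : σ ∈ fixM24 (setOf octO))
    {c : Finset GolayPt} (hc : IsC0 c) : mono σ c ∈ PSub :=
  (mem_PSub_iff _).2 ⟨σ, hσ, c, hc, rfl⟩

theorem card_PSub : Nat.card PSub = 2 ^ 9 := by
  have e : {c : Finset GolayPt // IsC0 c} × fixM24 (setOf octO) ≃ PSub := Equiv.ofBijective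
    (fun x => ⟨mono x.2.1 x.1.1, mono_mem_PSub x.2.2 x.1.2⟩) ⟨?_, ?_⟩
  · rw [← Nat.card_congr e, Nat.card_prod, card_C0, card_fixM24_octO]
    norm_num
  · rintro ⟨⟨c, hc⟩, ⟨σ, hσ⟩⟩ ⟨⟨d, hd⟩, ⟨τ, hτ⟩⟩ h
    have h1 : mono σ c = mono τ d := congrArg Subtype.val h
    obtain ⟨h2, h3⟩ := mono_inj' hσ hτ hc hd h1
    subst h2; subst h3
    rfl
  · rintro ⟨g, hg⟩
    obtain ⟨σ, hσ, c, hc, rfl⟩ := (mem_PSub_iff g).1 hg
    exact ⟨⟨⟨c, hc⟩, ⟨σ, hσ⟩⟩, rfl⟩

/-! ### The extraspecial structure -/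

/-- commutators lie in `{1, z}` as soon as squares do and `z` is a central involution -/
theorem comm_mem_of_sq {G : Type*} [Group G] (D : Subgroup G) (z : G) (hzz : z * z = 1)
    (hzc : ∀ y ∈ D, y * z = z * y) (hsq : ∀ a ∈ D, a * a = 1 ∨ a * a = z) :
    ∀ a ∈ D, ∀ b ∈ D, a * b * a⁻¹ * b⁻¹ = 1 ∨ a * b * a⁻¹ * b⁻¹ = z := by
  intro a ha b hb
  have hinv : ∀ x ∈ D, x⁻¹ = x ∨ x⁻¹ = z * x := by
    intro x hx
    rcases hsq x hx with h | h
    · left; exact inv_eq_of_mul_eq_one_right h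
    · right
      apply inv_eq_of_mul_eq_one_right
      rw [← mul_assoc, hzc x hx, mul_assoc, h, hzz]
  have hza := hzc a ha
  have hzb := hzc b hb
  have hza' : ∀ x, a * (z * x) = z * (a * x) := by
    intro x; rw [← mul_assoc, hza, mul_assoc]
  have hzb' : ∀ x, b * (z * x) = z * (b * x) := by
    intro x; rw [← mul_assoc, hzb, mul_assoc]
  have hzz' : ∀ x, z * (z * x) = x := by
    intro x; rw [← mul_assoc, hzz, one_mul]
  have key : a * b * a⁻¹ * b⁻¹ = a * b * (a * b) ∨ a * b * a⁻¹ * b⁻¹ = z * (a * b * (a * b)) := by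
    rcases hinv a ha with h1 | h1 <;> rcases hinv b hb with h2 | h2 <;> rw [h1, h2]
    · left; simp only [mul_assoc]
    · right; simp only [mul_assoc, hza', hzb']
    · right; simp only [mul_assoc, hza', hzb']
    · left; simp only [mul_assoc, hza', hzb', hzz']
  rcases hsq (a * b) (D.mul_mem ha hb) with h | h <;> rcases key with k | k <;> rw [k, h]
  · left; rfl
  · right; rw [mul_one]
  · right; rfl
  · left; exact hzz

/-- Subgroup version of helper90's criterion, with `D` finite. -/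
theorem isExtraspecial_two_subgroup' {G : Type*} [Group G] (D : Subgroup G) [Finite D] (z : G)
    (hzD : z ∈ D) (hz1 : z ≠ 1) (h2 : IsPGroup 2 D)
    (hzc : ∀ y ∈ D, y * z = z * y)
    (hcent : ∀ x ∈ D, (∀ y ∈ D, y * x = x * y) → (x = 1 ∨ x = z))
    (hcomm : ∀ a ∈ D, ∀ b ∈ D, a * b * a⁻¹ * b⁻¹ = 1 ∨ a * b * a⁻¹ * b⁻¹ = z)
    (hsq : ∀ a ∈ D, a * a = 1 ∨ a * a = z)
    (hna : ∃ a ∈ D, ∃ b ∈ D, a * b ≠ b * a) : Cfsg.IsExtraspecial 2 ↥D := by
  apply Cfsg.Agent.Lib.Helper90.isExtraspecial_two_of h2 ⟨z, hzD⟩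
  · intro h; exact hz1 (congrArg Subtype.val h)
  · intro x
    rw [Subgroup.mem_center_iff]
    constructor
    · intro h
      have := hcent x x.2 (fun y hy => congrArg Subtype.val (h ⟨y, hy⟩))
      rcases this with h1 | h1
      · left; exact Subtype.ext h1
      · right; exact Subtype.ext h1
    · rintro (h | h)
      · intro y; rw [h]; simp
      · intro y; rw [h]; exact Subtype.ext (hzc y y.2)
  · intro a b
    rcases hcomm a a.2 b b.2 with h | h
    · left; exact Subtype.ext h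
    · right; exact Subtype.ext h
  · intro a
    rcases hsq a a.2 with h | h
    · left; exact Subtype.ext h
    · right; exact Subtype.ext h
  · obtain ⟨a, ha, b, hb, hab⟩ := hna
    exact ⟨⟨a, ha⟩, ⟨b, hb⟩, fun h => hab (congrArg Subtype.val h)⟩

theorem one_mem_B : (1 : Equiv.Perm GolayPt) ∈ fixM24 (setOf octO) := (fixM24 _).one_mem

theorem z_ne_one : mono 1 (setOf kMask) ≠ 1 := by
  intro h
  rw [← mono_one] at h
  exact K_ne_empty (mono_inj' one_mem_B one_mem_B K_isC0 empty_isC0 h).2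

theorem z_comm {y : Co0} (hy : y ∈ PSub) :
    y * mono 1 (setOf kMask) = mono 1 (setOf kMask) * y := by
  obtain ⟨σ, hσ, c, hc, rfl⟩ := (mem_PSub_iff y).1 hy
  rw [mono_mul' hσ one_mem_B hc K_isC0, mono_mul' one_mem_B hσ K_isC0 hc, smul_K hσ, one_smul,
    mul_one, one_mul, symmDiff_comm]

theorem sq_mem {a : Co0} (ha : a ∈ PSub) : a * a = 1 ∨ a * a = mono 1 (setOf kMask) := by
  obtain ⟨σ, hσ, c, hc, rfl⟩ := (mem_PSub_iff a).1 ha
  rw [mono_mul' hσ hσ hc hc, mul_self_of_mem_fixM24_octO hσ]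
  rcases f1 hσ hc with h | h
  · left; rw [h, symmDiff_self]; exact mono_one
  · right; rw [h, ← symmDiff_assoc, symmDiff_self, bot_symmDiff]

theorem center_mem {x : Co0} (hx : x ∈ PSub) (h : ∀ y ∈ PSub, y * x = x * y) :
    x = 1 ∨ x = mono 1 (setOf kMask) := by
  obtain ⟨σ, hσ, c, hc, rfl⟩ := (mem_PSub_iff x).1 hx
  have hσ1 : σ = 1 := by
    apply f2 hσ
    intro d hd
    have h1 := h _ (mono_mem_PSub one_mem_B hd)
    rw [mono_mul' one_mem_B hσ hd hc, mono_mul' hσ one_mem_B hc hd, one_smul] at h1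
    have h2 := (mono_inj' ((fixM24 _).mul_mem one_mem_B hσ) ((fixM24 _).mul_mem hσ one_mem_B)
      (symmDiff_isC0 hd hc) (symmDiff_isC0 hc (smul_isC0 hσ hd)) h1).2
    rw [symmDiff_comm d c] at h2
    exact (symmDiff_right_injective c h2).symm
  subst hσ1
  have hc' : c = ∅ ∨ c = setOf kMask := by
    apply f3 hc
    intro τ hτ
    have h1 := h _ (mono_mem_PSub hτ empty_isC0)
    rw [mono_mul' hτ one_mem_B empty_isC0 hc, mono_mul' one_mem_B hτ hc empty_isC0,
      one_smul] at h1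
    have h2 := (mono_inj' ((fixM24 _).mul_mem hτ one_mem_B) ((fixM24 _).mul_mem one_mem_B hτ)
      (symmDiff_isC0 empty_isC0 (smul_isC0 hτ hc)) (symmDiff_isC0 hc empty_isC0) h1).2
    have e1 : symmDiff (∅ : Finset GolayPt) (τ • c) = τ • c := bot_symmDiff _
    have e2 : symmDiff c (∅ : Finset GolayPt) = c := symmDiff_bot _
    rw [e1, e2] at h2
    exact h2
  rcases hc' with h1 | h1
  · left; rw [h1]; exact mono_one
  · right; rw [h1]

theorem non_abelian : ∃ a ∈ PSub, ∃ b ∈ PSub, a * b ≠ b * a := by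
  have h5 : orbitOK 5 6 = true := by decide
  have hq : (6 : ℕ) < 24 := by decide
  obtain ⟨hσ, hmap, _⟩ := octStabElem_spec hq h5
  have hne : octStabElem 6 ≠ 1 := by
    intro h
    rw [h] at hmap
    have h1 : idx (pt 6) = idx (pt 4) := congrArg idx hmap
    rw [idx_pt hq, idx_pt (by decide)] at h1
    exact absurd h1 (by decide)
  have hex : ∃ d, IsC0 d ∧ octStabElem 6 • d ≠ d := by
    by_contra hcon
    push Not at hcon
    exact hne (f2 hσ hcon)
  obtain ⟨d, hd, hdne⟩ := hex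
  refine ⟨mono (octStabElem 6) ∅, mono_mem_PSub hσ empty_isC0, mono 1 d,
    mono_mem_PSub one_mem_B hd, ?_⟩
  intro h
  rw [mono_mul' hσ one_mem_B empty_isC0 hd, mono_mul' one_mem_B hσ hd empty_isC0, one_smul] at h
  have h2 := (mono_inj' ((fixM24 _).mul_mem hσ one_mem_B) ((fixM24 _).mul_mem one_mem_B hσ)
    (symmDiff_isC0 empty_isC0 (smul_isC0 hσ hd)) (symmDiff_isC0 hd empty_isC0) h).2
  have e1 : symmDiff (∅ : Finset GolayPt) (octStabElem 6 • d) = octStabElem 6 • d :=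
    bot_symmDiff _
  have e2 : symmDiff d (∅ : Finset GolayPt) = d := symmDiff_bot _
  rw [e1, e2] at h2
  exact hdne h2

/-- **The monomial `2^{1+8}` on an octad**: `PMonoSet` is a subgroup of `Co0` of order `2^9`,
extraspecial. -/
theorem pset_struct : ∃ P : Subgroup Co0, (P : Set Co0) = PMonoSet ∧ Nat.card P = 2 ^ 9 ∧
    Cfsg.IsExtraspecial 2 P := by
  refine ⟨PSub, rfl, card_PSub, ?_⟩
  have : Finite PSub := Nat.finite_of_card_ne_zero (by rw [card_PSub]; norm_num)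
  have h2 : IsPGroup 2 PSub := IsPGroup.of_card (n := 9) card_PSub
  have hzz : mono 1 (setOf kMask) * mono 1 (setOf kMask) = 1 := by
    rcases sq_mem (mono_mem_PSub one_mem_B K_isC0) with h | h
    · exact h
    · exfalso
      apply z_ne_one
      have : mono 1 (setOf kMask) * mono 1 (setOf kMask) = mono 1 (setOf kMask) * 1 := by
        rw [h, mul_one]
      exact mul_left_cancel this
  exact isExtraspecial_two_subgroup' PSub (mono 1 (setOf kMask)) (mono_mem_PSub one_mem_B K_isC0)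
    z_ne_one h2 (fun y hy => z_comm hy) (fun x hx h => center_mem hx h)
    (comm_mem_of_sq PSub _ hzz (fun y hy => z_comm hy) (fun a ha => sq_mem ha))
    (fun a ha => sq_mem ha) non_abelian

/-- The same statement with the set written out (no dependence on the local `PMonoSet`). -/
theorem pset_struct_expl : ∃ P : Subgroup Co0,
    (P : Set Co0) = {g | ∃ (σ : Equiv.Perm GolayPt) (hσ : σ ∈ M24) (c : Finset GolayPt)
      (hc : c ∈ supports (golayCode : Set (GolayPt → ZMod 2))),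
      (∀ p ∈ setOf octO, σ p = p) ∧ Disjoint c (setOf octO) ∧ g = monoCo0 σ hσ c hc} ∧
    Nat.card P = 2 ^ 9 ∧ Cfsg.IsExtraspecial 2 P := pset_struct

end Cfsg.Agent.Lib.Helper29.PStruct
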