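import Mathlib
import Cfsg.Prelude.Def_Characters
import Cfsg.Agent.Lib.Helper78.CharOrtho
import Cfsg.Agent.Lib.Helper78.CharMore
import Cfsg.Agent.Lib.Helper78.CharValues
import Cfsg.Agent.Lib.Helper29.GenOrth

/-!
# S4707 module `[PROJ]` (helper92's project, board #4190): the real projection onto the
`χ₁`-isotypic part of a rank 3 permutation module
-/

set_option autoImplicit false

namespace Cfsg.Agent.Lib.Helper29.S4707
open Cfsg Cfsg.Agent.Lib.Helper78

section Kernel

set_option linter.unusedSectionVars false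

variable {G : Type*} [Group G] [Fintype G] {Ω : Type*} [Fintype Ω] [DecidableEq Ω]
  [MulAction G Ω]

/-- the kernel `M x y = (r 1 / |G|) ∑_{g • y = x} r g⁻¹` -/
noncomputable def projKer (r : G → ℝ) (x y : Ω) : ℝ :=
  (r 1 / (Nat.card G : ℝ)) * ∑ g : G, if g • y = x then r g⁻¹ else 0

theorem projKer_smul_smul (r : G → ℝ) (hcl : ∀ a b : G, r (b * a * b⁻¹) = r a)
    (g : G) (x y : Ω) : projKer r (g • x) (g • y) = projKer r x y := by
  unfold projKer
  congr 1
  rw [← Equiv.sum_comp (MulAut.conj g).toEquiv]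
  apply Finset.sum_congr rfl
  intro k _
  have e1 : (MulAut.conj g).toEquiv k = g * k * g⁻¹ := rfl
  have e2 : (g * k * g⁻¹) • g • y = g • k • y := by
    simp [mul_smul]
  have e3 : (g * k * g⁻¹)⁻¹ = g * k⁻¹ * g⁻¹ := by group
  rw [e1, e2, e3, hcl]
  by_cases h : k • y = x
  · rw [if_pos h, if_pos (by rw [h])]
  · rw [if_neg h, if_neg (fun h' => h (smul_left_cancel g h'))]

theorem projKer_symm (r : G → ℝ) (hinv : ∀ g : G, r g⁻¹ = r g) (x y : Ω) :
    projKer r x y = projKer r y x := by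
  unfold projKer
  congr 1
  rw [← Equiv.sum_comp (Equiv.inv G)]
  apply Finset.sum_congr rfl
  intro k _
  have e1 : (Equiv.inv G) k = k⁻¹ := rfl
  rw [e1, inv_inv, hinv]
  by_cases h : k • x = y
  · rw [if_pos h, if_pos (by rw [← h, inv_smul_smul])]
  · rw [if_neg h, if_neg (fun h' => h (by rw [← h', smul_inv_smul]))]

theorem projKer_row_sum (r : G → ℝ) (hsum : ∑ g : G, r g⁻¹ = 0) (x : Ω) :
    ∑ y, projKer r x y = 0 := by
  unfold projKer
  rw [← Finset.mul_sum, Finset.sum_comm]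
  have : ∀ g : G, ∑ y : Ω, (if g • y = x then r g⁻¹ else 0) = r g⁻¹ := by
    intro g
    have : ∀ y : Ω, (if g • y = x then r g⁻¹ else 0) = if y = g⁻¹ • x then r g⁻¹ else 0 := by
      intro y
      by_cases h : g • y = x
      · rw [if_pos h, if_pos (by rw [← h, inv_smul_smul])]
      · rw [if_neg h, if_neg (fun h' => h (by rw [h', smul_inv_smul]))]
    simp only [this]
    rw [Finset.sum_ite_eq']
    simp
  simp only [this]
  rw [hsum, mul_zero]

theorem projKer_smul_right (r : G → ℝ) (h : G) (x z : Ω) :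
    projKer r x (h • z) =
      (r 1 / (Nat.card G : ℝ)) * ∑ u : G, if u • z = x then r (h * u⁻¹) else 0 := by
  unfold projKer
  congr 1
  rw [← Equiv.sum_comp (Equiv.mulRight h⁻¹)]
  apply Finset.sum_congr rfl
  intro u _
  have e1 : (Equiv.mulRight h⁻¹) u = u * h⁻¹ := rfl
  have e2 : (u * h⁻¹) • h • z = u • z := by
    rw [mul_smul, inv_smul_smul]
  have e3 : (u * h⁻¹)⁻¹ = h * u⁻¹ := by group
  rw [e1, e2, e3]

theorem projKer_idem (r : G → ℝ) (hr1 : r 1 ≠ 0)
    (hconv : ∀ u : G, ∑ h : G, r h⁻¹ * r (h * u) = (Nat.card G : ℝ) * r u / r 1) (x z : Ω) :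
    ∑ y, projKer r x y * projKer r y z = projKer r x z := by
  have hcard : (Nat.card G : ℝ) ≠ 0 := by exact_mod_cast Nat.card_pos.ne'
  obtain ⟨c, hc⟩ : ∃ c : ℝ, c = r 1 / (Nat.card G : ℝ) := ⟨_, rfl⟩
  have step1 : ∀ y : Ω, projKer r x y * projKer r y z =
      ∑ h : G, if h • z = y then c * (r h⁻¹ * projKer r x (h • z)) else 0 := by
    intro y
    conv_lhs => rw [show projKer r y z = c * ∑ h : G, if h • z = y then r h⁻¹ else 0 from by
      rw [hc]; rfl]
    rw [mul_comm, mul_assoc, Finset.sum_mul, Finset.mul_sum]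
    apply Finset.sum_congr rfl
    intro h _
    by_cases hh : h • z = y
    · rw [if_pos hh, if_pos hh, hh]
    · rw [if_neg hh, if_neg hh, zero_mul, mul_zero]
  simp only [step1]
  rw [Finset.sum_comm]
  have step2 : ∀ h : G, ∑ y : Ω, (if h • z = y then c * (r h⁻¹ * projKer r x (h • z)) else 0) =
      c * (r h⁻¹ * projKer r x (h • z)) := by
    intro h
    rw [Finset.sum_ite_eq]
    simp
  simp only [step2]
  simp only [projKer_smul_right]
  rw [← hc]
  -- ∑ h, c * (r h⁻¹ * (c * ∑ u, if u • z = x then r (h * u⁻¹) else 0))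
  have step3 : ∀ h : G, c * (r h⁻¹ * (c * ∑ u : G, if u • z = x then r (h * u⁻¹) else 0)) =
      ∑ u : G, if u • z = x then c * c * (r h⁻¹ * r (h * u⁻¹)) else 0 := by
    intro h
    rw [Finset.mul_sum, Finset.mul_sum, Finset.mul_sum]
    apply Finset.sum_congr rfl
    intro u _
    by_cases hu : u • z = x
    · rw [if_pos hu, if_pos hu]; ring
    · rw [if_neg hu, if_neg hu]; ring
  simp only [step3]
  rw [Finset.sum_comm]
  unfold projKer
  rw [← hc, Finset.mul_sum]
  apply Finset.sum_congr rfl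
  intro u _
  by_cases hu : u • z = x
  · simp only [if_pos hu]
    rw [← Finset.mul_sum, hconv, hc]
    field_simp
  · simp only [if_neg hu]
    simp

theorem card_fixedBy_eq_sum (m : G) :
    (Nat.card (MulAction.fixedBy Ω m) : ℝ) = ∑ x : Ω, if m • x = x then (1 : ℝ) else 0 := by
  classical
  rw [Finset.sum_boole, Nat.card_eq_fintype_card, Fintype.card_subtype]
  rfl

theorem projKer_trace (r : G → ℝ) (hr1 : r 1 ≠ 0)
    (htr : ∀ g : G, ∑ h : G, r h⁻¹ * (Nat.card (MulAction.fixedBy Ω (h * g)) : ℝ) =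
      (Nat.card G : ℝ) * r g / r 1) (g : G) :
    ∑ x : Ω, projKer r x (g • x) = r g := by
  have hcard : (Nat.card G : ℝ) ≠ 0 := by exact_mod_cast Nat.card_pos.ne'
  unfold projKer
  rw [← Finset.mul_sum, Finset.sum_comm]
  have : ∀ h : G, ∑ x : Ω, (if h • g • x = x then r h⁻¹ else 0) =
      r h⁻¹ * (Nat.card (MulAction.fixedBy Ω (h * g)) : ℝ) := by
    intro h
    rw [card_fixedBy_eq_sum, Finset.mul_sum]
    apply Finset.sum_congr rfl
    intro x _
    rw [mul_smul]
    by_cases hx : h • g • x = x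
    · rw [if_pos hx, if_pos hx, mul_one]
    · rw [if_neg hx, if_neg hx, mul_zero]
  simp only [this]
  rw [htr]
  field_simp

end Kernel

/-- MODULE [PROJ]: the real `G`-invariant symmetric idempotent kernel with zero row sums and
trace function `χ₁`. -/
theorem exists_real_projection {G : Type*} [Group G] [Fintype G] {Ω : Type*} [Fintype Ω]
    [DecidableEq Ω] [MulAction G Ω] (χ₁ χ₂ : G → ℂ)
    (h₁ : IsIrrCharacter G χ₁) (h₂ : IsIrrCharacter G χ₂)
    (hπ : (fun g : G => (Nat.card (MulAction.fixedBy Ω g) : ℂ)) = fun g => 1 + χ₁ g + χ₂ g)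
    (hne : χ₁ ≠ χ₂) (h1 : χ₁ ≠ fun _ => 1)
    (hreal : ∀ g, ∃ r : ℝ, χ₁ g = r) :
    ∃ M : Ω → Ω → ℝ, (∀ (g : G) (x y : Ω), M (g • x) (g • y) = M x y) ∧
      (∀ x y, M x y = M y x) ∧ (∀ x z, ∑ y, M x y * M y z = M x z) ∧
      (∀ x, ∑ y, M x y = 0) ∧ (∀ g : G, ((∑ x, M x (g • x) : ℝ) : ℂ) = χ₁ g) := by
  choose r hr using hreal
  have hcl : ∀ a b : G, r (b * a * b⁻¹) = r a := by
    intro a b
    have := isClassFunction_irr ⟨χ₁, h₁⟩ a b
    apply Complex.ofReal_injective
    rw [← hr, ← hr]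
    exact this
  have hinv : ∀ g : G, r g⁻¹ = r g := by
    intro g
    have := IsCharacter.inv (IsIrrCharacter.isCharacter h₁) g
    apply Complex.ofReal_injective
    rw [← hr, this, hr, Complex.conj_ofReal]
  have hr1 : r 1 ≠ 0 := by
    intro h0
    apply IsIrrCharacter.apply_one_ne_zero h₁
    rw [hr, h0]
    simp
  have hconv : ∀ u : G, ∑ h : G, r h⁻¹ * r (h * u) = (Nat.card G : ℝ) * r u / r 1 := by
    intro u
    have := gen_orthogonality χ₁ χ₁ h₁ h₁ u
    rw [if_pos rfl] at this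
    apply Complex.ofReal_injective
    push_cast
    simp only [← hr]
    exact this
  have hsumC : ∀ g : G, ∑ h : G, χ₁ h⁻¹ * (1 : ℂ) = 0 := by
    intro g
    have := gen_orthogonality χ₁ (fun _ => 1) h₁ isIrrCharacter_one g
    rw [if_neg h1] at this
    exact this
  have hsum : ∑ g : G, r g⁻¹ = 0 := by
    have := hsumC 1
    apply Complex.ofReal_injective
    push_cast
    simp only [← hr]
    simpa using this
  have htr : ∀ g : G, ∑ h : G, r h⁻¹ * (Nat.card (MulAction.fixedBy Ω (h * g)) : ℝ) =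
      (Nat.card G : ℝ) * r g / r 1 := by
    intro g
    have e1 := gen_orthogonality χ₁ χ₁ h₁ h₁ g
    rw [if_pos rfl] at e1
    have e2 := gen_orthogonality χ₁ χ₂ h₁ h₂ g
    rw [if_neg hne] at e2
    have e0 := hsumC g
    apply Complex.ofReal_injective
    push_cast
    simp only [← hr]
    have hfix : ∀ h : G, (Nat.card (MulAction.fixedBy Ω (h * g)) : ℂ) =
        1 + χ₁ (h * g) + χ₂ (h * g) := fun h => congrFun hπ (h * g)
    simp only [hfix, mul_add, Finset.sum_add_distrib]
    rw [e0, e1, e2]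
    ring
  refine ⟨projKer r, projKer_smul_smul r hcl, projKer_symm r hinv, projKer_idem r hr1 hconv,
    projKer_row_sum r hsum, ?_⟩
  intro g
  rw [projKer_trace r hr1 htr g, hr]

end Cfsg.Agent.Lib.Helper29.S4707
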