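import Mathlib
import Cfsg.Agent.Lib.Helper90.Rel54

/-!
# Abstract recognition of `3^{1+2} : 2` of order 54 from the relations `Rel54`

MODULE R54 for helper90's S5559.
-/

namespace Cfsg.Agent.Lib.Helper29

open Cfsg.Agent.Lib.Helper90

namespace Rel54Abs

variable {G : Type*} [Group G] {x y z d : G}

lemma y_mul_x_pow (h : Rel54 x y z d) (i : ℕ) : y * x ^ i = x ^ i * y * z ^ i := by
  induction i with
  | zero => simp
  | succ i ih =>
    have hzx : Commute z x := h.zx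
    calc y * x ^ (i + 1) = (y * x ^ i) * x := by rw [pow_succ, mul_assoc]
      _ = x ^ i * y * z ^ i * x := by rw [ih]
      _ = x ^ i * (y * x) * z ^ i := by
        rw [mul_assoc (x ^ i * y), (hzx.pow_left i).eq]; simp only [mul_assoc]
      _ = x ^ (i + 1) * y * z ^ (i + 1) := by
        rw [h.yx, pow_succ, pow_succ']; simp only [mul_assoc]

lemma inv_x (h : Rel54 x y z d) : x⁻¹ = x ^ 2 := by
  rw [inv_eq_iff_mul_eq_one, ← pow_succ', h.x3]

lemma inv_y (h : Rel54 x y z d) : y⁻¹ = y ^ 2 := by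
  rw [inv_eq_iff_mul_eq_one, ← pow_succ', h.y3]

lemma inv_d (h : Rel54 x y z d) : d⁻¹ = d := by
  rw [inv_eq_iff_mul_eq_one, ← sq, h.d2]

lemma d_mul_x_pow (h : Rel54 x y z d) (i : ℕ) : d * x ^ i = x ^ (2 * i) * d := by
  have hs : SemiconjBy d x x⁻¹ := h.dx
  have := (hs.pow_right i).eq
  rw [this, inv_x h, ← pow_mul]

lemma d_mul_y_pow (h : Rel54 x y z d) (j : ℕ) : d * y ^ j = y ^ (2 * j) * d := by
  have hs : SemiconjBy d y y⁻¹ := h.dy
  have := (hs.pow_right j).eq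
  rw [this, inv_y h, ← pow_mul]

/-- the normal form set -/
def NF (x y z d : G) : Set G := {g | ∃ i j k l : ℕ, g = x ^ i * y ^ j * z ^ k * d ^ l}

lemma x_mul_mem (g : G) (hg : g ∈ NF x y z d) : x * g ∈ NF x y z d := by
  obtain ⟨i, j, k, l, rfl⟩ := hg
  exact ⟨i + 1, j, k, l, by rw [pow_succ']; simp only [mul_assoc]⟩

lemma y_mul_mem (h : Rel54 x y z d) (g : G) (hg : g ∈ NF x y z d) : y * g ∈ NF x y z d := by
  obtain ⟨i, j, k, l, rfl⟩ := hg
  refine ⟨i, j + 1, i + k, l, ?_⟩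
  have hzy : Commute z y := h.zy
  calc y * (x ^ i * y ^ j * z ^ k * d ^ l) = (y * x ^ i) * y ^ j * z ^ k * d ^ l := by
        simp only [mul_assoc]
    _ = x ^ i * y * (z ^ i * y ^ j) * z ^ k * d ^ l := by
        rw [y_mul_x_pow h]; simp only [mul_assoc]
    _ = x ^ i * y * (y ^ j * z ^ i) * z ^ k * d ^ l := by
        rw [((hzy.pow_left i).pow_right j).eq]
    _ = x ^ i * y ^ (j + 1) * z ^ (i + k) * d ^ l := by
        rw [pow_succ', pow_add]; simp only [mul_assoc]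

lemma d_mul_mem (h : Rel54 x y z d) (g : G) (hg : g ∈ NF x y z d) : d * g ∈ NF x y z d := by
  obtain ⟨i, j, k, l, rfl⟩ := hg
  refine ⟨2 * i, 2 * j, k, l + 1, ?_⟩
  have hzd : Commute z d := h.zd
  calc d * (x ^ i * y ^ j * z ^ k * d ^ l) = (d * x ^ i) * y ^ j * z ^ k * d ^ l := by
        simp only [mul_assoc]
    _ = x ^ (2 * i) * (d * y ^ j) * z ^ k * d ^ l := by
        rw [d_mul_x_pow h]; simp only [mul_assoc]
    _ = x ^ (2 * i) * y ^ (2 * j) * (d * z ^ k) * d ^ l := by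
        rw [d_mul_y_pow h]; simp only [mul_assoc]
    _ = x ^ (2 * i) * y ^ (2 * j) * (z ^ k * d) * d ^ l := by
        rw [(hzd.pow_left k).eq]
    _ = x ^ (2 * i) * y ^ (2 * j) * z ^ k * d ^ (l + 1) := by
        rw [pow_succ']; simp only [mul_assoc]

lemma mem_NF_of_closure (h : Rel54 x y z d) (g : G)
    (hg : g ∈ Subgroup.closure ({x, y, d} : Set G)) : g ∈ NF x y z d := by
  induction hg using Subgroup.closure_induction_left with
  | one => exact ⟨0, 0, 0, 0, by simp⟩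
  | mul_left a ha b _ ih =>
    simp only [Set.mem_insert_iff, Set.mem_singleton_iff] at ha
    rcases ha with rfl | rfl | rfl
    · exact x_mul_mem b ih
    · exact y_mul_mem h b ih
    · exact d_mul_mem h b ih
  | inv_mul_cancel a ha b _ ih =>
    simp only [Set.mem_insert_iff, Set.mem_singleton_iff] at ha
    rcases ha with rfl | rfl | rfl
    · rw [inv_x h, sq, mul_assoc]
      exact x_mul_mem _ (x_mul_mem b ih)
    · rw [inv_y h, sq, mul_assoc]
      exact y_mul_mem h _ (y_mul_mem h b ih)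
    · rw [inv_d h]
      exact d_mul_mem h b ih

/-- the parametrisation by `Fin 3 × Fin 3 × Fin 3 × Fin 2` -/
def param (x y z d : G) : Fin 3 × Fin 3 × Fin 3 × Fin 2 → G :=
  fun t => x ^ (t.1 : ℕ) * y ^ (t.2.1 : ℕ) * z ^ (t.2.2.1 : ℕ) * d ^ (t.2.2.2 : ℕ)

lemma param_surjective (h : Rel54 x y z d) (hgen : Subgroup.closure ({x, y, d} : Set G) = ⊤) :
    Function.Surjective (param x y z d) := by
  intro g
  obtain ⟨i, j, k, l, rfl⟩ := mem_NF_of_closure h g (by rw [hgen]; trivial)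
  refine ⟨(⟨i % 3, Nat.mod_lt _ (by norm_num)⟩, ⟨j % 3, Nat.mod_lt _ (by norm_num)⟩,
    ⟨k % 3, Nat.mod_lt _ (by norm_num)⟩, ⟨l % 2, Nat.mod_lt _ (by norm_num)⟩), ?_⟩
  simp only [param]
  rw [← pow_eq_pow_mod i h.x3, ← pow_eq_pow_mod j h.y3, ← pow_eq_pow_mod k h.z3,
    ← pow_eq_pow_mod l h.d2]

end Rel54Abs

open Rel54Abs

theorem card_le_of_rel54 {G : Type*} [Group G] {x y z d : G} (h : Rel54 x y z d)
    (hgen : Subgroup.closure ({x, y, d} : Set G) = ⊤) : Finite G ∧ Nat.card G ≤ 54 := by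
  have hs := param_surjective h hgen
  refine ⟨Finite.of_surjective _ hs, ?_⟩
  have := Nat.card_le_card_of_surjective _ hs
  simpa using this

theorem nonempty_mulEquiv_of_rel54 {G₁ G₂ : Type*} [Group G₁] [Group G₂] {x₁ y₁ z₁ d₁ : G₁}
    {x₂ y₂ z₂ d₂ : G₂} (h₁ : Rel54 x₁ y₁ z₁ d₁) (h₂ : Rel54 x₂ y₂ z₂ d₂)
    (g₁ : Subgroup.closure ({x₁, y₁, d₁} : Set G₁) = ⊤)
    (g₂ : Subgroup.closure ({x₂, y₂, d₂} : Set G₂) = ⊤) (c₁ : Nat.card G₁ = 54)
    (c₂ : Nat.card G₂ = 54) : Nonempty (G₁ ≃* G₂) := by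
  -- the graph subgroup
  set gens : Set (G₁ × G₂) := {(x₁, x₂), (y₁, y₂), (d₁, d₂)} with hgens
  set Γ : Subgroup (G₁ × G₂) := Subgroup.closure gens with hΓ
  have hxm : ((x₁, x₂) : G₁ × G₂) ∈ Γ := Subgroup.subset_closure (by simp [hgens])
  have hym : ((y₁, y₂) : G₁ × G₂) ∈ Γ := Subgroup.subset_closure (by simp [hgens])
  have hdm : ((d₁, d₂) : G₁ × G₂) ∈ Γ := Subgroup.subset_closure (by simp [hgens])
  have hzm : ((z₁, z₂) : G₁ × G₂) ∈ Γ := by
    -- z = (x*y)⁻¹ * (y*x)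
    have e1 : z₁ = (x₁ * y₁)⁻¹ * (y₁ * x₁) := by rw [h₁.yx]; group
    have e2 : z₂ = (x₂ * y₂)⁻¹ * (y₂ * x₂) := by rw [h₂.yx]; group
    have : ((z₁, z₂) : G₁ × G₂) = ((x₁, x₂) * (y₁, y₂))⁻¹ * ((y₁, y₂) * (x₁, x₂)) := by
      ext
      · simpa using e1
      · simpa using e2
    rw [this]
    exact Γ.mul_mem (Γ.inv_mem (Γ.mul_mem hxm hym)) (Γ.mul_mem hym hxm)
  set X : Γ := ⟨(x₁, x₂), hxm⟩ with hX
  set Y : Γ := ⟨(y₁, y₂), hym⟩ with hY
  set Z : Γ := ⟨(z₁, z₂), hzm⟩ with hZ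
  set D : Γ := ⟨(d₁, d₂), hdm⟩ with hD
  have hrel : Rel54 X Y Z D := by
    constructor <;> apply Subtype.ext <;> apply Prod.ext <;>
      simp [hX, hY, hZ, hD, h₁.x3, h₁.y3, h₁.z3, h₁.d2, h₂.x3, h₂.y3, h₂.z3, h₂.d2, h₁.zx, h₁.zy,
        h₁.zd, h₂.zx, h₂.zy, h₂.zd, h₁.yx, h₂.yx, h₁.dx, h₂.dx, h₁.dy, h₂.dy]
  have hgenΓ : Subgroup.closure ({X, Y, D} : Set Γ) = ⊤ := by
    have := Subgroup.closure_closure_coe_preimage (k := gens)
    convert this using 2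
    ext ⟨w, hw⟩
    simp only [Set.mem_insert_iff, Set.mem_singleton_iff, Set.mem_preimage, hgens, hX, hY, hD,
      Subtype.mk.injEq]
  obtain ⟨hfin, hcard⟩ := card_le_of_rel54 hrel hgenΓ
  -- projections
  let p₁ : Γ →* G₁ := (MonoidHom.fst G₁ G₂).comp Γ.subtype
  let p₂ : Γ →* G₂ := (MonoidHom.snd G₁ G₂).comp Γ.subtype
  have hs₁ : Function.Surjective p₁ := by
    rw [← MonoidHom.range_eq_top, eq_top_iff, ← g₁, Subgroup.closure_le]
    intro a ha
    simp only [Set.mem_insert_iff, Set.mem_singleton_iff] at ha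
    rcases ha with rfl | rfl | rfl
    · exact ⟨X, rfl⟩
    · exact ⟨Y, rfl⟩
    · exact ⟨D, rfl⟩
  have hs₂ : Function.Surjective p₂ := by
    rw [← MonoidHom.range_eq_top, eq_top_iff, ← g₂, Subgroup.closure_le]
    intro a ha
    simp only [Set.mem_insert_iff, Set.mem_singleton_iff] at ha
    rcases ha with rfl | rfl | rfl
    · exact ⟨X, rfl⟩
    · exact ⟨Y, rfl⟩
    · exact ⟨D, rfl⟩
  have hb₁ : Function.Bijective p₁ := hs₁.bijective_of_nat_card_le (by rw [c₁]; exact hcard)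
  have hb₂ : Function.Bijective p₂ := hs₂.bijective_of_nat_card_le (by rw [c₂]; exact hcard)
  exact ⟨(MulEquiv.ofBijective p₁ hb₁).symm.trans (MulEquiv.ofBijective p₂ hb₂)⟩

end Cfsg.Agent.Lib.Helper29
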