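import Mathlib
import Cfsg.Agent.Lib.Helper40.SpNonex

/-!
# S2474 module `[PNC]` (helper40's project, board #3492)

An element of `PSp_{2n}(q)` of order `2r` (`q` odd, `r` an odd prime `≠ p`) forces `η(k) ≤ n`, and
in case of equality `4 ∣ q^n + 1` (`k` even) resp. `4 ∣ q^n - 1` (`k` odd), where
`k = ord_r(q)`.
-/

set_option autoImplicit false
set_option linter.unusedSectionVars false

namespace Cfsg.Agent.Lib.Helper29.SpTwoPrimeNec

open Matrix Polynomial Module Cfsg.Agent.Lib.Helper40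

/-! ### Arithmetic -/

theorem three_pow_mod_four (i : ℕ) : 3 ^ i % 4 = if Even i then 1 else 3 := by
  induction i with
  | zero => simp
  | succ i ih =>
    rw [pow_succ, Nat.mul_mod, ih]
    by_cases h : Even i
    · have h' : ¬ Even (i + 1) := by rw [Nat.even_add_one]; exact not_not.2 h
      rw [if_pos h, if_neg h']
    · have h' : Even (i + 1) := by rw [Nat.even_add_one]; exact h
      rw [if_neg h, if_pos h']

theorem four_dvd_pow_add_one {q i : ℕ} (hq : q % 2 = 1) (h : 4 ∣ q ^ i + 1) :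
    q % 4 = 3 ∧ Odd i := by
  have h1 : q % 4 = 1 ∨ q % 4 = 3 := by omega
  have h2 : (q ^ i + 1) % 4 = 0 := Nat.mod_eq_zero_of_dvd h
  have h3 : q ^ i % 4 = (q % 4) ^ i % 4 := Nat.pow_mod q i 4
  rcases h1 with h1 | h1
  · rw [h1, one_pow] at h3
    omega
  · refine ⟨h1, ?_⟩
    rw [h1, three_pow_mod_four] at h3
    by_contra hodd
    rw [Nat.not_odd_iff_even] at hodd
    rw [if_pos hodd] at h3
    omega

theorem four_dvd_pow_add_one_of_odd {q n : ℕ} (hq : q % 4 = 3) (hn : Odd n) : 4 ∣ q ^ n + 1 := by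
  have h3 : q ^ n % 4 = (q % 4) ^ n % 4 := Nat.pow_mod q n 4
  rw [hq, three_pow_mod_four, if_neg (Nat.not_even_iff_odd.2 hn)] at h3
  omega

theorem order_eq_four_mul {o r : ℕ} (hr : r.Prime) (h1 : o ∣ 4 * r) (h2 : ¬ o ∣ 2 * r)
    (h3 : ¬ o ∣ 4) : o = 4 * r := by
  have hro : r ∣ o := by
    by_contra hnd
    have hcop : o.Coprime r := ((Nat.Prime.coprime_iff_not_dvd hr).mpr hnd).symm
    exact h3 (hcop.dvd_of_dvd_mul_right h1)
  obtain ⟨o', rfl⟩ := hro
  have h4 : o' ∣ 4 := by
    rw [mul_comm 4 r] at h1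
    exact (Nat.mul_dvd_mul_iff_left hr.pos).mp h1
  have h5 : o' ≤ 4 := Nat.le_of_dvd (by norm_num) h4
  have h6 : o' ≠ 0 := by
    rintro rfl
    simp at h4
  interval_cases o'
  · exact absurd rfl h6
  · exfalso; apply h2; exact ⟨2, by ring⟩
  · exfalso; apply h2; exact ⟨1, by ring⟩
  · exfalso; revert h4; decide
  · ring

/-- the arithmetic of the case `A ^ (2r) = -1` -/
theorem arith_case_two (q r k ηk n e' : ℕ) (hr : r.Prime) (hr2 : r ≠ 2) (hq2 : q % 2 = 1)
    (hn : 1 ≤ n) (hk : orderOf (q : ZMod r) = k) (hk0 : 0 < k)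
    (he' : orderOf (q : ZMod (4 * r)) = e') (he0 : 0 < e')
    (hηk : (Odd k ∧ ηk = k) ∨ (Even k ∧ 2 * ηk = k)) (hle : e' ≤ 2 * n)
    (hneg : (∀ i : ℕ, (q : ZMod (4 * r)) ^ i ≠ -1) → 2 * e' ≤ 2 * n) :
    ηk ≤ n ∧ (ηk = n → (Even k ∧ 4 ∣ q ^ n + 1) ∨ (Odd k ∧ 4 ∣ q ^ n - 1)) := by
  have hpow1 : (q : ZMod (4 * r)) ^ e' = 1 := by
    rw [← he']
    exact pow_orderOf_eq_one _
  have hke : k ∣ e' := by
    rw [← hk]
    apply orderOf_dvd_of_pow_eq_one
    have := congrArg (ZMod.castHom (dvd_mul_left r 4) (ZMod r)) hpow1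
    rw [map_pow, map_natCast, map_one] at this
    exact this
  have hkle : k ≤ e' := Nat.le_of_dvd he0 hke
  have hnegr : ∀ i : ℕ, (q : ZMod (4 * r)) ^ i = -1 → (q : ZMod r) ^ i = -1 := by
    intro i hi
    have := congrArg (ZMod.castHom (dvd_mul_left r 4) (ZMod r)) hi
    rw [map_pow, map_natCast, map_neg, map_one] at this
    exact this
  have hneg4 : ∀ i : ℕ, (q : ZMod (4 * r)) ^ i = -1 → 4 ∣ q ^ i + 1 := by
    intro i hi
    have h1 := congrArg (ZMod.castHom (dvd_mul_right 4 r) (ZMod 4)) hi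
    rw [map_pow, map_natCast, map_neg, map_one] at h1
    have h2 : ((q ^ i + 1 : ℕ) : ZMod 4) = 0 := by
      push_cast
      rw [h1]
      ring
    exact (ZMod.natCast_eq_zero_iff _ _).1 h2
  rcases hηk with ⟨hodd, rfl⟩ | ⟨heven, h2⟩
  · have hno : ∀ i : ℕ, (q : ZMod (4 * r)) ^ i ≠ -1 := fun i h =>
      pow_ne_neg_one_of_odd_order r hr hr2 q (hk ▸ hodd) i (hnegr i h)
    have h2e := hneg hno
    refine ⟨by omega, fun hkn => Or.inr ⟨hodd, ?_⟩⟩
    have hen : e' = n := by omega
    rw [hen] at hpow1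
    have h1 := congrArg (ZMod.castHom (dvd_mul_right 4 r) (ZMod 4)) hpow1
    rw [map_pow, map_natCast, map_one] at h1
    have h3 : ((1 : ℕ) : ZMod 4) = ((q ^ n : ℕ) : ZMod 4) := by
      push_cast
      exact h1.symm
    have h4 : 1 ≡ q ^ n [MOD 4] := (ZMod.natCast_eq_natCast_iff _ _ _).1 h3
    have hq0 : 0 < q := by omega
    exact (Nat.modEq_iff_dvd' (Nat.one_le_pow _ _ hq0)).1 h4
  · refine ⟨by omega, fun hkn => Or.inl ⟨heven, ?_⟩⟩
    have hk2n : k = 2 * n := by omega
    by_cases hex : ∃ i : ℕ, (q : ZMod (4 * r)) ^ i = -1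
    · obtain ⟨i, hi⟩ := hex
      obtain ⟨hd1, hd2⟩ := order_dvd_of_pow_eq_neg_one r hr hr2 q i (hnegr i hi)
      rw [hk, hk2n] at hd1 hd2
      have hni : n ∣ i := (Nat.mul_dvd_mul_iff_left two_pos).1 hd1
      obtain ⟨t, rfl⟩ := hni
      have htodd : Odd t := by
        by_contra hto
        rw [Nat.not_odd_iff_even] at hto
        obtain ⟨t', rfl⟩ := hto
        exact hd2 ⟨t', by ring⟩
      obtain ⟨hq4, hiodd⟩ := four_dvd_pow_add_one hq2 (hneg4 _ hi)
      have hnodd : Odd n := (Nat.odd_mul.1 hiodd).1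
      exact four_dvd_pow_add_one_of_odd hq4 hnodd
    · push Not at hex
      have := hneg hex
      omega

/-! ### Roots of the characteristic polynomial -/

section roots
variable {K : Type*} [Field K] {ι : Type*} [Fintype ι] [DecidableEq ι]

theorem exists_eigvec (M : Matrix ι ι K) (y : K) (hy : M.charpoly.IsRoot y) :
    ∃ v : ι → K, v ≠ 0 ∧ M *ᵥ v = y • v := by
  rw [IsRoot, Matrix.eval_charpoly] at hy
  obtain ⟨v, hv, hv0⟩ := Matrix.exists_mulVec_eq_zero_iff.mpr hy
  refine ⟨v, hv, ?_⟩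
  have h3 : (Matrix.scalar ι y - M) *ᵥ v = y • v - M *ᵥ v := by
    rw [Matrix.sub_mulVec]
    congr 1
    ext i
    simp [Matrix.mulVec, dotProduct, Matrix.scalar_apply, Matrix.diagonal_apply]
  rw [h3] at hv0
  exact (sub_eq_zero.mp hv0).symm

theorem pow_mulVec_eigvec {M : Matrix ι ι K} {y : K} {v : ι → K} (h : M *ᵥ v = y • v) (i : ℕ) :
    (M ^ i) *ᵥ v = y ^ i • v := by
  induction i with
  | zero => simp
  | succ i ih =>
    rw [pow_succ, ← Matrix.mulVec_mulVec, h, Matrix.mulVec_smul, ih, smul_smul, pow_succ']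

/-- a root `y` of the characteristic polynomial of `M` with `M ^ m = c • 1` satisfies `y ^ m = c` -/
theorem root_pow_eq (M : Matrix ι ι K) (y : K) (hy : M.charpoly.IsRoot y) (m : ℕ) (c : K)
    (hM : M ^ m = c • (1 : Matrix ι ι K)) : y ^ m = c := by
  obtain ⟨v, hv, hMv⟩ := exists_eigvec M y hy
  have h1 := pow_mulVec_eigvec hMv m
  rw [hM, Matrix.smul_mulVec, Matrix.one_mulVec] at h1
  have h2 : (y ^ m - c) • v = 0 := by rw [sub_smul, ← h1, sub_self]
  rcases smul_eq_zero.mp h2 with h | h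
  · exact sub_eq_zero.mp h
  · exact absurd h hv

theorem isRoot_neg_charpoly_neg (M : Matrix ι ι K) (y : K) (hy : (-M).charpoly.IsRoot y) :
    M.charpoly.IsRoot (-y) := by
  rw [IsRoot, Matrix.eval_charpoly] at hy ⊢
  have h1 : (Matrix.scalar ι) (-y) - M = -((Matrix.scalar ι) y - -M) := by
    rw [map_neg]
    abel
  rw [h1, Matrix.det_neg, hy, mul_zero]

end roots

section main
variable {F : Type*} [Field F] [Fintype F]

theorem isRoot_map_iff {ι : Type*} [Fintype ι] [DecidableEq ι] (A : Matrix ι ι F)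
    (z : AlgebraicClosure F) :
    (A.map (algebraMap F (AlgebraicClosure F))).charpoly.IsRoot z ↔ aeval z A.charpoly = 0 := by
  rw [Matrix.charpoly_map, Polynomial.IsRoot, Polynomial.eval_map_algebraMap]

theorem aeval_neg_charpoly_neg {ι : Type*} [Fintype ι] [DecidableEq ι] (A : Matrix ι ι F)
    (z : AlgebraicClosure F) (hz : aeval z (-A).charpoly = 0) : aeval (-z) A.charpoly = 0 := by
  rw [← isRoot_map_iff] at hz ⊢
  apply isRoot_neg_charpoly_neg
  have : -(A.map (algebraMap F (AlgebraicClosure F))) =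
      (-A).map (algebraMap F (AlgebraicClosure F)) := by
    rw [Matrix.map_neg]
    intro a
    exact map_neg _ a
  rw [this]
  exact hz

/-- roots of the characteristic polynomial inherit polynomial identities `A ^ m = ± 1` -/
theorem root_pow_eq_one {ι : Type*} [Fintype ι] [DecidableEq ι] (A : Matrix ι ι F)
    (z : AlgebraicClosure F) (hz : aeval z A.charpoly = 0) (m : ℕ) (hA : A ^ m = 1) :
    z ^ m = 1 := by
  apply root_pow_eq (A.map (algebraMap F (AlgebraicClosure F))) z ((isRoot_map_iff A z).2 hz) m 1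
  have h1 : A.map (algebraMap F (AlgebraicClosure F)) =
      (algebraMap F (AlgebraicClosure F)).mapMatrix A := rfl
  rw [h1, ← map_pow, hA, map_one, one_smul]

theorem root_pow_eq_neg_one {ι : Type*} [Fintype ι] [DecidableEq ι] (A : Matrix ι ι F)
    (z : AlgebraicClosure F) (hz : aeval z A.charpoly = 0) (m : ℕ) (hA : A ^ m = -1) :
    z ^ m = -1 := by
  apply root_pow_eq (A.map (algebraMap F (AlgebraicClosure F))) z ((isRoot_map_iff A z).2 hz) m
    (-1)
  have h1 : A.map (algebraMap F (AlgebraicClosure F)) =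
      (algebraMap F (AlgebraicClosure F)).mapMatrix A := rfl
  rw [h1, ← map_pow, hA, map_neg, map_one, neg_smul, one_smul]

/-- the case `A ^ (2r) = 1` with an eigenvalue of order `r` -/
theorem case_one (p : ℕ) [Fact p.Prime] [CharP F p] (hp2 : p ≠ 2) (r : ℕ) (hr : r.Prime)
    (hr2 : r ≠ 2) (hrp : r ≠ p) {n : ℕ}
    (A : Matrix (Fin n ⊕ Fin n) (Fin n ⊕ Fin n) F) (hA : A ∈ Matrix.symplecticGroup (Fin n) F)
    (h1 : A ^ (2 * r) = 1) (h2 : A ^ r ≠ 1) (ν : AlgebraicClosure F)
    (hνroot : aeval ν A.charpoly = 0) (hνr : ν ^ r = 1) (hν1 : ν ≠ 1)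
    (k ηk : ℕ) (hk : orderOf ((Fintype.card F : ℕ) : ZMod r) = k)
    (hηk : (Odd k ∧ ηk = k) ∨ (Even k ∧ 2 * ηk = k)) : ηk + 1 ≤ n := by
  classical
  have hpp : p.Prime := Fact.out
  have : Fact r.Prime := ⟨hr⟩
  have : CharP (AlgebraicClosure F) p :=
    charP_of_injective_algebraMap (algebraMap F (AlgebraicClosure F)).injective p
  have h2K : ((2 : ℕ) : AlgebraicClosure F) ≠ 0 := by
    intro h0
    have h1 := (CharP.cast_eq_zero_iff (AlgebraicClosure F) p 2).mp h0
    exact hp2 ((Nat.prime_dvd_prime_iff_eq hpp Nat.prime_two).mp h1)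
  have hrq : ¬ r ∣ Fintype.card F := by
    intro h
    obtain ⟨e, he⟩ := FiniteField.card F p
    rw [he.2] at h
    exact hrp ((Nat.prime_dvd_prime_iff_eq hr hpp).mp (hr.dvd_of_dvd_pow h))
  have hk0 : 0 < k := by
    rw [← hk]
    exact order_pos hrq
  have hν0 : ν ≠ 0 := by
    rintro rfl
    rw [zero_pow hr.ne_zero] at hνr
    exact zero_ne_one hνr
  have hord : orderOf (Units.mk0 ν hν0) = r := by
    apply orderOf_eq_prime
    · apply Units.ext
      rw [Units.val_pow_eq_pow_val, Units.val_mk0, hνr, Units.val_one]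
    · intro h
      apply hν1
      have := congrArg Units.val h
      rw [Units.val_mk0, Units.val_one] at this
      exact this
  obtain ⟨s, hs, hcard⟩ := exists_finset_two_eta
    {x : (AlgebraicClosure F)ˣ | aeval (x : AlgebraicClosure F) A.charpoly = 0} (Fintype.card F)
    (by
      intro x hx
      show aeval ((x ^ Fintype.card F : (AlgebraicClosure F)ˣ) : AlgebraicClosure F) A.charpoly = 0
      rw [Units.val_pow_eq_pow_val]
      exact aeval_pow_card_eq_zero A.charpoly (x : AlgebraicClosure F) hx)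
    (by
      intro x hx
      show aeval ((x⁻¹ : (AlgebraicClosure F)ˣ) : AlgebraicClosure F) A.charpoly = 0
      rw [Units.val_inv_eq_inv_val]
      exact aeval_inv_charpoly_of_symplectic A hA (x : AlgebraicClosure F) hx)
    (Units.mk0 ν hν0) (by
      show aeval ((Units.mk0 ν hν0 : (AlgebraicClosure F)ˣ) : AlgebraicClosure F) A.charpoly = 0
      rw [Units.val_mk0]
      exact hνroot) r hr hr2 hord k ηk hk0 hk hηk
  -- a root `μ` with `μ ^ r ≠ 1`
  obtain ⟨μ, hμroot, -, hμr⟩ := exists_root_charpoly_of_pow (K := AlgebraicClosure F) A 2 r h2K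
    (by rw [mul_comm]; exact h1) h2
  set Z : Finset (AlgebraicClosure F) := s.map ⟨Units.val, Units.val_injective⟩ with hZ
  have hZroot : ∀ z ∈ Z, aeval z A.charpoly = 0 := by
    intro z hz
    obtain ⟨x, hx, rfl⟩ := Finset.mem_map.mp hz
    exact (hs x hx).1
  have hZr : ∀ z ∈ Z, z ^ r = 1 := by
    intro z hz
    obtain ⟨x, hx, rfl⟩ := Finset.mem_map.mp hz
    have h3 : x ^ r = 1 := by
      rw [← (hs x hx).2]
      exact pow_orderOf_eq_one x
    have := congrArg Units.val h3
    rw [Units.val_pow_eq_pow_val, Units.val_one] at this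
    exact this
  have hμZ : μ ∉ Z := fun h => hμr (hZr μ h)
  have hZcard : Z.card = s.card := Finset.card_map _
  have h2n := card_le_of_roots_charpoly A (insert μ Z) (by
    intro z hz
    rcases Finset.mem_insert.mp hz with rfl | hz
    · exact hμroot
    · exact hZroot z hz)
  rw [Finset.card_insert_of_notMem hμZ, Fintype.card_sum, Fintype.card_fin] at h2n
  omega

/-- MODULE [PNC] -/
theorem sp_two_mul_prime_nec (p : ℕ) [Fact p.Prime] [CharP F p]
    (hp2 : p ≠ 2) (r : ℕ) (hr : r.Prime) (hr2 : r ≠ 2) (hrp : r ≠ p) {n : ℕ} (hn : 1 ≤ n)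
    (A : Matrix (Fin n ⊕ Fin n) (Fin n ⊕ Fin n) F) (hA : A ∈ Matrix.symplecticGroup (Fin n) F)
    (h1 : A ^ (2 * r) = 1 ∨ A ^ (2 * r) = -1) (h2 : A ^ r ≠ 1 ∧ A ^ r ≠ -1)
    (h3 : A ^ 2 ≠ 1 ∧ A ^ 2 ≠ -1)
    (k ηk : ℕ) (hk : orderOf ((Fintype.card F : ℕ) : ZMod r) = k)
    (hηk : (Odd k ∧ ηk = k) ∨ (Even k ∧ 2 * ηk = k)) :
    ηk ≤ n ∧ (ηk = n → (Even k ∧ 4 ∣ Fintype.card F ^ n + 1) ∨
      (Odd k ∧ 4 ∣ Fintype.card F ^ n - 1)) := by
  classical
  have hpp : p.Prime := Fact.out
  have : Fact r.Prime := ⟨hr⟩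
  have : CharP (AlgebraicClosure F) p :=
    charP_of_injective_algebraMap (algebraMap F (AlgebraicClosure F)).injective p
  have hrK : (r : AlgebraicClosure F) ≠ 0 := by
    intro h0
    have h1 := (CharP.cast_eq_zero_iff (AlgebraicClosure F) p r).mp h0
    exact hrp ((Nat.prime_dvd_prime_iff_eq hpp hr).mp h1).symm
  have h2K : (2 : AlgebraicClosure F) ≠ 0 := by
    intro h0
    have h0' : ((2 : ℕ) : AlgebraicClosure F) = 0 := by exact_mod_cast h0
    have h1 := (CharP.cast_eq_zero_iff (AlgebraicClosure F) p 2).mp h0'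
    exact hp2 ((Nat.prime_dvd_prime_iff_eq hpp Nat.prime_two).mp h1)
  have hrodd : Odd r := hr.odd_of_ne_two hr2
  have hrq : ¬ r ∣ Fintype.card F := by
    intro h
    obtain ⟨e, he⟩ := FiniteField.card F p
    rw [he.2] at h
    exact hrp ((Nat.prime_dvd_prime_iff_eq hr hpp).mp (hr.dvd_of_dvd_pow h))
  have hk0 : 0 < k := by
    rw [← hk]
    exact order_pos hrq
  rcases h1 with h1 | h1
  · -- `A ^ (2r) = 1`
    have hkey : ηk + 1 ≤ n := by
      obtain ⟨ν, hνroot, hν2r, hν2⟩ := exists_root_charpoly_of_pow (K := AlgebraicClosure F) A r 2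
        hrK h1 h3.1
      have hsq : ν ^ r * ν ^ r = 1 := by
        rw [← pow_add, ← two_mul]; exact hν2r
      rcases mul_self_eq_one_iff.1 hsq with hνr | hνr
      · have hν1 : ν ≠ 1 := by
          rintro rfl
          exact hν2 (one_pow 2)
        exact case_one p hp2 r hr hr2 hrp A hA h1 h2.1 ν hνroot hνr hν1 k ηk hk hηk
      · have hν1 : -ν ≠ 1 := by
          intro h
          apply hν2
          have : ν = -1 := by rw [← h, neg_neg]
          rw [this]; norm_num
        have hνr' : (-ν) ^ r = 1 := by rw [hrodd.neg_pow, hνr, neg_neg]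
        have hroot' : aeval (-ν) (-A).charpoly = 0 := by
          apply aeval_neg_charpoly_neg
          rw [neg_neg]
          exact hνroot
        have h1' : (-A) ^ (2 * r) = 1 := by rw [(even_two_mul r).neg_pow]; exact h1
        have h2' : (-A) ^ r ≠ 1 := by
          rw [hrodd.neg_pow]
          intro h
          apply h2.2
          rw [← h, neg_neg]
        exact case_one p hp2 r hr hr2 hrp (-A) (SymplecticGroup.neg_mem hA) h1' h2' (-ν) hroot'
          hνr' hν1 k ηk hk hηk
    exact ⟨by omega, fun h => by omega⟩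
  · -- `A ^ (2r) = -1`
    have hq2 : Fintype.card F % 2 = 1 := by
      obtain ⟨e, he⟩ := FiniteField.card F p
      rw [he.2]
      exact Nat.odd_iff.1 ((hpp.odd_of_ne_two hp2).pow)
    have h4r : A ^ (4 * r) = 1 := by
      have : 4 * r = 2 * r * 2 := by ring
      rw [this, pow_mul, h1]; norm_num
    have hA4 : A ^ 4 ≠ 1 := by
      intro h4
      apply h3.2
      obtain ⟨m, hm⟩ := hrodd
      have : 2 * r = 4 * m + 2 := by rw [hm]; ring
      rw [this, pow_add, pow_mul, h4, one_pow, one_mul] at h1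
      exact h1
    obtain ⟨ν, hνroot, hν4r, hν4⟩ := exists_root_charpoly_of_pow (K := AlgebraicClosure F) A r 4
      hrK h4r hA4
    have hν2r : ν ^ (2 * r) = -1 := root_pow_eq_neg_one A ν hνroot (2 * r) h1
    have hν0 : ν ≠ 0 := by
      rintro rfl
      rw [zero_pow (Nat.mul_ne_zero (by norm_num) hr.ne_zero)] at hν4r
      exact zero_ne_one hν4r
    -- the order of `ν` is `4r`
    have hord : orderOf (Units.mk0 ν hν0) = 4 * r := by
      apply order_eq_four_mul hr
      · apply orderOf_dvd_of_pow_eq_one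
        apply Units.ext
        rw [Units.val_pow_eq_pow_val, Units.val_mk0, hν4r, Units.val_one]
      · intro h
        have h5 := orderOf_dvd_iff_pow_eq_one.mp h
        have h6 := congrArg Units.val h5
        rw [Units.val_pow_eq_pow_val, Units.val_mk0, Units.val_one, hν2r] at h6
        have h7 : (2 : AlgebraicClosure F) = 0 := by linear_combination -h6
        exact h2K h7
      · intro h
        apply hν4
        have h5 := orderOf_dvd_iff_pow_eq_one.mp h
        have h6 := congrArg Units.val h5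
        rw [Units.val_pow_eq_pow_val, Units.val_mk0, Units.val_one] at h6
        exact h6
    -- the closed set of roots
    obtain ⟨Sset, hSset⟩ : ∃ Sset : Set (AlgebraicClosure F)ˣ,
        Sset = {x : (AlgebraicClosure F)ˣ | aeval (x : AlgebraicClosure F) A.charpoly = 0} :=
      ⟨_, rfl⟩
    have hSq : ∀ x ∈ Sset, x ^ Fintype.card F ∈ Sset := by
      intro x hx
      rw [hSset] at hx ⊢
      show aeval ((x ^ Fintype.card F : (AlgebraicClosure F)ˣ) : AlgebraicClosure F)
        A.charpoly = 0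
      rw [Units.val_pow_eq_pow_val]
      exact aeval_pow_card_eq_zero A.charpoly (x : AlgebraicClosure F) hx
    have hSinv : ∀ x ∈ Sset, x⁻¹ ∈ Sset := by
      intro x hx
      rw [hSset] at hx ⊢
      show aeval ((x⁻¹ : (AlgebraicClosure F)ˣ) : AlgebraicClosure F) A.charpoly = 0
      rw [Units.val_inv_eq_inv_val]
      exact aeval_inv_charpoly_of_symplectic A hA (x : AlgebraicClosure F) hx
    have hνS : Units.mk0 ν hν0 ∈ Sset := by
      rw [hSset]
      show aeval ((Units.mk0 ν hν0 : (AlgebraicClosure F)ˣ) : AlgebraicClosure F) A.charpoly = 0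
      rw [Units.val_mk0]
      exact hνroot
    have hcardS : ∀ t : Finset (AlgebraicClosure F)ˣ, (∀ x ∈ t, x ∈ Sset) → t.card ≤ 2 * n := by
      intro t ht
      have h1 := card_le_of_roots_charpoly A (t.map ⟨Units.val, Units.val_injective⟩) (by
        intro z hz
        obtain ⟨x, hx, rfl⟩ := Finset.mem_map.mp hz
        have := ht x hx
        rw [hSset] at this
        exact this)
      rw [Finset.card_map, Fintype.card_sum, Fintype.card_fin] at h1
      omega
    have h4r0 : 4 * r ≠ 0 := Nat.mul_ne_zero (by norm_num) hr.ne_zero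
    have : NeZero (4 * r) := ⟨h4r0⟩
    have hcop : (Fintype.card F).Coprime (4 * r) := by
      apply Nat.Coprime.mul_right
      · have : (Fintype.card F).Coprime 2 := Nat.coprime_two_right.mpr (Nat.odd_iff.2 hq2)
        exact Nat.Coprime.pow_right 2 this
      · exact ((Nat.Prime.coprime_iff_not_dvd hr).mpr hrq).symm
    obtain ⟨e', he'⟩ : ∃ e', orderOf ((Fintype.card F : ℕ) : ZMod (4 * r)) = e' := ⟨_, rfl⟩
    have he0 : 0 < e' := by
      rw [← he', ← ZMod.coe_unitOfCoprime (Fintype.card F) hcop, orderOf_units]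
      exact orderOf_pos _
    obtain ⟨t, ht, ht1, ht2⟩ := exists_finset_of_closed Sset (Fintype.card F) hSq hSinv _ hνS
      (4 * r) e' hord he0 he'
    have htcard := hcardS t (fun x hx => (ht x hx).1)
    exact arith_case_two (Fintype.card F) r k ηk n e' hr hr2 hq2 hn hk hk0 he' he0 hηk
      (by omega) (fun hneg => by have := ht2 hneg; omega)

end main

end Cfsg.Agent.Lib.Helper29.SpTwoPrimeNec
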