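import Mathlib
import Cfsg.Agent.Lib.Helper29.ThreeInvDefs
import Cfsg.Agent.Lib.Helper54.ThreeInvSeven

/-!
# S3117-[TI-DIM]: `|V| ≤ 32` for an anisotropic quadratic map into a group of order `≤ 4`
-/

set_option autoImplicit false

namespace Cfsg.Agent.Lib.Helper29.ThreeInv

open Cfsg.Agent.Lib.Helper54.ThreeInv

variable {V U : Type*} [AddCommGroup V] [AddCommGroup U]

theorem eq_of_add_eq_zero_of_two {U : Type*} [AddCommGroup U] (h2 : ∀ u : U, u + u = 0) {a b : U}
    (h : a + b = 0) : a = b := by
  calc a = a + (b + b) := by rw [h2, add_zero]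
    _ = (a + b) + b := by rw [add_assoc]
    _ = b := by rw [h, zero_add]

/-- the polar form `y ↦ q (x + y) + q x + q y` as an additive map -/
def AQ.polar {q : V → U} (h : AQ q) (x : V) : V →+ U where
  toFun y := q (x + y) + q x + q y
  map_zero' := by rw [add_zero, h.twoU, h.zero, add_zero]
  map_add' y y' := by
    apply eq_of_add_eq_zero_of_two h.twoU
    have h7 := h.seven x y y'
    have e : q (x + (y + y')) + q x + q (y + y') + (q (x + y) + q x + q y + (q (x + y') + q x + q y'))
        = (q (x + y + y') + q (x + y) + q (x + y') + q (y + y') + q x + q y + q y')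
          + (q x + q x) := by
      rw [add_assoc x y y']
      abel
    rw [e, h7, h.twoU, add_zero]

theorem AQ.polar_apply {q : V → U} (h : AQ q) (x y : V) :
    h.polar x y = q (x + y) + q x + q y := rfl

theorem AQ.card_le [Finite V] [Finite U] {q : V → U} (h : AQ q) (hU : Nat.card U ≤ 4) :
    Nat.card V ≤ 32 := by
  classical
  by_cases hV : ∀ v : V, v = 0
  · have : Subsingleton V := ⟨fun a b => by rw [hV a, hV b]⟩
    rw [Nat.card_of_subsingleton (0 : V)]
    norm_num
  push Not at hV
  obtain ⟨x, hx⟩ := hV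
  have hqx : q x ≠ 0 := fun h0 => hx (h.aniso x h0)
  obtain ⟨φ, hφ⟩ : ∃ φ : V →+ U, φ = h.polar x := ⟨_, rfl⟩
  -- first isomorphism theorem
  have h1 : Nat.card V = Nat.card (V ⧸ φ.ker) * Nat.card φ.ker :=
    AddSubgroup.card_eq_card_quotient_mul_card_addSubgroup φ.ker
  have h2 : Nat.card (V ⧸ φ.ker) = Nat.card φ.range :=
    Nat.card_congr (QuotientAddGroup.quotientKerEquivRange φ).toEquiv
  have h3 : Nat.card φ.range ≤ 4 := le_trans (AddSubgroup.card_le_card_addGroup _) hU
  -- the subgroup `{0, x}`
  let B : AddSubgroup V :=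
    { carrier := {v | v = 0 ∨ v = x}
      zero_mem' := Or.inl rfl
      add_mem' := by
        rintro a b (rfl | rfl) (rfl | rfl)
        · exact Or.inl (add_zero _)
        · exact Or.inr (zero_add _)
        · exact Or.inr (add_zero _)
        · exact Or.inl (h.twoV _)
      neg_mem' := by
        rintro a (rfl | rfl)
        · exact Or.inl neg_zero
        · refine Or.inr ?_
          have := h.twoV a
          exact neg_eq_of_add_eq_zero_left this }
  have hBmem : ∀ v : V, v ∈ B ↔ v = 0 ∨ v = x := fun v => Iff.rfl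
  have hBcard : Nat.card B ≤ 2 := by
    have hsub : (B : Set V) ⊆ ({0, x} : Set V) := by
      intro v hv
      rcases (hBmem v).mp hv with rfl | rfl
      · exact Set.mem_insert _ _
      · exact Set.mem_insert_of_mem _ rfl
    calc Nat.card B = (B : Set V).ncard := Nat.card_coe_set_eq _
      _ ≤ ({0, x} : Set V).ncard := Set.ncard_le_ncard hsub (Set.toFinite _)
      _ ≤ 2 := by
        refine le_trans (Set.ncard_insert_le _ _) ?_
        rw [Set.ncard_singleton]
  have hBT : B ≤ φ.ker := by
    intro v hv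
    rw [AddMonoidHom.mem_ker, hφ, h.polar_apply]
    rcases (hBmem v).mp hv with rfl | rfl
    · rw [add_zero, h.twoU, h.zero, add_zero]
    · rw [h.twoV, h.zero, zero_add, h.twoU]
  obtain ⟨a, b, ha, hb, hab⟩ := exists_two_values h.twoU hU (q x) hqx
  have hfour := AQ.card_le_four_mul h φ.ker B hBT ha hb (by
    intro y hy hyB
    rw [AddMonoidHom.mem_ker, hφ, h.polar_apply] at hy
    have hy0 : y ≠ 0 := fun h0 => hyB ((hBmem y).mpr (Or.inl h0))
    have hyx : y ≠ x := fun h0 => hyB ((hBmem y).mpr (Or.inr h0))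
    have hqy : q y ≠ 0 := fun h0 => hy0 (h.aniso y h0)
    apply hab (q y) hqy
    intro heq
    -- then `q (x + y) = 0`
    rw [heq, add_assoc, h.twoU, add_zero] at hy
    have hxy := h.aniso _ hy
    apply hyx
    have := congrArg (fun t => x + t) hxy
    simp only [add_zero] at this
    rw [← add_assoc, h.twoV, zero_add] at this
    exact this)
  calc Nat.card V = Nat.card φ.range * Nat.card φ.ker := by rw [h1, h2]
    _ ≤ 4 * (4 * Nat.card B) := Nat.mul_le_mul h3 hfour
    _ ≤ 4 * (4 * 2) := by
        apply Nat.mul_le_mul_left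
        exact Nat.mul_le_mul_left _ hBcard
    _ = 32 := by norm_num

end Cfsg.Agent.Lib.Helper29.ThreeInv
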