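import Mathlib
import Cfsg.Agent.Lib.Helper29.ThreeInvDefs
import Cfsg.Agent.Lib.Helper54.ThreeInvSeven
import Cfsg.Agent.Lib.Helper54.ThreeInvFPF
import Cfsg.Agent.Lib.Helper29.ThreeInvDim

/-!
# S3117-[TI-BIG]: an isometry of prime order `≥ 5` has order 5 and acts freely on `V` of order 16
-/

set_option autoImplicit false
set_option linter.unusedTactic false
set_option linter.unreachableTactic false

namespace Cfsg.Agent.Lib.Helper29.ThreeInv

open Cfsg.Agent.Lib.Helper54.ThreeInv

variable {V U : Type*} [AddCommGroup V] [AddCommGroup U]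

/-- the order of a subgroup of an elementary abelian 2-group is a power of 2 -/
theorem card_addSubgroup_eq_two_pow [Finite V] (h2 : ∀ v : V, v + v = 0) (W : AddSubgroup V) :
    ∃ m : ℕ, Nat.card W = 2 ^ m := by
  have hp : IsPGroup 2 (Multiplicative W) := by
    intro x
    refine ⟨1, ?_⟩
    rw [pow_one, pow_two]
    have := h2 (Multiplicative.toAdd x : W)
    apply Multiplicative.toAdd.injective
    apply Subtype.ext
    simpa using this
  obtain ⟨m, hm⟩ := IsPGroup.iff_card.mp hp
  exact ⟨m, by rw [← hm]; exact Nat.card_congr Multiplicative.ofAdd⟩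

/-- if `g` of prime order `r` preserves `q` and `|W| = r + 1`, then `q` is constant on `W∖0` -/
theorem AQ.const_on_range {q : V → U} [Finite V] (h : AQ q) {g : Equiv.Perm V} (hg : g ∈ orth q)
    {r : ℕ} [Fact r.Prime] (hr2 : r ≠ 2) (hgr : g ^ r = 1)
    (hW : Nat.card (dmap g hg.1).range = r + 1) :
    ∃ a : U, a ≠ 0 ∧ ∀ w ∈ (dmap g hg.1).range, w ≠ 0 → q w = a := by
  classical
  have : Fintype V := Fintype.ofFinite V
  have hodd : Odd r := (Fact.out : r.Prime).odd_of_ne_two hr2
  obtain ⟨W, hWdef⟩ : ∃ W : AddSubgroup V, W = (dmap g hg.1).range := ⟨_, rfl⟩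
  rw [← hWdef] at hW ⊢
  -- a nonzero element of `W`
  have hone : 1 < Nat.card W := by
    have := (Fact.out : r.Prime).two_le
    omega
  have hnt : Nontrivial W := Finite.one_lt_card_iff_nontrivial.mp hone
  obtain ⟨⟨w₀, hw₀W⟩, hw₀⟩ := exists_ne (0 : W)
  have hw₀0 : w₀ ≠ 0 := fun h0 => hw₀ (Subtype.ext h0)
  refine ⟨q w₀, fun h0 => hw₀0 (h.aniso _ h0), ?_⟩
  -- the two invariant subsets
  obtain ⟨F, hF⟩ : ∃ F : Finset V, F = Finset.univ.filter (fun v => v ∈ W ∧ v ≠ 0 ∧ q v = q w₀) :=
    ⟨_, rfl⟩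
  obtain ⟨F', hF'⟩ : ∃ F : Finset V, F = Finset.univ.filter (fun v => v ∈ W ∧ v ≠ 0 ∧ q v ≠ q w₀) :=
    ⟨_, rfl⟩
  have hg0 : ∀ v : V, v ≠ 0 → g v ≠ 0 := by
    intro v hv h0
    apply hv
    apply g.injective
    rw [h0, hg.1.map_zero]
  have hinvW : ∀ v ∈ W, g v ∈ W := by
    intro v hv
    rw [hWdef] at hv ⊢
    exact map_mem_range g hg.1 hv
  have hFinv : ∀ v ∈ F, g v ∈ F := by
    intro v hv
    rw [hF, Finset.mem_filter] at hv ⊢
    exact ⟨Finset.mem_univ _, hinvW v hv.2.1, hg0 v hv.2.2.1, by rw [hg.2]; exact hv.2.2.2⟩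
  have hF'inv : ∀ v ∈ F', g v ∈ F' := by
    intro v hv
    rw [hF', Finset.mem_filter] at hv ⊢
    exact ⟨Finset.mem_univ _, hinvW v hv.2.1, hg0 v hv.2.2.1, by rw [hg.2]; exact hv.2.2.2⟩
  have hnofix : ∀ v ∈ W, v ≠ 0 → g v ≠ v := by
    intro v hv hv0 hfix
    rw [hWdef] at hv
    exact hv0 (range_fixed_eq_zero h.twoV g hg.1 hodd hgr hv hfix)
  have hFdvd : r ∣ F.card := by
    have hmod := card_finset_modEq g hgr F hFinv
    have hempty : F.filter (fun v => g v = v) = ∅ := by
      rw [Finset.filter_eq_empty_iff]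
      intro v hv hfix
      rw [hF, Finset.mem_filter] at hv
      exact hnofix v hv.2.1 hv.2.2.1 hfix
    rw [hempty, Finset.card_empty] at hmod
    exact (Nat.modEq_zero_iff_dvd).mp hmod
  have hF'dvd : r ∣ F'.card := by
    have hmod := card_finset_modEq g hgr F' hF'inv
    have hempty : F'.filter (fun v => g v = v) = ∅ := by
      rw [Finset.filter_eq_empty_iff]
      intro v hv hfix
      rw [hF', Finset.mem_filter] at hv
      exact hnofix v hv.2.1 hv.2.2.1 hfix
    rw [hempty, Finset.card_empty] at hmod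
    exact (Nat.modEq_zero_iff_dvd).mp hmod
  -- counting
  have hdisj : Disjoint F F' := by
    rw [Finset.disjoint_left]
    intro v hv hv'
    rw [hF, Finset.mem_filter] at hv
    rw [hF', Finset.mem_filter] at hv'
    exact hv'.2.2.2 hv.2.2.2
  have hunion : F ∪ F' = (Finset.univ.filter (fun v => v ∈ W)).erase 0 := by
    ext v
    rw [Finset.mem_union, hF, hF', Finset.mem_filter, Finset.mem_filter, Finset.mem_erase,
      Finset.mem_filter]
    constructor
    · rintro (hv | hv)
      · exact ⟨hv.2.2.1, Finset.mem_univ _, hv.2.1⟩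
      · exact ⟨hv.2.2.1, Finset.mem_univ _, hv.2.1⟩
    · rintro ⟨hv0, -, hvW⟩
      by_cases hq : q v = q w₀
      · exact Or.inl ⟨Finset.mem_univ _, hvW, hv0, hq⟩
      · exact Or.inr ⟨Finset.mem_univ _, hvW, hv0, hq⟩
  have hcardW : (Finset.univ.filter (fun v => v ∈ W)).card = r + 1 := by
    rw [← hW, Nat.card_eq_fintype_card, Fintype.card_subtype]
  have hsum : F.card + F'.card = r := by
    rw [← Finset.card_union_of_disjoint hdisj, hunion, Finset.card_erase_of_mem, hcardW]
    · rfl
    · rw [Finset.mem_filter]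
      exact ⟨Finset.mem_univ _, W.zero_mem⟩
  have hFpos : 0 < F.card := by
    apply Finset.card_pos.mpr
    exact ⟨w₀, by rw [hF, Finset.mem_filter]; exact ⟨Finset.mem_univ _, hw₀W, hw₀0, rfl⟩⟩
  have hFge : r ≤ F.card := Nat.le_of_dvd hFpos hFdvd
  have hF'0 : F'.card = 0 := by omega
  intro w hwW hw0
  by_contra hne
  have : w ∈ F' := by
    rw [hF', Finset.mem_filter]
    exact ⟨Finset.mem_univ _, hwW, hw0, hne⟩
  rw [Finset.card_eq_zero] at hF'0
  rw [hF'0] at this
  exact absurd this (Finset.notMem_empty _)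

theorem AQ.prime_ge_five [Finite V] [Finite U] {q : V → U} (h : AQ q) (hU : Nat.card U ≤ 4)
    {g : Equiv.Perm V} (hg : g ∈ orth q) {r : ℕ} (hr : r.Prime) (hr5 : 5 ≤ r)
    (hord : orderOf g = r) :
    r = 5 ∧ Nat.card V = 16 ∧ ∀ v : V, g v = v → v = 0 := by
  classical
  have : Fact r.Prime := ⟨hr⟩
  have hr2 : r ≠ 2 := by omega
  have hodd : Odd r := hr.odd_of_ne_two hr2
  have hgr : g ^ r = 1 := by rw [← hord]; exact pow_orderOf_eq_one g
  have hV32 : Nat.card V ≤ 32 := AQ.card_le h hU
  have hmul := card_eq_ker_mul_range g hg.1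
  have hmod := card_range_modEq_one h.twoV g hg.1 hr2 hgr
  obtain ⟨W, hWdef⟩ : ∃ W : AddSubgroup V, W = (dmap g hg.1).range := ⟨_, rfl⟩
  obtain ⟨C, hCdef⟩ : ∃ C : AddSubgroup V, C = (dmap g hg.1).ker := ⟨_, rfl⟩
  rw [← hWdef, ← hCdef] at hmul
  rw [← hWdef] at hmod
  obtain ⟨m, hm⟩ := card_addSubgroup_eq_two_pow h.twoV W
  have hCpos : 0 < Nat.card C := Nat.card_pos
  have hWle : Nat.card W ≤ 32 := by
    calc Nat.card W ≤ Nat.card C * Nat.card W := Nat.le_mul_of_pos_left _ hCpos
      _ = Nat.card V := hmul.symm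
      _ ≤ 32 := hV32
  -- `W ≠ 0`
  have hW1 : Nat.card W ≠ 1 := by
    intro h1
    have hbot : W = ⊥ := AddSubgroup.card_eq_one.mp h1
    have hg1 : g = 1 := by
      ext v
      have : g v - v ∈ W := by
        rw [hWdef, mem_range_dmap]
        exact ⟨v, rfl⟩
      rw [hbot, AddSubgroup.mem_bot, sub_eq_zero] at this
      rw [this, Equiv.Perm.one_apply]
    rw [hg1, orderOf_one] at hord
    omega
  have hm5 : m ≤ 5 := by
    by_contra hlt
    push Not at hlt
    have : 2 ^ 6 ≤ 2 ^ m := Nat.pow_le_pow_right (by norm_num) hlt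
    omega
  have hdvd : r ∣ 2 ^ m - 1 := by
    have h1 : 1 ≤ 2 ^ m := Nat.one_le_two_pow
    rw [hm] at hmod
    exact (Nat.modEq_iff_dvd' h1).mp hmod.symm
  -- the arithmetic
  have hcases : (m = 3 ∧ r = 7) ∨ (m = 4 ∧ r = 5) ∨ (m = 5 ∧ r = 31) := by
    interval_cases m
    · exfalso; rw [hm] at hW1; exact hW1 rfl
    · exfalso
      have := Nat.le_of_dvd (by norm_num) hdvd
      omega
    · exfalso
      have := Nat.le_of_dvd (by norm_num) hdvd
      omega
    · left
      have := Nat.le_of_dvd (by norm_num) hdvd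
      refine ⟨rfl, ?_⟩
      interval_cases r <;> first | rfl | (exfalso; revert hdvd; decide) | (exfalso; revert hr; decide)
    · right; left
      have := Nat.le_of_dvd (by norm_num) hdvd
      refine ⟨rfl, ?_⟩
      interval_cases r <;> first | rfl | (exfalso; revert hdvd; decide) | (exfalso; revert hr; decide)
    · right; right
      have := Nat.le_of_dvd (by norm_num) hdvd
      refine ⟨rfl, ?_⟩
      interval_cases r <;> first | rfl | (exfalso; revert hdvd; decide) | (exfalso; revert hr; decide)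
  -- single orbit cases are impossible
  have hsingle : Nat.card W = r + 1 → False := by
    intro hWr
    rw [hWdef] at hWr
    obtain ⟨a, ha, hconst⟩ := AQ.const_on_range h hg hr2 hgr hWr
    rw [← hWdef] at hconst hWr
    have hfour := AQ.card_le_four_mul h W ⊥ bot_le ha ha (by
      intro y hy hyB
      refine Or.inl (hconst y hy ?_)
      intro h0
      exact hyB (by rw [h0]; exact AddSubgroup.zero_mem _))
    rw [AddSubgroup.card_bot] at hfour
    have := hr.two_le
    omega
  rcases hcases with ⟨rfl, rfl⟩ | ⟨rfl, rfl⟩ | ⟨rfl, rfl⟩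
  · exact absurd (by rw [hm]; norm_num) hsingle
  · -- `r = 5`, `|W| = 16`
    have hW16 : Nat.card W = 16 := by rw [hm]; norm_num
    have hCbot : ∀ c ∈ C, c = 0 := by
      intro c hc
      by_contra hc0
      have hqc : q c ≠ 0 := fun h0 => hc0 (h.aniso c h0)
      obtain ⟨a, b, ha, hb, hab⟩ := exists_two_values h.twoU hU (q c) hqc
      have hfour := AQ.card_le_four_mul h W ⊥ bot_le ha hb (by
        intro w hw hwB
        have hw0 : w ≠ 0 := by
          intro h0
          exact hwB (by rw [h0]; exact AddSubgroup.zero_mem _)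
        have hqw : q w ≠ 0 := fun h0 => hw0 (h.aniso w h0)
        apply hab (q w) hqw
        intro heq
        -- `c + w ≠ 0`
        have hcw : c + w ≠ 0 := by
          intro h0
          have hwc : w = c := by
            have := congrArg (fun t => c + t) h0
            simp only [add_zero] at this
            rw [← add_assoc, h.twoV c, zero_add] at this
            exact this
          have hfix : g w = w := by
            rw [hwc]
            rw [hCdef] at hc
            exact mem_ker_dmap.mp hc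
          rw [hWdef] at hw
          exact hw0 (range_fixed_eq_zero h.twoV g hg.1 hodd hgr hw hfix)
        have hsum : q (c + w) = q c + q w := by
          apply AQ.add_ker_range h hg
          · rw [← hCdef]; exact hc
          · rw [← hWdef]; exact hw
        rw [heq, h.twoU] at hsum
        exact hcw (h.aniso _ hsum))
      rw [AddSubgroup.card_bot] at hfour
      omega
    have hC1 : Nat.card C = 1 := by
      rw [AddSubgroup.card_eq_one, AddSubgroup.eq_bot_iff_forall]
      exact hCbot
    refine ⟨rfl, by rw [hmul, hC1, hW16], ?_⟩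
    intro v hv
    apply hCbot v
    rw [hCdef]
    exact mem_ker_dmap.mpr hv
  · exact absurd (by rw [hm]; norm_num) hsingle

end Cfsg.Agent.Lib.Helper29.ThreeInv
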