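import Mathlib
import Cfsg.Agent.Lib.Helper29.ThreeInvDefs
import Cfsg.Agent.Lib.Helper54.ThreeInvSeven
import Cfsg.Agent.Lib.Helper54.ThreeInvFPF

/-!
# S3117-[TI-FIB]: the fibres of `q` when an isometry of order 5 acts on `V` of order 16
-/

set_option autoImplicit false

namespace Cfsg.Agent.Lib.Helper29.ThreeInv

open Cfsg.Agent.Lib.Helper54.ThreeInv

variable {V U : Type*} [AddCommGroup V] [AddCommGroup U]

theorem AQ.fiber_card [Fintype V] [DecidableEq V] [DecidableEq U] {q : V → U}
    (h : AQ q) {g : Equiv.Perm V} (hg : g ∈ orth q) (hord : orderOf g = 5)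
    (hV : Nat.card V = 16) (hfix : ∀ v : V, g v = v → v = 0) (u : U) (hu : u ≠ 0) :
    (Finset.univ.filter (fun v : V => q v = u)).card = 0 ∨
      (Finset.univ.filter (fun v : V => q v = u)).card = 5 := by
  have : Fact (Nat.Prime 5) := ⟨Nat.prime_five⟩
  have hg5 : g ^ 5 = 1 := by rw [← hord]; exact pow_orderOf_eq_one g
  have hcardV : Fintype.card V = 16 := by rw [← Nat.card_eq_fintype_card]; exact hV
  -- every nonzero fibre has size divisible by 5
  have hdvd : ∀ u' : U, u' ≠ 0 → 5 ∣ (Finset.univ.filter (fun v : V => q v = u')).card := by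
    intro u' hu'
    have hinv : ∀ v ∈ Finset.univ.filter (fun v : V => q v = u'),
        g v ∈ Finset.univ.filter (fun v : V => q v = u') := by
      intro v hv
      rw [Finset.mem_filter] at hv ⊢
      exact ⟨Finset.mem_univ _, by rw [hg.2 v]; exact hv.2⟩
    have hmod := card_finset_modEq g hg5 _ hinv
    have hempty : (Finset.univ.filter (fun v : V => q v = u')).filter (fun v => g v = v) = ∅ := by
      rw [Finset.filter_eq_empty_iff]
      intro v hv hgv
      rw [Finset.mem_filter] at hv
      have hv0 := hfix v hgv
      rw [hv0, h.zero] at hv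
      exact hu' hv.2.symm
    rw [hempty, Finset.card_empty] at hmod
    exact (Nat.modEq_zero_iff_dvd).mp hmod
  -- fibres over nonzero values avoid `0`
  have hsub : ∀ u' : U, u' ≠ 0 →
      Finset.univ.filter (fun v : V => q v = u') ⊆ Finset.univ.erase (0 : V) := by
    intro u' hu' v hv
    rw [Finset.mem_filter] at hv
    rw [Finset.mem_erase]
    refine ⟨?_, Finset.mem_univ _⟩
    rintro rfl
    rw [h.zero] at hv
    exact hu' hv.2.symm
  have hcard_erase : (Finset.univ.erase (0 : V)).card = 15 := by
    rw [Finset.card_erase_of_mem (Finset.mem_univ _), Finset.card_univ, hcardV]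
  have hle : (Finset.univ.filter (fun v : V => q v = u)).card ≤ 15 := by
    rw [← hcard_erase]
    exact Finset.card_le_card (hsub u hu)
  obtain ⟨k, hk⟩ := hdvd u hu
  -- a fibre with at least 10 elements is impossible
  have hlt : (Finset.univ.filter (fun v : V => q v = u)).card < 10 := by
    by_contra hge
    push Not at hge
    -- the other value
    have hex : ∃ u' : U, u' ≠ 0 ∧ ∀ v : V, v ≠ 0 → q v = u ∨ q v = u' := by
      by_cases hall : ∀ v : V, v ≠ 0 → q v = u
      · exact ⟨u, hu, fun v hv => Or.inl (hall v hv)⟩
      · push Not at hall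
        obtain ⟨v₀, hv₀, hqv₀⟩ := hall
        have hu' : q v₀ ≠ 0 := fun h0 => hv₀ (h.aniso v₀ h0)
        refine ⟨q v₀, hu', ?_⟩
        -- the two fibres are disjoint inside the 15 nonzero vectors
        have hdisj : Disjoint (Finset.univ.filter (fun v : V => q v = u))
            (Finset.univ.filter (fun v : V => q v = q v₀)) := by
          rw [Finset.disjoint_left]
          intro v hv hv'
          rw [Finset.mem_filter] at hv hv'
          exact hqv₀ (hv'.2.symm.trans hv.2)
        have hne : (Finset.univ.filter (fun v : V => q v = q v₀)).Nonempty :=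
          ⟨v₀, by rw [Finset.mem_filter]; exact ⟨Finset.mem_univ _, rfl⟩⟩
        have h5 : 5 ≤ (Finset.univ.filter (fun v : V => q v = q v₀)).card :=
          Nat.le_of_dvd (Finset.card_pos.mpr hne) (hdvd _ hu')
        have hunion : (Finset.univ.filter (fun v : V => q v = u)) ∪
            (Finset.univ.filter (fun v : V => q v = q v₀)) = Finset.univ.erase (0 : V) := by
          apply Finset.eq_of_subset_of_card_le
          · exact Finset.union_subset (hsub u hu) (hsub _ hu')
          · rw [Finset.card_union_of_disjoint hdisj, hcard_erase]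
            omega
        intro v hv
        have hmem : v ∈ Finset.univ.erase (0 : V) := by
          rw [Finset.mem_erase]
          exact ⟨hv, Finset.mem_univ _⟩
        rw [← hunion, Finset.mem_union, Finset.mem_filter, Finset.mem_filter] at hmem
        rcases hmem with hm | hm
        · exact Or.inl hm.2
        · exact Or.inr hm.2
    obtain ⟨u', hu', hall⟩ := hex
    have hfour := AQ.card_le_four_mul h (⊤ : AddSubgroup V) ⊥ bot_le hu hu' (by
      intro y _ hy
      apply hall y
      intro hy0
      exact hy (by rw [hy0]; exact AddSubgroup.zero_mem _))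
    rw [AddSubgroup.card_top, AddSubgroup.card_bot, hV] at hfour
    omega
  omega

end Cfsg.Agent.Lib.Helper29.ThreeInv
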