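import Mathlib
import Cfsg.Agent.Lib.Helper29.ThreeInvDefs
import Cfsg.Agent.Lib.Helper29.ThreeInvBig
import Cfsg.Agent.Lib.Helper54.ThreeInvNo3
import Cfsg.Agent.S0144

/-!
# S3117-[TI-CORE]: the isometry group of an anisotropic quadratic map into a group of order `≤ 4` is solvable
-/

set_option autoImplicit false

namespace Cfsg.Agent.Lib.Helper29.ThreeInv

open Cfsg.Agent.Lib.Helper54.ThreeInv

variable {V U : Type*} [AddCommGroup V] [AddCommGroup U]

/-- a positive number whose prime divisors are among two primes is a product of powers of them -/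
theorem eq_pow_mul_pow_of_primes {n p₁ p₂ : ℕ} (hn : n ≠ 0) (hp₁ : p₁.Prime) (hp₂ : p₂.Prime)
    (h : ∀ r : ℕ, r.Prime → r ∣ n → r = p₁ ∨ r = p₂) : ∃ a b : ℕ, n = p₁ ^ a * p₂ ^ b := by
  obtain ⟨m₁, hm₁⟩ : ∃ m, m = ordCompl[p₁] n := ⟨_, rfl⟩
  have h1 : ordProj[p₁] n * m₁ = n := by rw [hm₁]; exact Nat.ordProj_mul_ordCompl_eq_self n p₁
  have hm₁0 : m₁ ≠ 0 := by
    rintro rfl
    rw [mul_zero] at h1
    exact hn h1.symm
  have hp₁m₁ : ¬ p₁ ∣ m₁ := by rw [hm₁]; exact Nat.not_dvd_ordCompl hp₁ hn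
  obtain ⟨m₂, hm₂⟩ : ∃ m, m = ordCompl[p₂] m₁ := ⟨_, rfl⟩
  have h2 : ordProj[p₂] m₁ * m₂ = m₁ := by rw [hm₂]; exact Nat.ordProj_mul_ordCompl_eq_self m₁ p₂
  have hp₂m₂ : ¬ p₂ ∣ m₂ := by rw [hm₂]; exact Nat.not_dvd_ordCompl hp₂ hm₁0
  have hm₂m₁ : m₂ ∣ m₁ := Dvd.intro_left _ h2
  have hm₁n : m₁ ∣ n := Dvd.intro_left _ h1
  have hm₂1 : m₂ = 1 := by
    by_contra hne
    obtain ⟨r, hr, hrm⟩ := Nat.exists_prime_and_dvd hne
    rcases h r hr (hrm.trans (hm₂m₁.trans hm₁n)) with rfl | rfl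
    · exact hp₁m₁ (hrm.trans hm₂m₁)
    · exact hp₂m₂ hrm
  refine ⟨n.factorization p₁, m₁.factorization p₂, ?_⟩
  rw [hm₂1, mul_one] at h2
  rw [h2]
  exact h1.symm

theorem AQ.orth_solvable [Finite V] [Finite U] {q : V → U} (h : AQ q) (hU : Nat.card U ≤ 4) :
    Group.IsSolvable (orth q) := by
  classical
  have hfin : Finite (orth q) := inferInstance
  have hn : Nat.card (orth q) ≠ 0 := Nat.card_pos.ne'
  -- elements of prime order
  have hcauchy : ∀ r : ℕ, r.Prime → r ∣ Nat.card (orth q) →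
      ∃ t : Equiv.Perm V, t ∈ orth q ∧ orderOf t = r := by
    intro r hr hdvd
    have : Fact r.Prime := ⟨hr⟩
    obtain ⟨t, ht⟩ := exists_prime_orderOf_dvd_card' r hdvd
    refine ⟨t.1, t.2, ?_⟩
    rw [← ht, Subgroup.orderOf_coe]
  by_cases h5 : ∃ g : Equiv.Perm V, g ∈ orth q ∧ orderOf g = 5
  · obtain ⟨g, hg, hg5⟩ := h5
    obtain ⟨a, b, hab⟩ := eq_pow_mul_pow_of_primes hn Nat.prime_two Nat.prime_five (by
      intro r hr hdvd
      obtain ⟨t, ht, htr⟩ := hcauchy r hr hdvd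
      by_cases hr5 : 5 ≤ r
      · exact Or.inr (AQ.prime_ge_five h hU ht hr hr5 htr).1
      · push Not at hr5
        have hr2 := hr.two_le
        interval_cases r
        · exact Or.inl rfl
        · exact absurd htr (AQ.no_three h hU hg hg5 ht)
        · exact absurd hr (by decide))
    exact Cfsg.Agent.S0144.result 2 5 a b Nat.prime_two Nat.prime_five hab
  · obtain ⟨a, b, hab⟩ := eq_pow_mul_pow_of_primes hn Nat.prime_two Nat.prime_three (by
      intro r hr hdvd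
      obtain ⟨t, ht, htr⟩ := hcauchy r hr hdvd
      by_cases hr5 : 5 ≤ r
      · exfalso
        have := (AQ.prime_ge_five h hU ht hr hr5 htr).1
        exact h5 ⟨t, ht, by rw [htr, this]⟩
      · push Not at hr5
        have hr2 := hr.two_le
        interval_cases r
        · exact Or.inl rfl
        · exact Or.inr rfl
        · exact absurd hr (by decide))
    exact Cfsg.Agent.S0144.result 2 3 a b Nat.prime_two Nat.prime_three hab

end Cfsg.Agent.Lib.Helper29.ThreeInv
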