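import Mathlib
import Cfsg.Agent.Lib.Helper29.ThreeInvGDefs

/-!
# S3117-[TI-GAQ]: the squaring map of a group with central squares and central involutions is an
anisotropic quadratic map
-/

set_option autoImplicit false

universe u

namespace Cfsg.Agent.Lib.Helper29.ThreeInv

variable {X : Type u} [Group X]

/-- the commutator `y⁻¹ x⁻¹ y x` -/
def cm (x y : X) : X := y⁻¹ * x⁻¹ * y * x

theorem cm_mem_center (h1 : SqCentral X) (x y : X) : cm x y ∈ Subgroup.center X := by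
  rw [← piX_eq_zero_iff h1]
  unfold cm
  rw [piX_mul, piX_mul, piX_mul]
  have hx : piX h1 x⁻¹ + piX h1 x = 0 := by rw [← piX_mul, inv_mul_cancel, piX_one]
  have hy : piX h1 y⁻¹ + piX h1 y = 0 := by rw [← piX_mul, inv_mul_cancel, piX_one]
  calc piX h1 y⁻¹ + piX h1 x⁻¹ + piX h1 y + piX h1 x
      = (piX h1 y⁻¹ + piX h1 y) + (piX h1 x⁻¹ + piX h1 x) := by abel
    _ = 0 := by rw [hx, hy, add_zero]

/-- `(xy)^2 = x^2 y^2 [y,x]` when the commutator is central -/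
theorem sq_mul (h1 : SqCentral X) (x y : X) : (x * y) ^ 2 = x ^ 2 * y ^ 2 * cm x y := by
  have hc := Subgroup.mem_center_iff.mp (cm_mem_center h1 x y)
  -- `x y x y = x x y (y⁻¹ x⁻¹ y x) y`
  calc (x * y) ^ 2 = x * x * y * (cm x y * y) := by rw [pow_two]; unfold cm; group
    _ = x * x * y * (y * cm x y) := by rw [hc y]
    _ = x ^ 2 * y ^ 2 * cm x y := by rw [pow_two, pow_two]; group

theorem cm_mul_left (h1 : SqCentral X) (x y w : X) : cm (x * y) w = cm x w * cm y w := by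
  have hc := Subgroup.mem_center_iff.mp (cm_mem_center h1 x w)
  calc cm (x * y) w = w⁻¹ * y⁻¹ * (w * cm x w) * y := by unfold cm; group
    _ = w⁻¹ * y⁻¹ * (cm x w * w) * y := by rw [hc w]
    _ = w⁻¹ * y⁻¹ * cm x w * (w * y) := by group
    _ = cm x w * (w⁻¹ * y⁻¹) * (w * y) := by
        rw [mul_assoc w⁻¹ y⁻¹, hc (y⁻¹), ← mul_assoc w⁻¹, hc w⁻¹, mul_assoc (cm x w)]
    _ = cm x w * cm y w := by unfold cm; group

theorem aq_qX (h1 : SqCentral X) (h3 : ∀ x : X, x ^ 2 = 1 → x ∈ Subgroup.center X) :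
    AQ (qX h1) where
  twoV := VX_two h1
  twoU := UX_two
  zero := by
    rw [← piX_one h1, qX_piX, sigX_eq_zero_iff]
    exact ⟨1, Subtype.ext (by simp)⟩
  aniso := by
    intro v hv
    obtain ⟨x, rfl⟩ := piX_surjective h1 v
    rw [qX_piX, sigX_eq_zero_iff] at hv
    obtain ⟨s, hs⟩ := hv
    have hs' : (s : X) ^ 2 = x ^ 2 := congrArg Subtype.val hs
    have hsc := Subgroup.mem_center_iff.mp s.2
    rw [piX_eq_zero_iff]
    -- `y = x s⁻¹` is an involution or trivial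
    have hy : (x * (s : X)⁻¹) ^ 2 = 1 := by
      have hsc' := Subgroup.mem_center_iff.mp (Subgroup.inv_mem _ s.2)
      calc (x * (s : X)⁻¹) ^ 2 = x * ((s : X)⁻¹ * x) * (s : X)⁻¹ := by rw [pow_two]; group
        _ = x * (x * (s : X)⁻¹) * (s : X)⁻¹ := by rw [hsc' x]
        _ = x ^ 2 * ((s : X) ^ 2)⁻¹ := by rw [pow_two, pow_two]; group
        _ = 1 := by rw [hs', mul_inv_cancel]
    have hyc := h3 _ hy
    have : x = (x * (s : X)⁻¹) * s := by group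
    rw [this]
    exact Subgroup.mul_mem _ hyc s.2
  seven := by
    intro a b c
    obtain ⟨x, rfl⟩ := piX_surjective h1 a
    obtain ⟨y, rfl⟩ := piX_surjective h1 b
    obtain ⟨w, rfl⟩ := piX_surjective h1 c
    rw [← piX_mul, ← piX_mul, ← piX_mul, ← piX_mul, qX_piX, qX_piX, qX_piX, qX_piX, qX_piX,
      qX_piX, qX_piX]
    -- central elements
    obtain ⟨X2, hX2⟩ : ∃ z : Subgroup.center X, z = ⟨x ^ 2, h1 x⟩ := ⟨_, rfl⟩
    obtain ⟨Y2, hY2⟩ : ∃ z : Subgroup.center X, z = ⟨y ^ 2, h1 y⟩ := ⟨_, rfl⟩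
    obtain ⟨W2, hW2⟩ : ∃ z : Subgroup.center X, z = ⟨w ^ 2, h1 w⟩ := ⟨_, rfl⟩
    obtain ⟨Cxy, hCxy⟩ : ∃ z : Subgroup.center X, z = ⟨cm x y, cm_mem_center h1 x y⟩ := ⟨_, rfl⟩
    obtain ⟨Cxw, hCxw⟩ : ∃ z : Subgroup.center X, z = ⟨cm x w, cm_mem_center h1 x w⟩ := ⟨_, rfl⟩
    obtain ⟨Cyw, hCyw⟩ : ∃ z : Subgroup.center X, z = ⟨cm y w, cm_mem_center h1 y w⟩ := ⟨_, rfl⟩
    have e1 : (⟨(x * y) ^ 2, h1 _⟩ : Subgroup.center X) = X2 * Y2 * Cxy := by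
      rw [hX2, hY2, hCxy]
      exact Subtype.ext (sq_mul h1 x y)
    have e2 : (⟨(x * w) ^ 2, h1 _⟩ : Subgroup.center X) = X2 * W2 * Cxw := by
      rw [hX2, hW2, hCxw]
      exact Subtype.ext (sq_mul h1 x w)
    have e3 : (⟨(y * w) ^ 2, h1 _⟩ : Subgroup.center X) = Y2 * W2 * Cyw := by
      rw [hY2, hW2, hCyw]
      exact Subtype.ext (sq_mul h1 y w)
    have e4 : (⟨(x * y * w) ^ 2, h1 _⟩ : Subgroup.center X)
        = X2 * Y2 * Cxy * W2 * (Cxw * Cyw) := by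
      rw [hX2, hY2, hW2, hCxy, hCxw, hCyw]
      apply Subtype.ext
      show (x * y * w) ^ 2 = x ^ 2 * y ^ 2 * cm x y * w ^ 2 * (cm x w * cm y w)
      rw [sq_mul h1 (x * y) w, sq_mul h1 x y, cm_mul_left h1 x y w]
    rw [e1, e2, e3, e4, ← hX2, ← hY2, ← hW2]
    simp only [sigX_mul]
    have t := UX_two (X := X)
    obtain ⟨p, hp⟩ : ∃ p, p = sigX X2 := ⟨_, rfl⟩
    obtain ⟨q', hq⟩ : ∃ p, p = sigX Y2 := ⟨_, rfl⟩
    obtain ⟨r, hr⟩ : ∃ p, p = sigX W2 := ⟨_, rfl⟩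
    obtain ⟨cxy, hcxy⟩ : ∃ p, p = sigX Cxy := ⟨_, rfl⟩
    obtain ⟨cxw, hcxw⟩ : ∃ p, p = sigX Cxw := ⟨_, rfl⟩
    obtain ⟨cyw, hcyw⟩ : ∃ p, p = sigX Cyw := ⟨_, rfl⟩
    rw [← hp, ← hq, ← hr, ← hcxy, ← hcxw, ← hcyw]
    calc p + q' + cxy + r + (cxw + cyw) + (p + q' + cxy) + (p + r + cxw) + (q' + r + cyw) + p + q' + r
        = (p + p) + (p + p) + ((q' + q') + (q' + q')) + ((r + r) + (r + r)) + (cxy + cxy)
          + (cxw + cxw) + (cyw + cyw) := by abel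
      _ = 0 := by simp only [t]

end Cfsg.Agent.Lib.Helper29.ThreeInv
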