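import Mathlib
import Cfsg.Agent.Lib.Helper29.ThreeInvGDefs
import Cfsg.Agent.Lib.Helper29.ThreeInvGAQ
import Cfsg.Agent.Lib.Helper29.ThreeInvCore
import Cfsg.Agent.Lib.Helper11.ThreeInvGU4
import Cfsg.Agent.Lib.Helper11.ThreeInvKer2
import Cfsg.Agent.Lib.Helper11.ThreeInvAut4

/-!
# S3117: assembly on the group side

`mulAut_solvable_of_sqCentral`: a finite 2-group with central squares, central involutions and at most three
involutions has a solvable automorphism group.
-/

set_option autoImplicit false

namespace Cfsg.Agent.Lib.Helper29.ThreeInv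

open Cfsg.Agent.Lib.Helper11.ThreeInv

universe u

variable {X : Type u} [Group X]

theorem mulAut_solvable_of_sqCentral [Finite X] (h2 : IsPGroup 2 X) (h1 : SqCentral X)
    (h3 : ∀ x : X, x ^ 2 = 1 → x ∈ Subgroup.center X)
    (h4 : Nat.card {x : X // orderOf x = 2} ≤ 3) : Group.IsSolvable (MulAut X) := by
  classical
  have hfin : Finite (MulAut X) := Finite.of_injective (fun α : MulAut X => (α : X → X))
    (fun a b h => DFunLike.coe_injective h)
  have hAQ : AQ (qX h1) := aq_qX h1 h3
  have hU : Nat.card (UX X) ≤ 4 := card_UX_le h4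
  have hVfin : Finite (VX X h1) := Finite.of_surjective _ (piX_surjective h1)
  have hUfin : Finite (UX X) := Finite.of_surjective _ (sigX_surjective (X := X))
  have hsolU : Group.IsSolvable (Equiv.Perm (UX X)) := perm_solvable_of_card_le_four hU
  have hsolO : Group.IsSolvable (orth (qX h1)) := AQ.orth_solvable hAQ hU
  -- the kernel of the action on `U` acts on `V` by isometries
  let K1 : Subgroup (MulAut X) := (rhoU (X := X)).ker
  let ψ : K1 →* orth (qX h1) :=
    { toFun := fun α => ⟨rhoV h1 α.1, rhoV_mem_orth h1 (MonoidHom.mem_ker.mp α.2)⟩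
      map_one' := by
        apply Subtype.ext
        show rhoV h1 ((1 : K1) : MulAut X) = 1
        rw [Subgroup.coe_one, map_one]
      map_mul' := by
        intro a b
        apply Subtype.ext
        show rhoV h1 ((a * b : K1) : MulAut X) = rhoV h1 a.1 * rhoV h1 b.1
        rw [Subgroup.coe_mul, map_mul] }
  have hker2 : IsPGroup 2 ψ.ker := by
    apply isPGroup_two_of_odd_trivial
    rintro ⟨⟨α, hα⟩, hαk⟩ hodd
    have hαU : rhoU α = 1 := MonoidHom.mem_ker.mp hα
    have hαV : rhoV h1 α = 1 := by
      rw [MonoidHom.mem_ker] at hαk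
      exact congrArg Subtype.val hαk
    have hoo : orderOf (⟨⟨α, hα⟩, hαk⟩ : ψ.ker) = orderOf α := by
      rw [← Subgroup.orderOf_coe, ← Subgroup.orderOf_coe]
    rw [hoo] at hodd
    have h1' := aut_eq_one_of_trivial h2 h1 α hodd hαV hαU
    apply Subtype.ext
    apply Subtype.ext
    exact h1'
  have hsolker : Group.IsSolvable ψ.ker := by
    have := hker2.isNilpotent
    infer_instance
  have hsolK1 : Group.IsSolvable K1 :=
    Group.isSolvable_of_ker_le_range ψ.ker.subtype ψ (by
      intro x hx
      exact ⟨⟨x, hx⟩, rfl⟩)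
  exact Group.isSolvable_of_ker_le_range K1.subtype (rhoU (X := X)) (by
    intro x hx
    exact ⟨⟨x, hx⟩, rfl⟩)

end Cfsg.Agent.Lib.Helper29.ThreeInv
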