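import Mathlib

/-!
Transfer of an involution into a quotient of order two, evaluated as the parity of a set of
cosets (a form of Thompson's transfer lemma convenient for fixed-point counting).
-/

set_option autoImplicit false

namespace Cfsg.Agent.Lib.Helper29

open MulAction

section Transfer

variable {G : Type*} [Group G]

/-- The sign character of `H` with kernel the index-two subgroup `K`. -/
noncomputable def signHom (H K : Subgroup G) (hidx : K.relIndex H = 2) : ↥H →* ℤˣ := by
  classical
  exact
  { toFun := fun h => if (h : G) ∈ K then 1 else -1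
    map_one' := by simp [K.one_mem]
    map_mul' := by
      intro a b
      have hiff : (a * b) ∈ K.subgroupOf H ↔ (a ∈ K.subgroupOf H ↔ b ∈ K.subgroupOf H) :=
        Subgroup.mul_mem_iff_of_index_two hidx
      simp only [Subgroup.mem_subgroupOf, Subgroup.coe_mul] at hiff
      by_cases ha : (a : G) ∈ K <;> by_cases hb : (b : G) ∈ K <;>
        simp_all }

theorem signHom_apply (H K : Subgroup G) (hidx : K.relIndex H = 2) (x : G) (hx : x ∈ H) :
    signHom H K hidx ⟨x, hx⟩ = (by classical exact if x ∈ K then 1 else -1) := by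
  classical
  rfl

/-- The cosets `gH` fixed by `u` on which `u` acts "outside `K`". -/
def oddCosets (H K : Subgroup G) (u : G) : Set (G ⧸ H) :=
  {q | ∃ g : G, q = ↑g ∧ g⁻¹ * u * g ∈ H ∧ g⁻¹ * u * g ∉ K}

/-- **Thompson transfer, parity form.** If no homomorphism `G → {±1}` detects the involution `u`,
and `K` has index two in `H`, then the number of `u`-fixed cosets `gH` with `g⁻¹ u g ∈ H ∖ K`
is even. -/
theorem even_card_oddCosets [Finite G] (H K : Subgroup G) (hidx : K.relIndex H = 2)
    (u : G) (hu : u * u = 1) (htriv : ∀ f : G →* ℤˣ, f u = 1) :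
    Even (Nat.card (oddCosets H K u)) := by
  classical
  haveI : Fintype (G ⧸ H) := Fintype.ofFinite _
  haveI : Fintype (Quotient (orbitRel (Subgroup.zpowers u) (G ⧸ H))) := Fintype.ofFinite _
  have hV : MonoidHom.transfer (signHom H K hidx) u = 1 := htriv _
  rw [MonoidHom.transfer_eq_prod_quotient_orbitRel_zpowers_quot] at hV
  -- `K` is normal in `H`
  have hKn : ∀ h ∈ H, ∀ y ∈ H, h⁻¹ * y * h ∈ K → y ∈ K := by
    intro h hh y hy hmem
    haveI : (K.subgroupOf H).Normal := Subgroup.normal_of_index_eq_two hidx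
    have h1 : (⟨h⁻¹ * y * h, H.mul_mem (H.mul_mem (H.inv_mem hh) hy) hh⟩ : ↥H) ∈ K.subgroupOf H :=
      Subgroup.mem_subgroupOf.mpr hmem
    have h2 := ‹(K.subgroupOf H).Normal›.conj_mem _ h1 ⟨h, hh⟩
    have h3 : ((⟨h, hh⟩ : ↥H) * ⟨h⁻¹ * y * h, H.mul_mem (H.mul_mem (H.inv_mem hh) hy) hh⟩ *
        (⟨h, hh⟩ : ↥H)⁻¹ : ↥H) = ⟨y, hy⟩ := by
      apply Subtype.ext
      simp only [Subgroup.coe_mul, Subgroup.coe_inv]
      group
    rw [h3] at h2
    exact Subgroup.mem_subgroupOf.mp h2
  have hu2 : u ^ 2 = 1 := by rw [pow_two, hu]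
  have hper : ∀ x : G ⧸ H, Function.minimalPeriod (u • ·) x = 1 ∨
      Function.minimalPeriod (u • ·) x = 2 := by
    intro x
    have hpp : Function.IsPeriodicPt (u • ·) 2 x := by
      show (u • ·)^[2] x = x
      simp only [Function.iterate_succ, Function.iterate_zero, Function.comp_apply, id_eq]
      rw [smul_smul, hu, one_smul]
    have hd := hpp.minimalPeriod_dvd
    rcases (Nat.dvd_prime Nat.prime_two).mp hd with h | h
    · exact Or.inl h
    · exact Or.inr h
  simp only [signHom_apply] at hV
  rw [Finset.prod_ite, Finset.prod_const_one, one_mul, Finset.prod_const] at hV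
  have heven : Even (Finset.card (Finset.univ.filter
      (fun q : Quotient (orbitRel (Subgroup.zpowers u) (G ⧸ H)) =>
        ¬ (q.out.out⁻¹ * u ^ Function.minimalPeriod (u • ·) q.out * q.out.out ∈ K)))) := by
    by_contra hodd
    rw [Nat.not_even_iff_odd] at hodd
    rw [hodd.neg_one_pow] at hV
    exact absurd hV (by decide)
  have hcard : Nat.card (oddCosets H K u) =
      (Finset.univ.filter (fun x : G ⧸ H => x ∈ oddCosets H K u)).card := by
    rw [Nat.card_eq_fintype_card, Fintype.card_subtype]
  rw [hcard]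
  have hbij : (Finset.univ.filter
      (fun q : Quotient (orbitRel (Subgroup.zpowers u) (G ⧸ H)) =>
        ¬ (q.out.out⁻¹ * u ^ Function.minimalPeriod (u • ·) q.out * q.out.out ∈ K))).card =
      (Finset.univ.filter (fun x : G ⧸ H => x ∈ oddCosets H K u)).card := by
    apply Finset.card_bij (fun q _ => q.out)
    · intro q hq
      simp only [Finset.mem_filter, Finset.mem_univ, true_and] at hq ⊢
      have hmem := QuotientGroup.out_conj_pow_minimalPeriod_mem H u q.out
      rcases hper q.out with hm | hm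
      · rw [hm, pow_one] at hq hmem
        exact ⟨q.out.out, (QuotientGroup.out_eq' q.out).symm, hmem, hq⟩
      · exfalso
        apply hq
        rw [hm, hu2, mul_one, inv_mul_cancel]
        exact K.one_mem
    · intro q _ q' _ h
      exact Quotient.out_injective h
    · intro x hx
      simp only [Finset.mem_filter, Finset.mem_univ, true_and] at hx ⊢
      obtain ⟨g, rfl, hgH, hgK⟩ := hx
      have hfix : u • (g : G ⧸ H) = (g : G ⧸ H) := by
        rw [MulAction.Quotient.smul_coe, smul_eq_mul, eq_comm, QuotientGroup.eq, ← mul_assoc]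
        exact hgH
      have hfixz : ∀ v : Subgroup.zpowers u, v • (g : G ⧸ H) = (g : G ⧸ H) := by
        rintro ⟨v, hv⟩
        obtain ⟨k, rfl⟩ := Subgroup.mem_zpowers_iff.mp hv
        show (u ^ k) • (g : G ⧸ H) = (g : G ⧸ H)
        exact zpow_smul_eq_iff_minimalPeriod_dvd.mpr (by
          have : Function.minimalPeriod (u • ·) (g : G ⧸ H) = 1 :=
            Function.minimalPeriod_eq_one_iff_isFixedPt.mpr hfix
          rw [this]; simp)
      set q : Quotient (orbitRel (Subgroup.zpowers u) (G ⧸ H)) := Quotient.mk'' (g : G ⧸ H)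
        with hq
      have hout : q.out = (g : G ⧸ H) := by
        have hrel : (orbitRel (Subgroup.zpowers u) (G ⧸ H)).r q.out (g : G ⧸ H) :=
          Quotient.exact (Quotient.out_eq q)
        rw [orbitRel_apply] at hrel
        obtain ⟨v, hv⟩ := hrel
        rw [← hv]
        exact hfixz v
      refine ⟨q, ?_, hout⟩
      rw [hout]
      have hm : Function.minimalPeriod (u • ·) (g : G ⧸ H) = 1 :=
        Function.minimalPeriod_eq_one_iff_isFixedPt.mpr hfix
      rw [hm, pow_one]
      -- the representative differs from `g` by an element of `H`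
      set g' := (g : G ⧸ H).out with hg'
      have hgg' : g⁻¹ * g' ∈ H := by
        rw [← QuotientGroup.eq]
        exact (QuotientGroup.out_eq' (g : G ⧸ H)).symm
      intro hcon
      apply hgK
      apply hKn (g⁻¹ * g') hgg' _ hgH
      have : (g⁻¹ * g')⁻¹ * (g⁻¹ * u * g) * (g⁻¹ * g') = g'⁻¹ * u * g' := by group
      rw [this]
      exact hcon
  rw [← hbij]
  exact heven

/-- A subgroup centralizing `u` permutes the odd cosets. -/
def oddCosetsAction (H K : Subgroup G) (u : G) (R : Subgroup G)
    (hRu : ∀ r ∈ R, r * u = u * r) : SubMulAction ↥R (G ⧸ H) where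
  carrier := oddCosets H K u
  smul_mem' := by
    rintro ⟨r, hr⟩ q ⟨g, rfl, hgH, hgK⟩
    refine ⟨r * g, rfl, ?_, ?_⟩
    · have : (r * g)⁻¹ * u * (r * g) = g⁻¹ * u * g := by
        rw [mul_inv_rev, mul_assoc, mul_assoc, ← mul_assoc u r g, ← hRu r hr]
        group
      rw [this]; exact hgH
    · have : (r * g)⁻¹ * u * (r * g) = g⁻¹ * u * g := by
        rw [mul_inv_rev, mul_assoc, mul_assoc, ← mul_assoc u r g, ← hRu r hr]
        group
      rw [this]; exact hgK

/-- Fixed-point counting for a `2`-group centralizing `u`: if the trivial coset is the only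
odd coset fixed by `R`, the number of odd cosets is odd. -/
theorem odd_card_oddCosets [Finite G] (H K : Subgroup G) (u : G) (R : Subgroup G)
    (hR : IsPGroup 2 R) (hRu : ∀ r ∈ R, r * u = u * r)
    (h1 : ((1 : G) : G ⧸ H) ∈ oddCosets H K u) (hR1 : ∀ r ∈ R, r • ((1 : G) : G ⧸ H) = ((1 : G) : G ⧸ H))
    (huniq : ∀ q ∈ oddCosets H K u, (∀ r ∈ R, r • q = q) → q = ((1 : G) : G ⧸ H)) :
    Odd (Nat.card (oddCosets H K u)) := by
  classical
  haveI : Fact (Nat.Prime 2) := ⟨Nat.prime_two⟩
  set A := oddCosetsAction H K u R hRu with hA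
  have hmod := hR.card_modEq_card_fixedPoints (↥A)
  have hfix : Nat.card (fixedPoints ↥R ↥A) = 1 := by
    rw [Nat.card_eq_one_iff_unique]
    refine ⟨⟨?_⟩, ⟨⟨⟨((1 : G) : G ⧸ H), h1⟩, ?_⟩⟩⟩
    · rintro ⟨⟨a, ha⟩, hfa⟩ ⟨⟨b, hb⟩, hfb⟩
      have hfa' : ∀ r ∈ R, r • a = a := by
        intro r hr
        have := hfa ⟨r, hr⟩
        exact congrArg Subtype.val this
      have hfb' : ∀ r ∈ R, r • b = b := by
        intro r hr
        have := hfb ⟨r, hr⟩
        exact congrArg Subtype.val this
      have e1 := huniq a ha hfa'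
      have e2 := huniq b hb hfb'
      apply Subtype.ext
      apply Subtype.ext
      show a = b
      rw [e1, e2]
    · rintro ⟨r, hr⟩
      apply Subtype.ext
      exact hR1 r hr
  rw [hfix] at hmod
  have hcard : Nat.card (↥A) = Nat.card (oddCosets H K u) := rfl
  rw [hcard] at hmod
  rw [Nat.odd_iff]
  exact hmod

end Transfer

end Cfsg.Agent.Lib.Helper29
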