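import Mathlib

/-!
# A multiset forming a single orbit of `z ↦ (z^q)⁻¹` with product one

MODULE NT for helper40's S2511.
-/

namespace Cfsg.Agent.Lib.Helper29

namespace TwistedOrbit

variable {K : Type*} [Field K]

/-- iterate of `ψ z = (z^q)⁻¹` as an integer power -/
lemma iterate_eq_zpow (q : ℕ) (z : K) (j : ℕ) :
    (fun z : K => (z ^ q)⁻¹)^[j] z = z ^ ((-(q : ℤ)) ^ j) := by
  induction j with
  | zero => simp
  | succ j ih =>
    rw [Function.iterate_succ_apply', ih, pow_succ, zpow_mul, zpow_neg, zpow_natCast]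

lemma prod_range_zpow (y : K) (hy : y ≠ 0) (a : ℤ) (k : ℕ) :
    ∏ j ∈ Finset.range k, y ^ (a ^ j) = y ^ (∑ j ∈ Finset.range k, a ^ j) := by
  induction k with
  | zero => simp
  | succ k ih => rw [Finset.prod_range_succ, Finset.sum_range_succ, ih, zpow_add₀ hy]

/-- integer arithmetic core -/
lemma arith (q k e N : ℕ)
    (hN : (N : ℤ) * ((q : ℤ) + 1) = (q : ℤ) ^ (k * e) - (-1) ^ (k * e)) :
    ∃ c1 c2 : ℤ, (N : ℤ) = ((∑ j ∈ Finset.range k, (-(q : ℤ)) ^ j) * e) * c1
      + ((-(q : ℤ)) ^ k - 1) * c2 := by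
  set a : ℤ := -(q : ℤ) with ha
  set S : ℤ := ∑ j ∈ Finset.range k, a ^ j with hS
  set Q : ℤ := a ^ k with hQ
  set T : ℤ := ∑ i ∈ Finset.range e, Q ^ i with hT
  have hSa : S * (a - 1) = Q - 1 := geom_sum_mul a k
  have hTQ : T * (Q - 1) = a ^ (k * e) - 1 := by
    rw [pow_mul]; exact geom_sum_mul Q e
  have hTe : (Q - 1) ∣ T - e := by
    have : T - e = ∑ i ∈ Finset.range e, (Q ^ i - 1) := by
      rw [Finset.sum_sub_distrib]; simp [hT]
    rw [this]
    apply Finset.dvd_sum
    intro i _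
    simpa using sub_dvd_pow_sub_pow Q 1 i
  obtain ⟨u, hu⟩ := hTe
  have hsign : ((-1 : ℤ) ^ (k * e)) * ((-1) ^ (k * e)) = 1 := by
    rw [← mul_pow]; simp
  have han : a ^ (k * e) = (-1) ^ (k * e) * (q : ℤ) ^ (k * e) := by
    rw [ha, neg_eq_neg_one_mul, mul_pow]
  have hq1 : ((q : ℤ) + 1) ≠ 0 := by positivity
  have hNeq : (N : ℤ) = -((-1) ^ (k * e)) * T * S := by
    apply mul_right_cancel₀ hq1
    rw [hN]
    have h1 : (q : ℤ) ^ (k * e) - (-1) ^ (k * e) = (-1) ^ (k * e) * (a ^ (k * e) - 1) := by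
      rw [han, mul_sub, ← mul_assoc, hsign]; ring
    rw [h1, ← hTQ, ← hSa, ha]; ring
  refine ⟨-((-1) ^ (k * e)), -((-1) ^ (k * e)) * u * S, ?_⟩
  have hT' : T = e + (Q - 1) * u := by linarith
  rw [hNeq, hT']; ring

end TwistedOrbit

open TwistedOrbit in
theorem pow_eq_one_of_twisted_orbit {K : Type*} [Field K] (q : ℕ) (M : Multiset K)
    (h0 : ∀ y ∈ M, y ≠ 0) (hinj : Function.Injective (fun y : K => y ^ q))
    (hψ : M.map (fun y => (y ^ q)⁻¹) = M)
    (horb : ∀ y ∈ M, ∀ y' ∈ M, ∃ j : ℕ, y' = (fun z : K => (z ^ q)⁻¹)^[j] y)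
    (hprod : M.prod = 1) (N : ℕ)
    (hN : (N : ℤ) * ((q : ℤ) + 1) = (q : ℤ) ^ (Multiset.card M) - (-1) ^ (Multiset.card M)) :
    ∀ y ∈ M, y ^ N = 1 := by
  classical
  intro y hy
  have hy0 : y ≠ 0 := h0 y hy
  have hzp : ∀ (z : K) (j : ℕ), (fun z : K => (z ^ q)⁻¹)^[j] z = z ^ ((-(q : ℤ)) ^ j) :=
    iterate_eq_zpow q
  set ψ : K → K := fun z => (z ^ q)⁻¹ with hψdef
  have hψinj : Function.Injective ψ := fun a b hab => hinj (inv_injective hab)
  have hstab : ∀ z ∈ M, ψ z ∈ M := by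
    intro z hz
    have : ψ z ∈ M.map ψ := Multiset.mem_map_of_mem ψ hz
    rwa [hψ] at this
  have hiter : ∀ j, ψ^[j] y ∈ M := by
    intro j
    induction j with
    | zero => simpa using hy
    | succ j ih => rw [Function.iterate_succ_apply']; exact hstab _ ih
  have hcount : ∀ z, M.count (ψ z) = M.count z := by
    intro z
    have := Multiset.count_map_eq_count' ψ M hψinj z
    rwa [hψ] at this
  have hcountj : ∀ j, M.count (ψ^[j] y) = M.count y := by
    intro j
    induction j with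
    | zero => simp
    | succ j ih => rw [Function.iterate_succ_apply', hcount, ih]
  -- periodicity
  have hper : y ∈ Function.periodicPts ψ := by
    have hfin : Finite {z // z ∈ M.toFinset} := inferInstance
    let f : ℕ → {z // z ∈ M.toFinset} := fun j => ⟨ψ^[j] y, Multiset.mem_toFinset.mpr (hiter j)⟩
    obtain ⟨a, b, hab, hfab⟩ := Finite.exists_ne_map_eq_of_infinite f
    have hfab' : ψ^[a] y = ψ^[b] y := congrArg Subtype.val hfab
    wlog hlt : a < b generalizing a b
    · exact this b a hab.symm hfab.symm hfab'.symm (lt_of_le_of_ne (not_lt.mp hlt) hab.symm)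
    refine Function.mk_mem_periodicPts (n := b - a) (Nat.sub_pos_of_lt hlt) ?_
    have hb : b = a + (b - a) := by omega
    rw [hb, Function.iterate_add_apply] at hfab'
    exact ((hψinj.iterate a) hfab').symm
  set k := Function.minimalPeriod ψ y with hk
  have hkpos : 0 < k := Function.minimalPeriod_pos_of_mem_periodicPts hper
  have hkper : ψ^[k] y = y := Function.isPeriodicPt_minimalPeriod ψ y
  set e := M.count y with he
  -- the support of M is the orbit
  have hsupp : M.toFinset = (Finset.range k).image (fun j => ψ^[j] y) := by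
    ext z
    simp only [Multiset.mem_toFinset, Finset.mem_image, Finset.mem_range]
    constructor
    · intro hz
      obtain ⟨j, hj⟩ := horb y hy z hz
      refine ⟨j % k, Nat.mod_lt _ hkpos, ?_⟩
      rw [hj]
      exact Function.iterate_mod_minimalPeriod_eq
    · rintro ⟨j, -, rfl⟩
      exact hiter j
  have hinjOn : Set.InjOn (fun j => ψ^[j] y) (Finset.range k : Set ℕ) := by
    have := Function.iterate_injOn_Iio_minimalPeriod (f := ψ) (x := y)
    intro a ha b hb hab
    exact this (by simpa using ha) (by simpa using hb) hab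
  -- product
  have hprod' : M.prod = (y ^ (∑ j ∈ Finset.range k, (-(q : ℤ)) ^ j)) ^ e := by
    rw [Finset.prod_multiset_count, hsupp, Finset.prod_image hinjOn]
    have : ∀ j ∈ Finset.range k, (ψ^[j] y) ^ (M.count (ψ^[j] y)) = (y ^ ((-(q : ℤ)) ^ j)) ^ e := by
      intro j _
      rw [hcountj j, hzp]
    rw [Finset.prod_congr rfl this, Finset.prod_pow, prod_range_zpow y hy0]
  have hcard : Multiset.card M = k * e := by
    rw [← Multiset.toFinset_sum_count_eq, hsupp, Finset.sum_image hinjOn]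
    rw [Finset.sum_congr rfl (fun j _ => hcountj j)]
    simp
  rw [hcard] at hN
  obtain ⟨c1, c2, hc⟩ := arith q k e N hN
  have h1 : y ^ ((∑ j ∈ Finset.range k, (-(q : ℤ)) ^ j) * (e : ℤ)) = 1 := by
    rw [zpow_mul, zpow_natCast, ← hprod', hprod]
  have h2 : y ^ ((-(q : ℤ)) ^ k - 1) = 1 := by
    rw [zpow_sub₀ hy0, zpow_one, ← hzp, hkper]
    exact div_self hy0
  have : y ^ (N : ℤ) = 1 := by
    rw [hc, zpow_add₀ hy0, zpow_mul, h1, one_zpow, zpow_mul, h2, one_zpow, mul_one]
  rwa [zpow_natCast] at this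

end Cfsg.Agent.Lib.Helper29
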