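import Mathlib
import Cfsg.Prelude.Def_TwoFusion
import Cfsg.Agent.Lib.Helper29.ZStarElement

set_option autoImplicit false

namespace Cfsg.Agent.Lib.Helper29

open Cfsg
open scoped Pointwise

universe u

section

variable {G : Type u} [Group G] [Finite G]

/-- Key fusion lemma for strongly closed subgroups: if `A` is strongly closed in the Sylow
2-subgroup `S`, normalizes `H` and meets it trivially, then an `H`-conjugate of `a ∈ A` lying in a
common 2-subgroup of `H ⊔ A` with `a` equals `a`. -/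
theorem stronglyClosed_conj_eq (S : Sylow 2 G) (A : Subgroup G)
    (hA : Cfsg.IsStronglyClosed A (S : Subgroup G)) (H : Subgroup G)
    (hAH : A ≤ Subgroup.normalizer (H : Set G)) (hdisj : A ⊓ H = ⊥) {a h : G} (ha : a ∈ A)
    (hh : h ∈ H) (R : Subgroup G) (hR : IsPGroup 2 R) (hRX : R ≤ H ⊔ A) (haR : a ∈ R)
    (hhaR : h * a * h⁻¹ ∈ R) : h * a * h⁻¹ = a := by
  classical
  have : Fact (Nat.Prime 2) := ⟨Nat.prime_two⟩
  set X : Subgroup G := H ⊔ A with hX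
  have hXN : X ≤ Subgroup.normalizer (H : Set G) := sup_le Subgroup.le_normalizer hAH
  have hAX : A ≤ X := le_sup_right
  have hAp : IsPGroup 2 A := S.isPGroup'.to_le hA.1
  obtain ⟨T₁, hT₁⟩ := (hAp.comap_subtype (K := X)).exists_le_sylow
  obtain ⟨k, hk⟩ := Cfsg.Agent.Lib.Helper29.exists_conj_mem_sylow T₁ (R.subgroupOf X)
    (hR.comap_subtype)
  set T₁G : Subgroup G := (T₁ : Subgroup ↥X).map X.subtype with hT₁G
  have hT₁Gp : IsPGroup 2 T₁G := T₁.isPGroup'.map _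
  have hAT : A ≤ T₁G := by
    intro a' ha'
    exact ⟨⟨a', hAX ha'⟩, hT₁ (Subgroup.mem_subgroupOf.mpr ha'), rfl⟩
  obtain ⟨k₁, hk₁⟩ := Cfsg.Agent.Lib.Helper29.exists_conj_mem_sylow S T₁G hT₁Gp
  -- k₁⁻¹ A k₁ = A
  have hk₁A : ∀ a' ∈ A, k₁⁻¹ * a' * k₁ ∈ A := by
    intro a' ha'
    have h1 := hk₁ a' (hAT ha')
    have h2 := hA.2 a' ha' k₁⁻¹ (by simpa using h1)
    simpa using h2
  have hk₁A' : ∀ b ∈ A, k₁ * b * k₁⁻¹ ∈ A := by
    have hle : MulAut.conj k₁⁻¹ • A ≤ A := by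
      intro y hy
      rw [Subgroup.mem_pointwise_smul_iff_inv_smul_mem] at hy
      have hy' : k₁ * y * k₁⁻¹ ∈ A := by
        have := hy
        rw [Cfsg.Agent.Lib.Helper29.conj_inv_smul] at this
        simpa using this
      have := hk₁A _ hy'
      have e : k₁⁻¹ * (k₁ * y * k₁⁻¹) * k₁ = y := by group
      rwa [e] at this
    have hcard : Nat.card A ≤ Nat.card (MulAut.conj k₁⁻¹ • A : Subgroup G) :=
      le_of_eq (Nat.card_congr (Subgroup.equivSMul (MulAut.conj k₁⁻¹) A).toEquiv)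
    have heq := Subgroup.eq_of_le_of_card_ge hle hcard
    intro b hb
    rw [← heq, Subgroup.mem_pointwise_smul_iff_inv_smul_mem,
      Cfsg.Agent.Lib.Helper29.conj_inv_smul] at hb
    simpa using hb
  -- strong closure inside T₁G
  have hK3 : ∀ y ∈ A, ∀ g : G, g * y * g⁻¹ ∈ T₁G → g * y * g⁻¹ ∈ A := by
    intro y hy g hg
    have h1 := hk₁ _ hg
    have h2 : (k₁⁻¹ * g) * y * (k₁⁻¹ * g)⁻¹ ∈ A := by
      apply hA.2 y hy
      have e : (k₁⁻¹ * g) * y * (k₁⁻¹ * g)⁻¹ = k₁⁻¹ * (g * y * g⁻¹) * k₁ := by group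
      rw [e]; exact h1
    have h3 := hk₁A' _ h2
    have e : k₁ * ((k₁⁻¹ * g) * y * (k₁⁻¹ * g)⁻¹) * k₁⁻¹ = g * y * g⁻¹ := by group
    rwa [e] at h3
  -- conjugate R into T₁G
  have hconjR : ∀ r ∈ R, (k : G)⁻¹ * r * (k : G) ∈ T₁G := by
    intro r hr
    have := hk ⟨r, hRX hr⟩ (Subgroup.mem_subgroupOf.mpr hr)
    exact ⟨_, this, by simp⟩
  have ha₁ : (k : G)⁻¹ * a * ((k : G)⁻¹)⁻¹ ∈ A := by
    apply hK3 a ha
    simpa using hconjR a haR
  have hb₁ : ((k : G)⁻¹ * h) * a * ((k : G)⁻¹ * h)⁻¹ ∈ A := by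
    apply hK3 a ha
    have e : ((k : G)⁻¹ * h) * a * ((k : G)⁻¹ * h)⁻¹ = (k : G)⁻¹ * (h * a * h⁻¹) * (k : G) := by
      group
    rw [e]
    exact hconjR _ hhaR
  set c : G := h * a * h⁻¹ * a⁻¹ with hc
  have hcH : c ∈ H := by
    have h1 : a * h⁻¹ * a⁻¹ ∈ H :=
      (Subgroup.mem_normalizer_iff.mp (hAH ha) h⁻¹).mp (H.inv_mem hh)
    have e : c = h * (a * h⁻¹ * a⁻¹) := by rw [hc]; group
    rw [e]
    exact H.mul_mem hh h1
  have hkc : (k : G)⁻¹ * c * (k : G) ∈ A ⊓ H := by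
    refine ⟨?_, ?_⟩
    · have e : (k : G)⁻¹ * c * (k : G) =
          (((k : G)⁻¹ * h) * a * ((k : G)⁻¹ * h)⁻¹) * ((k : G)⁻¹ * a * ((k : G)⁻¹)⁻¹)⁻¹ := by
        rw [hc]; group
      rw [e]
      exact A.mul_mem hb₁ (A.inv_mem ha₁)
    · have hkN : (k : G)⁻¹ ∈ Subgroup.normalizer (H : Set G) :=
        (Subgroup.normalizer (H : Set G)).inv_mem (hXN k.2)
      have := (Subgroup.mem_normalizer_iff.mp hkN c).mp hcH
      simpa using this
  rw [hdisj, Subgroup.mem_bot] at hkc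
  have hc1 : c = 1 := by
    calc c = (k : G) * ((k : G)⁻¹ * c * (k : G)) * (k : G)⁻¹ := by group
      _ = 1 := by rw [hkc]; group
  calc h * a * h⁻¹ = c * a := by rw [hc]; group
    _ = a := by rw [hc1, one_mul]

/-- **Core of S1251.** Given the Z*-theorem: a strongly closed 2-subgroup `A` normalizing a
subgroup `H` with `O(H) = 1` and `A ∩ H = 1` centralizes `H`. -/
theorem stronglyClosed_centralizes (hZ : ZStarStatement.{u}) (S : Sylow 2 G) (A : Subgroup G)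
    (hA : Cfsg.IsStronglyClosed A (S : Subgroup G)) (H : Subgroup G)
    (hAH : A ≤ Subgroup.normalizer (H : Set G)) (hO : Cfsg.oddCore ↥H = ⊥)
    (hdisj : A ⊓ H = ⊥) : A ≤ Subgroup.centralizer (H : Set G) := by
  classical
  have : Fact (Nat.Prime 2) := ⟨Nat.prime_two⟩
  intro a ha
  set X₂ : Subgroup G := H ⊔ Subgroup.zpowers a with hX₂
  have hzle : Subgroup.zpowers a ≤ Subgroup.normalizer (H : Set G) := by
    rw [Subgroup.zpowers_le]; exact hAH ha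
  have hX₂N : X₂ ≤ Subgroup.normalizer (H : Set G) := sup_le Subgroup.le_normalizer hzle
  have hX₂X : X₂ ≤ H ⊔ A := sup_le_sup_left (by rw [Subgroup.zpowers_le]; exact ha) H
  have haX₂ : a ∈ X₂ := (le_sup_right : Subgroup.zpowers a ≤ X₂) (Subgroup.mem_zpowers a)
  have hHX₂ : H ≤ X₂ := le_sup_left
  set aX : ↥X₂ := ⟨a, haX₂⟩ with haX
  obtain ⟨k, hk⟩ := S.isPGroup' ⟨a, hA.1 ha⟩
  have hk' : a ^ (2 ^ k) = 1 := by
    have := congrArg Subtype.val hk
    simpa using this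
  have haXk : aX ^ (2 ^ k) = 1 := Subtype.ext (by simpa using hk')
  obtain ⟨T₂, hT₂⟩ := (isPGroup_zpowers_of_pow_eq_one haXk).exists_le_sylow
  have haT₂ : aX ∈ T₂ := hT₂ (Subgroup.mem_zpowers aX)
  set R : Subgroup G := (T₂ : Subgroup ↥X₂).map X₂.subtype with hR
  have hRp : IsPGroup 2 R := T₂.isPGroup'.map _
  have hRX : R ≤ H ⊔ A := (Subgroup.map_subtype_le _).trans hX₂X
  have hweak : ∀ g : ↥X₂, g * aX * g⁻¹ ∈ T₂ → g * aX * g⁻¹ = aX := by
    intro g hg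
    have hgmem : (g : G) ∈ ((H ⊔ Subgroup.zpowers a : Subgroup G) : Set G) := g.2
    rw [Subgroup.coe_mul_of_right_le_normalizer_left H (Subgroup.zpowers a) hzle] at hgmem
    obtain ⟨h, hh, z, hz, hgz⟩ := hgmem
    have hza : z * a = a * z := by
      obtain ⟨m, rfl⟩ := Subgroup.mem_zpowers_iff.mp hz
      exact ((Commute.refl a).zpow_left m).eq
    have e : (g : G) * a * (g : G)⁻¹ = h * a * h⁻¹ := by
      rw [← hgz]
      calc h * z * a * (h * z)⁻¹ = h * (z * a) * z⁻¹ * h⁻¹ := by group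
        _ = h * (a * z) * z⁻¹ * h⁻¹ := by rw [hza]
        _ = h * a * h⁻¹ := by group
    have h1 : h * a * h⁻¹ ∈ R := by
      rw [← e]
      exact ⟨g * aX * g⁻¹, hg, by simp [haX]⟩
    have h2 : a ∈ R := ⟨aX, haT₂, rfl⟩
    have h3 := stronglyClosed_conj_eq S A hA H hAH hdisj ha hh R hRp hRX h2 h1
    apply Subtype.ext
    show (g : G) * a * (g : G)⁻¹ = a
    rw [e, h3]
  have hcomm := zstar_element hZ T₂ aX haT₂ hweak
  -- the normal odd-order subgroup of H cut out by O(X₂)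
  set O₂ : Subgroup ↥X₂ := Cfsg.oddCore ↥X₂ with hO₂
  have hO₂n : O₂.Normal := Cfsg.Agent.Lib.Helper97.pPrimeCore_normal 2
  have hO₂odd : Odd (Nat.card O₂) := Cfsg.Agent.Lib.Helper97.odd_card_oddCore
  set ι : ↥H →* ↥X₂ := Subgroup.inclusion hHX₂ with hι
  have hιinj : Function.Injective ι := Subgroup.inclusion_injective hHX₂
  set N_H : Subgroup ↥H := O₂.comap ι with hN_H
  have hN_Hn : N_H.Normal := hO₂n.comap ι
  have hN_Hodd : Odd (Nat.card N_H) :=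
    Odd.of_dvd_nat hO₂odd (Subgroup.card_comap_dvd_of_injective O₂ ι hιinj)
  have hN_Hbot : N_H = ⊥ := by
    have := Cfsg.Agent.Lib.Helper97.le_oddCore_of_normal_of_odd hN_Hn hN_Hodd
    rw [hO] at this
    exact le_bot_iff.mp this
  rw [Subgroup.mem_centralizer_iff]
  intro h hh
  have hcH : a * h * a⁻¹ * h⁻¹ ∈ H := by
    have h1 : a * h * a⁻¹ ∈ H := (Subgroup.mem_normalizer_iff.mp (hAH ha) h).mp hh
    exact H.mul_mem h1 (H.inv_mem hh)
  have hmem : (⟨a * h * a⁻¹ * h⁻¹, hcH⟩ : ↥H) ∈ N_H := by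
    rw [hN_H, Subgroup.mem_comap]
    have := hcomm ⟨h, hHX₂ hh⟩
    have e : ι ⟨a * h * a⁻¹ * h⁻¹, hcH⟩ = aX * ⟨h, hHX₂ hh⟩ * aX⁻¹ * (⟨h, hHX₂ hh⟩ : ↥X₂)⁻¹ := by
      apply Subtype.ext
      simp [hι, haX]
    rw [e]
    exact this
  rw [hN_Hbot, Subgroup.mem_bot] at hmem
  have h1 : a * h * a⁻¹ * h⁻¹ = 1 := congrArg Subtype.val hmem
  calc h * a = (a * h * a⁻¹ * h⁻¹)⁻¹ * (a * h) := by group
    _ = a * h := by rw [h1, inv_one, one_mul]

end

end Cfsg.Agent.Lib.Helper29
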