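import Mathlib
import Cfsg.Agent.Lib.Helper29.ZStarCor
import Cfsg.Agent.Lib.Helper97.Cores

set_option autoImplicit false

namespace Cfsg.Agent.Lib.Helper29

open Cfsg
open scoped Pointwise

universe u

section

variable {G : Type u} [Group G] [Finite G]

/-- An element `z` with `z * z = 1` normalizing a subgroup `Y` of odd order normalizes some Sylow
`p`-subgroup of `Y`. -/
theorem exists_invariant_sylow_of_odd (Y : Subgroup G) (hY : Odd (Nat.card Y)) (z : G)
    (hz2 : z * z = 1) (hzY : z ∈ Subgroup.normalizer (Y : Set G)) (p : ℕ) [Fact p.Prime] :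
    ∃ R : Sylow p ↥Y, ∀ r : ↥Y, r ∈ R → z * (r : G) * z⁻¹ ∈ (R : Subgroup ↥Y).map Y.subtype := by
  classical
  have : Fact (Nat.Prime 2) := ⟨Nat.prime_two⟩
  set zN : ↥(Subgroup.normalizer (Y : Set G)) := ⟨z, hzY⟩ with hzN
  have hzN2 : zN * zN = 1 := Subtype.ext (by simpa using hz2)
  set Z : Subgroup ↥(Subgroup.normalizer (Y : Set G)) := Subgroup.zpowers zN with hZdef
  have hZp : IsPGroup 2 Z := by
    intro g
    refine ⟨1, ?_⟩
    obtain ⟨g, hg⟩ := g
    obtain ⟨k, rfl⟩ := Subgroup.mem_zpowers_iff.mp hg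
    apply Subtype.ext
    simp only [pow_one, Subgroup.coe_pow, Subgroup.coe_one]
    rw [← zpow_natCast, ← zpow_mul, mul_comm, zpow_mul]
    simp [sq, hzN2]
  have hcard := hZp.card_modEq_card_fixedPoints (Sylow p ↥Y)
  have hodd : Odd (Nat.card (Sylow p ↥Y)) := by
    obtain ⟨R₀⟩ : Nonempty (Sylow p ↥Y) := inferInstance
    have h1 : Nat.card (Sylow p ↥Y) ∣ (R₀ : Subgroup ↥Y).index := Sylow.card_dvd_index R₀
    have h2 : (R₀ : Subgroup ↥Y).index ∣ Nat.card ↥Y := Subgroup.index_dvd_card _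
    exact Odd.of_dvd_nat hY (h1.trans h2)
  have hfix : Odd (Nat.card (MulAction.fixedPoints Z (Sylow p ↥Y))) := by
    rcases Nat.even_or_odd (Nat.card (MulAction.fixedPoints Z (Sylow p ↥Y))) with h | h
    · exfalso
      have : Even (Nat.card (Sylow p ↥Y)) := by
        rw [Nat.even_iff] at h ⊢
        rw [← h]
        exact hcard
      exact (Nat.not_even_iff_odd.mpr hodd) this
    · exact h
  have hne : Nonempty (MulAction.fixedPoints Z (Sylow p ↥Y)) := by
    by_contra hcon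
    rw [not_nonempty_iff] at hcon
    rw [Nat.card_of_isEmpty] at hfix
    exact absurd hfix (by decide)
  obtain ⟨R, hR⟩ := hne
  refine ⟨R, ?_⟩
  intro r hr
  have hfixR : (⟨zN, Subgroup.mem_zpowers zN⟩ : Z) • R = R := hR ⟨zN, Subgroup.mem_zpowers zN⟩
  have h3 : zN • (R : Subgroup ↥Y) = (R : Subgroup ↥Y) := by
    have := congrArg (fun S : Sylow p ↥Y => (S : Subgroup ↥Y)) hfixR
    exact this
  have h4 : zN • r ∈ zN • (R : Subgroup ↥Y) := Subgroup.smul_mem_pointwise_smul r zN _ hr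
  rw [h3] at h4
  refine ⟨zN • r, h4, ?_⟩
  rfl

end

end Cfsg.Agent.Lib.Helper29

namespace Cfsg.Agent.Lib.Helper29

open Cfsg
open scoped Pointwise

universe u

section

variable {G : Type u} [Group G] [Finite G]

/-- In an odd-order subgroup `Y` normalized by `z` (`z * z = 1`), with `Q` a normal `p`-subgroup
of `Y` and `K` any `p`-subgroup of `Y`: some `z`-invariant `p`-subgroup `R` of `Y` contains `Q`
and has at least as many elements as `K`. -/
theorem exists_invariant_pSubgroup_ge (Y : Subgroup G) (hY : Odd (Nat.card Y)) (z : G)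
    (hz2 : z * z = 1) (hzY : z ∈ Subgroup.normalizer (Y : Set G)) (p : ℕ) [Fact p.Prime]
    (Q : Subgroup G) (hQ : IsPGroup p Q) (hQY : Q ≤ Y) (hYQ : Y ≤ Subgroup.normalizer (Q : Set G))
    (K : Subgroup G) (hK : IsPGroup p K) (hKY : K ≤ Y) :
    ∃ R : Subgroup G, R ≤ Y ∧ IsPGroup p R ∧ z ∈ Subgroup.normalizer (R : Set G) ∧ Q ≤ R ∧
      Nat.card K ≤ Nat.card R := by
  classical
  obtain ⟨R₀, hR₀⟩ := exists_invariant_sylow_of_odd Y hY z hz2 hzY p
  have hzinv : z⁻¹ = z := inv_eq_of_mul_eq_one_left hz2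
  refine ⟨(R₀ : Subgroup ↥Y).map Y.subtype, Subgroup.map_subtype_le _, R₀.isPGroup'.map _, ?_, ?_, ?_⟩
  · rw [Subgroup.mem_normalizer_iff]
    have key : ∀ h : G, h ∈ (R₀ : Subgroup ↥Y).map Y.subtype →
        z * h * z⁻¹ ∈ (R₀ : Subgroup ↥Y).map Y.subtype := by
      rintro h ⟨r, hr, rfl⟩
      exact hR₀ r hr
    intro h
    refine ⟨key h, fun hh => ?_⟩
    have := key _ hh
    have e : z * (z * h * z⁻¹) * z⁻¹ = h := by
      rw [hzinv]
      calc z * (z * h * z) * z = (z * z) * h * (z * z) := by group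
        _ = h := by rw [hz2]; group
    rwa [e] at this
  · -- Q ≤ R
    have hQ' : IsPGroup p (Q.subgroupOf Y) := hQ.comap_subtype
    obtain ⟨R₁, hR₁⟩ := hQ'.exists_le_sylow
    obtain ⟨g, hg⟩ := MulAction.exists_smul_eq ↥Y R₁ R₀
    intro q hq
    have hqY : q ∈ Y := hQY hq
    refine ⟨⟨q, hqY⟩, ?_, rfl⟩
    have h1 : g⁻¹ * ⟨q, hqY⟩ * g ∈ Q.subgroupOf Y := by
      rw [Subgroup.mem_subgroupOf]
      have hgN : ((g : G))⁻¹ ∈ Subgroup.normalizer (Q : Set G) := (Subgroup.normalizer (Q : Set G)).inv_mem (hYQ g.2)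
      have := (Subgroup.mem_normalizer_iff.mp hgN q).mp hq
      simpa using this
    have h2 : g⁻¹ * ⟨q, hqY⟩ * g ∈ (R₁ : Subgroup ↥Y) := hR₁ h1
    have h3 : (⟨q, hqY⟩ : ↥Y) ∈ ((g • R₁ : Sylow p ↥Y) : Subgroup ↥Y) := by
      rw [Sylow.coe_subgroup_smul]
      rw [Subgroup.mem_pointwise_smul_iff_inv_smul_mem]
      simpa [MulAut.smul_def, MulAut.conj_apply] using h2
    rw [hg] at h3
    exact h3
  · have hK' : IsPGroup p (K.subgroupOf Y) := hK.comap_subtype
    obtain ⟨R₂, hR₂⟩ := hK'.exists_le_sylow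
    have e1 : Nat.card (K.subgroupOf Y) = Nat.card K :=
      Nat.card_congr (Subgroup.subgroupOfEquivOfLe hKY).toEquiv
    have e2 : Nat.card ((R₀ : Subgroup ↥Y).map Y.subtype) = Nat.card (R₀ : Subgroup ↥Y) :=
      Nat.card_congr ((R₀ : Subgroup ↥Y).equivMapOfInjective _ Y.subtype_injective).toEquiv.symm
    have e3 : Nat.card (R₂ : Subgroup ↥Y) = Nat.card (R₀ : Subgroup ↥Y) := by
      rw [Sylow.card_eq_multiplicity, Sylow.card_eq_multiplicity]
    rw [e2, ← e3, ← e1]
    exact Subgroup.card_le_of_le hR₂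

end

end Cfsg.Agent.Lib.Helper29

namespace Cfsg.Agent.Lib.Helper29

open Cfsg
open scoped Pointwise

universe u

section

variable {G : Type u} [Group G] [Finite G]

omit [Finite G] in
theorem mem_normalizer_of_sq_one {z : G} (hz2 : z * z = 1) (R : Subgroup G)
    (h : ∀ r ∈ R, z * r * z⁻¹ ∈ R) : z ∈ Subgroup.normalizer (R : Set G) := by
  have hzinv : z⁻¹ = z := inv_eq_of_mul_eq_one_left hz2
  rw [Subgroup.mem_normalizer_iff]
  intro r
  refine ⟨h r, fun hh => ?_⟩
  have := h _ hh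
  have e : z * (z * r * z⁻¹) * z⁻¹ = r := by
    rw [hzinv]
    calc z * (z * r * z) * z = (z * z) * r * (z * z) := by group
      _ = r := by rw [hz2]; group
  rwa [e] at this

omit [Finite G] in
theorem isolated_sq_one {z : G} (hz : Cfsg.IsIsolatedInvolution z) : z * z = 1 := by
  have := pow_orderOf_eq_one z
  rw [hz.1, sq] at this
  exact this

omit [Finite G] in
/-- Isolation passes to subgroups containing the involution. -/
theorem isolated_subgroup {z : G} (hz : Cfsg.IsIsolatedInvolution z) (M : Subgroup G)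
    (hzM : z ∈ M) : Cfsg.IsIsolatedInvolution (⟨z, hzM⟩ : ↥M) := by
  refine ⟨?_, ?_⟩
  · rw [← hz.1]
    exact (Subgroup.orderOf_mk z hzM)
  · intro g hg
    apply Subtype.ext
    have hc : Commute z ((g : G) * z * (g : G)⁻¹) := by
      have := congrArg Subtype.val hg.eq
      simpa [Commute, SemiconjBy] using this
    simpa using hz.2 (g : G) hc

/-- **Core of S1187.** Given the Z*-theorem: a maximal `z`-invariant `p`-subgroup (for an isolated
involution `z`) is a Sylow `p`-subgroup. -/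
theorem maximal_invariant_is_sylow (hZ : ZStarStatement.{u}) (z : G)
    (hz : Cfsg.IsIsolatedInvolution z) {p : ℕ} [Fact p.Prime] (Q : Subgroup G)
    (hQ : IsPGroup p Q) (hzQ : z ∈ Subgroup.normalizer (Q : Set G))
    (hmax : ∀ R : Subgroup G, IsPGroup p R → z ∈ Subgroup.normalizer (R : Set G) → Q ≤ R → R = Q) :
    ∃ P : Sylow p G, (P : Subgroup G) = Q := by
  classical
  have hz2 : z * z = 1 := isolated_sq_one hz
  obtain ⟨P, hQP⟩ := hQ.exists_le_sylow
  by_cases hPQ : (P : Subgroup G) = Q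
  · exact ⟨P, hPQ⟩
  exfalso
  by_cases hp2 : p = 2
  · subst hp2
    have hzp : IsPGroup 2 (Subgroup.zpowers z) := by
      apply IsPGroup.of_card (n := 1)
      rw [Nat.card_zpowers, hz.1, pow_one]
    have hle : Subgroup.zpowers z ≤ Subgroup.normalizer (Q : Set G) := by
      rw [Subgroup.zpowers_le]; exact hzQ
    have hR : IsPGroup 2 (Q ⊔ Subgroup.zpowers z : Subgroup G) := hQ.to_sup_of_normal_left' hzp hle
    have hzR : z ∈ (Q ⊔ Subgroup.zpowers z : Subgroup G) :=
      (le_sup_right : Subgroup.zpowers z ≤ _) (Subgroup.mem_zpowers z)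
    have h1 := hmax _ hR (Subgroup.le_normalizer hzR) le_sup_left
    have hzQ' : z ∈ Q := by rw [← h1]; exact hzR
    exact hPQ (hmax _ P.isPGroup' (Subgroup.le_normalizer (hQP hzQ')) hQP)
  -- p odd
  have hpodd : Odd p := (Fact.out : p.Prime).odd_of_ne_two hp2
  -- an element of P \ Q normalizing Q
  obtain ⟨x, hxP, hxQ, hxM⟩ : ∃ x : G, x ∈ P ∧ x ∉ Q ∧ x ∈ Subgroup.normalizer (Q : Set G) := by
    have : Group.IsNilpotent ↥(P : Subgroup G) := P.isPGroup'.isNilpotent
    have hne : Q.subgroupOf (P : Subgroup G) ≠ ⊤ := by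
      intro h
      rw [Subgroup.subgroupOf_eq_top] at h
      exact hPQ (le_antisymm h hQP)
    have hnc := Group.normalizerCondition_of_isNilpotent (G := ↥(P : Subgroup G)) _
      (lt_top_iff_ne_top.mpr hne)
    obtain ⟨q, hqN, hqC⟩ := SetLike.exists_of_lt hnc
    refine ⟨(q : G), q.2, ?_, ?_⟩
    · intro h
      exact hqC (Subgroup.mem_subgroupOf.mpr h)
    · rw [← Subgroup.subgroupOf_normalizer_eq hQP] at hqN
      exact Subgroup.mem_subgroupOf.mp hqN
  set M : Subgroup G := Subgroup.normalizer (Q : Set G) with hM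
  set K : Subgroup G := Q ⊔ Subgroup.zpowers x with hK
  have hKP : K ≤ (P : Subgroup G) := sup_le hQP (by rw [Subgroup.zpowers_le]; exact hxP)
  have hKp : IsPGroup p K := P.isPGroup'.to_le hKP
  have hQM : Q ≤ M := Subgroup.le_normalizer
  have hKM : K ≤ M := sup_le hQM (by rw [Subgroup.zpowers_le]; exact hxM)
  have hQK : Q ≤ K := le_sup_left
  have hxK : x ∈ K := (le_sup_right : Subgroup.zpowers x ≤ K) (Subgroup.mem_zpowers x)
  have hcardQK : Nat.card Q < Nat.card K := by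
    by_contra hcon
    push Not at hcon
    have := Subgroup.eq_of_le_of_card_ge hQK hcon
    exact hxQ (this ▸ hxK)
  -- the Z*-theorem in M
  set zM : ↥M := ⟨z, hzQ⟩ with hzM
  have hzMiso : Cfsg.IsIsolatedInvolution zM := isolated_subgroup hz M hzQ
  have hzM2 : zM * zM = 1 := isolated_sq_one hzMiso
  have hcomm := oddCore_of_isolated hZ zM hzMiso
  set O : Subgroup ↥M := Cfsg.oddCore ↥M with hO
  have hOn : O.Normal := Cfsg.Agent.Lib.Helper97.pPrimeCore_normal 2
  have hOodd : Odd (Nat.card O) := Cfsg.Agent.Lib.Helper97.odd_card_oddCore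
  set K' : Subgroup ↥M := K.subgroupOf M with hK'
  set Y' : Subgroup ↥M := K' ⊔ O with hY'
  have hK'card : Nat.card K' = Nat.card K :=
    Nat.card_congr (Subgroup.subgroupOfEquivOfLe hKM).toEquiv
  have hY'odd : Odd (Nat.card Y') := by
    have h1 := Cfsg.Agent.Lib.Helper97.card_sup_dvd_card_mul_card K' O
    obtain ⟨n, hn⟩ := hKp.exists_card_eq
    have h2 : Odd (Nat.card K' * Nat.card O) := by
      rw [hK'card, hn]
      exact (hpodd.pow).mul hOodd
    exact Odd.of_dvd_nat h2 h1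
  have hzY' : zM ∈ Subgroup.normalizer (Y' : Set ↥M) := by
    apply mem_normalizer_of_sq_one hzM2
    intro y hy
    have h1 : zM * y * zM⁻¹ * y⁻¹ ∈ Y' := (le_sup_right : O ≤ Y') (hcomm y)
    have := Y'.mul_mem h1 hy
    simpa using this
  set Q' : Subgroup ↥M := Q.subgroupOf M with hQ'
  have hQ'n : Q'.Normal := Subgroup.normal_in_normalizer
  have hQ'p : IsPGroup p Q' := hQ.comap_subtype
  have hK'p : IsPGroup p K' := hKp.comap_subtype
  have hQ'K' : Q' ≤ K' := by
    intro q hq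
    rw [hK', Subgroup.mem_subgroupOf]
    rw [hQ', Subgroup.mem_subgroupOf] at hq
    exact hQK hq
  obtain ⟨R', hR'Y, hR'p, hzR', hQR', hKR'⟩ :=
    exists_invariant_pSubgroup_ge Y' hY'odd zM hzM2 hzY' p Q' hQ'p (hQ'K'.trans le_sup_left)
      Subgroup.le_normalizer_of_normal K' hK'p le_sup_left
  set R : Subgroup G := R'.map M.subtype with hR
  have hRp : IsPGroup p R := hR'p.map _
  have hzR : z ∈ Subgroup.normalizer (R : Set G) := by
    apply mem_normalizer_of_sq_one hz2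
    rintro _ ⟨r, hr, rfl⟩
    refine ⟨zM * r * zM⁻¹, (Subgroup.mem_normalizer_iff.mp hzR' r).mp hr, ?_⟩
    simp [hzM]
  have hQR : Q ≤ R := by
    intro q hq
    exact ⟨⟨q, hQM hq⟩, hQR' (Subgroup.mem_subgroupOf.mpr hq), rfl⟩
  have hRQ := hmax R hRp hzR hQR
  have hRcard : Nat.card R = Nat.card R' :=
    Nat.card_congr (R'.equivMapOfInjective _ M.subtype_injective).toEquiv.symm
  have : Nat.card K ≤ Nat.card Q := by
    rw [← hRQ, hRcard, ← hK'card]
    exact hKR'
  omega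

end

end Cfsg.Agent.Lib.Helper29

namespace Cfsg.Agent.Lib.Helper29

open Cfsg
open scoped Pointwise

universe u

section

variable {G : Type u} [Group G] [Finite G]

/-- Given the Z*-theorem: every `z`-invariant `p`-subgroup (for an isolated involution `z`) lies
in a `z`-invariant Sylow `p`-subgroup. -/
theorem exists_invariant_sylow_ge (hZ : ZStarStatement.{u}) (z : G)
    (hz : Cfsg.IsIsolatedInvolution z) {p : ℕ} [Fact p.Prime] (T : Subgroup G)
    (hT : IsPGroup p T) (hzT : z ∈ Subgroup.normalizer (T : Set G)) :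
    ∃ P : Sylow p G, T ≤ P ∧ z ∈ Subgroup.normalizer ((P : Subgroup G) : Set G) := by
  classical
  let 𝒮 := {R : Subgroup G // IsPGroup p R ∧ z ∈ Subgroup.normalizer (R : Set G) ∧ T ≤ R}
  have : Nonempty 𝒮 := ⟨⟨T, hT, hzT, le_rfl⟩⟩
  obtain ⟨⟨Q, hQ, hzQ, hTQ⟩, hQmax⟩ := Finite.exists_max (fun R : 𝒮 => Nat.card (R.1 : Subgroup G))
  have hmax : ∀ R : Subgroup G, IsPGroup p R → z ∈ Subgroup.normalizer (R : Set G) → Q ≤ R →
      R = Q := by
    intro R hR hzR hQR
    have := hQmax ⟨R, hR, hzR, hTQ.trans hQR⟩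
    exact (Subgroup.eq_of_le_of_card_ge hQR this).symm
  obtain ⟨P, hP⟩ := maximal_invariant_is_sylow hZ z hz Q hQ hzQ hmax
  refine ⟨P, ?_, ?_⟩
  · rw [hP]; exact hTQ
  · rw [hP]; exact hzQ

omit [Finite G] in
theorem isPGroup_two_zpowers_of_sq_one {z : G} (hz2 : z * z = 1) :
    IsPGroup 2 (Subgroup.zpowers z) := by
  intro g
  refine ⟨1, ?_⟩
  obtain ⟨g, hg⟩ := g
  obtain ⟨k, rfl⟩ := Subgroup.mem_zpowers_iff.mp hg
  apply Subtype.ext
  simp only [pow_one, Subgroup.coe_pow, Subgroup.coe_one]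
  rw [← zpow_natCast, ← zpow_mul, mul_comm, zpow_mul]
  simp [sq, hz2]

/-- Two Sylow `p`-subgroups normalized by an isolated involution `z` are conjugate under the
centralizer of `z`. (No Z*-theorem needed.) -/
theorem invariant_sylow_conj (z : G) (hz : Cfsg.IsIsolatedInvolution z) {p : ℕ} [Fact p.Prime]
    (P P' : Sylow p G) (hzP : z ∈ Subgroup.normalizer ((P : Subgroup G) : Set G))
    (hzP' : z ∈ Subgroup.normalizer ((P' : Subgroup G) : Set G)) :
    ∃ c : G, c * z = z * c ∧ c • P = P' := by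
  classical
  have : Fact (Nat.Prime 2) := ⟨Nat.prime_two⟩
  have hz2 : z * z = 1 := isolated_sq_one hz
  obtain ⟨g, hg⟩ := MulAction.exists_smul_eq G P P'
  set L : Subgroup G := Subgroup.normalizer ((P : Subgroup G) : Set G) with hL
  set z₁ : G := g⁻¹ * z * g with hz₁
  have hz₁L : z₁ ∈ L := by
    have h1 : z • P' = P' := Sylow.smul_eq_iff_mem_normalizer.mpr hzP'
    rw [← hg] at h1
    have h2 : z₁ • P = P := by
      rw [hz₁, mul_smul, mul_smul, h1, inv_smul_smul]
    exact Sylow.smul_eq_iff_mem_normalizer.mp h2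
  have hz₁2 : z₁ * z₁ = 1 := by
    rw [hz₁]
    calc g⁻¹ * z * g * (g⁻¹ * z * g) = g⁻¹ * (z * z) * g := by group
      _ = 1 := by rw [hz2]; group
  set zL : ↥L := ⟨z, hzP⟩ with hzL
  set z₁L : ↥L := ⟨z₁, hz₁L⟩ with hz₁Ldef
  have hzL2 : zL * zL = 1 := Subtype.ext (by simpa using hz2)
  have hz₁L2 : z₁L * z₁L = 1 := Subtype.ext (by simpa using hz₁2)
  obtain ⟨S₁, hS₁⟩ := (isPGroup_two_zpowers_of_sq_one hzL2).exists_le_sylow
  obtain ⟨S₂, hS₂⟩ := (isPGroup_two_zpowers_of_sq_one hz₁L2).exists_le_sylow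
  obtain ⟨l, hl⟩ := MulAction.exists_smul_eq ↥L S₂ S₁
  have h1 : l * z₁L * l⁻¹ ∈ (S₁ : Subgroup ↥L) := by
    have hmem : z₁L ∈ (S₂ : Subgroup ↥L) := hS₂ (Subgroup.mem_zpowers z₁L)
    have := Subgroup.smul_mem_pointwise_smul z₁L (MulAut.conj l) _ hmem
    rw [← Sylow.coe_subgroup_smul, hl] at this
    simpa [MulAut.smul_def, MulAut.conj_apply] using this
  have hS₁G : IsPGroup 2 ((S₁ : Subgroup ↥L).map L.subtype) := S₁.isPGroup'.map _
  obtain ⟨S, hS⟩ := hS₁G.exists_le_sylow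
  have hzS : z ∈ S := hS ⟨zL, hS₁ (Subgroup.mem_zpowers zL), rfl⟩
  have h2 : (l : G) * g⁻¹ * z * ((l : G) * g⁻¹)⁻¹ ∈ S := by
    have : (l : G) * g⁻¹ * z * ((l : G) * g⁻¹)⁻¹ = L.subtype (l * z₁L * l⁻¹) := by
      simp only [Subgroup.subtype_apply, Subgroup.coe_mul, Subgroup.coe_inv, hz₁Ldef, hz₁]
      group
    rw [this]
    exact hS ⟨_, h1, rfl⟩
  have h3 := isolated_unique_in_sylow hz S hzS _ h2
  refine ⟨g * (l : G)⁻¹, ?_, ?_⟩
  · have : (l : G) * g⁻¹ * z = z * ((l : G) * g⁻¹) := by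
      calc (l : G) * g⁻¹ * z = ((l : G) * g⁻¹ * z * ((l : G) * g⁻¹)⁻¹) * ((l : G) * g⁻¹) := by group
        _ = z * ((l : G) * g⁻¹) := by rw [h3]
    calc g * (l : G)⁻¹ * z = g * (l : G)⁻¹ * (z * ((l : G) * g⁻¹)) * (g * (l : G)⁻¹) := by group
      _ = g * (l : G)⁻¹ * ((l : G) * g⁻¹ * z) * (g * (l : G)⁻¹) := by rw [this]
      _ = z * (g * (l : G)⁻¹) := by group
  · rw [mul_smul]
    have : ((l : G)⁻¹) • P = P :=
      Sylow.smul_eq_iff_mem_normalizer.mpr (L.inv_mem l.2)
    rw [this, hg]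

end

end Cfsg.Agent.Lib.Helper29

namespace Cfsg.Agent.Lib.Helper29

open Cfsg
open scoped Pointwise

universe u

section

variable {G : Type u} [Group G] [Finite G]

omit [Finite G] in
/-- Squaring is injective on a subgroup of odd order. -/
theorem sq_injOn_of_odd (P : Subgroup G) (hP : Odd (Nat.card P)) {a b : G} (ha : a ∈ P)
    (hb : b ∈ P) (h : a * a = b * b) : a = b := by
  have hcop : (Nat.card ↥P).Coprime 2 := hP.coprime_two_right
  have := (powCoprime hcop).injective (a₁ := ⟨a, ha⟩) (a₂ := ⟨b, hb⟩)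
    (by apply Subtype.ext; simp [powCoprime, sq, h])
  exact congrArg Subtype.val this

omit [Finite G] in
theorem exists_sqrt_of_odd (P : Subgroup G) (hP : Odd (Nat.card P)) {a : G} (ha : a ∈ P) :
    ∃ w ∈ P, w * w = a := by
  have hcop : (Nat.card ↥P).Coprime 2 := hP.coprime_two_right
  obtain ⟨w, hw⟩ := (powCoprime hcop).surjective ⟨a, ha⟩
  refine ⟨w, w.2, ?_⟩
  have := congrArg Subtype.val hw
  simpa [powCoprime, sq] using this

omit [Finite G] in
/-- For an element `z` with `z * z = 1` normalizing a subgroup `P` of odd order, the index of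
`C_P(z)` in `P` is the number of elements of `P` inverted by `z`. -/
theorem relIndex_centralizer_eq_card_inverted (z : G) (hz2 : z * z = 1) (P : Subgroup G)
    (hP : Odd (Nat.card P)) (hzP : z ∈ Subgroup.normalizer (P : Set G)) :
    (P ⊓ Subgroup.centralizer ({z} : Set G)).relIndex P =
      Nat.card {x : G // x ∈ P ∧ z * x * z⁻¹ = x⁻¹} := by
  classical
  have hzinv : z⁻¹ = z := inv_eq_of_mul_eq_one_left hz2
  have hconj : ∀ x ∈ P, z * x * z⁻¹ ∈ P := fun x hx => (Subgroup.mem_normalizer_iff.mp hzP x).mp hx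
  set C' : Subgroup ↥P := (P ⊓ Subgroup.centralizer ({z} : Set G)).subgroupOf P with hC'
  have hmemC' : ∀ c : ↥P, c ∈ C' ↔ (c : G) * z = z * (c : G) := by
    intro c
    rw [hC', Subgroup.mem_subgroupOf, Subgroup.mem_inf, Subgroup.mem_centralizer_singleton_iff]
    exact ⟨fun h => h.2, fun h => ⟨c.2, h⟩⟩
  -- the map x ↦ z x z⁻¹ x⁻¹
  let f : ↥P → {x : G // x ∈ P ∧ z * x * z⁻¹ = x⁻¹} := fun x =>
    ⟨z * (x : G) * z⁻¹ * (x : G)⁻¹, P.mul_mem (hconj _ x.2) (P.inv_mem x.2), by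
      rw [hzinv]
      calc z * (z * (x : G) * z * (x : G)⁻¹) * z = (z * z) * (x : G) * z * (x : G)⁻¹ * z := by group
        _ = (x : G) * z * (x : G)⁻¹ * z := by rw [hz2, one_mul]
        _ = (z * (x : G) * z * (x : G)⁻¹)⁻¹ := by
          rw [mul_inv_rev, mul_inv_rev, mul_inv_rev, inv_inv, hzinv]; group⟩
  have hf : ∀ a b : ↥P, QuotientGroup.leftRel C' a b → f a = f b := by
    intro a b hab
    rw [QuotientGroup.leftRel_apply, hmemC'] at hab
    apply Subtype.ext
    show z * (a : G) * z⁻¹ * (a : G)⁻¹ = z * (b : G) * z⁻¹ * (b : G)⁻¹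
    simp only [Subgroup.coe_mul, Subgroup.coe_inv] at hab
    rw [hzinv]
    -- a⁻¹ b z = z a⁻¹ b  ⇒  b z b⁻¹ = a z a⁻¹
    have h1 : (b : G) * z * (b : G)⁻¹ = (a : G) * z * (a : G)⁻¹ := by
      calc (b : G) * z * (b : G)⁻¹ = (a : G) * ((a : G)⁻¹ * (b : G) * z) * (b : G)⁻¹ := by group
        _ = (a : G) * (z * ((a : G)⁻¹ * (b : G))) * (b : G)⁻¹ := by rw [hab]
        _ = (a : G) * z * (a : G)⁻¹ := by group
    calc z * (a : G) * z * (a : G)⁻¹ = z * ((a : G) * z * (a : G)⁻¹) := by group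
      _ = z * ((b : G) * z * (b : G)⁻¹) := by rw [h1]
      _ = z * (b : G) * z * (b : G)⁻¹ := by group
  let F : (↥P ⧸ C') → {x : G // x ∈ P ∧ z * x * z⁻¹ = x⁻¹} :=
    Quotient.lift (s := QuotientGroup.leftRel C') f hf
  have hF : Function.Bijective F := by
    constructor
    · intro a b
      induction a using QuotientGroup.induction_on with
      | H a =>
      induction b using QuotientGroup.induction_on with
      | H b =>
      intro hab
      have hab' : f a = f b := hab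
      have h1 : z * (a : G) * z⁻¹ * (a : G)⁻¹ = z * (b : G) * z⁻¹ * (b : G)⁻¹ :=
        congrArg Subtype.val hab'
      rw [QuotientGroup.eq, hmemC']
      simp only [Subgroup.coe_mul, Subgroup.coe_inv]
      rw [hzinv] at h1
      have h2 : (a : G) * z * (a : G)⁻¹ = (b : G) * z * (b : G)⁻¹ := by
        have := congrArg (fun t => z⁻¹ * t) h1
        simpa [mul_assoc] using this
      calc (a : G)⁻¹ * (b : G) * z = (a : G)⁻¹ * ((b : G) * z * (b : G)⁻¹) * (b : G) := by group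
        _ = (a : G)⁻¹ * ((a : G) * z * (a : G)⁻¹) * (b : G) := by rw [h2]
        _ = z * ((a : G)⁻¹ * (b : G)) := by group
    · rintro ⟨i, hiP, hi⟩
      obtain ⟨w, hwP, hw⟩ := exists_sqrt_of_odd P hP hiP
      have hzw : z * w * z⁻¹ = w⁻¹ := by
        apply sq_injOn_of_odd P hP (hconj w hwP) (P.inv_mem hwP)
        calc z * w * z⁻¹ * (z * w * z⁻¹) = z * (w * w) * z⁻¹ := by group
          _ = i⁻¹ := by rw [hw, hi]
          _ = w⁻¹ * w⁻¹ := by rw [← hw, mul_inv_rev]
      refine ⟨QuotientGroup.mk (⟨w⁻¹, P.inv_mem hwP⟩ : ↥P), ?_⟩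
      apply Subtype.ext
      show z * w⁻¹ * z⁻¹ * (w⁻¹)⁻¹ = i
      have : z * w⁻¹ * z⁻¹ = w := by
        calc z * w⁻¹ * z⁻¹ = (z * w * z⁻¹)⁻¹ := by group
          _ = w := by rw [hzw, inv_inv]
      rw [this, inv_inv, hw]
  rw [Subgroup.relIndex, Subgroup.index]
  exact Nat.card_eq_of_bijective F hF

end

end Cfsg.Agent.Lib.Helper29

namespace Cfsg.Agent.Lib.Helper29

open Cfsg
open scoped Pointwise

universe u

section

variable {G : Type u} [Group G] [Finite G]

/-- Given the Z*-theorem: for an isolated involution `z` normalizing a Sylow `p`-subgroup `P`,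
`P ∩ C(z)` is a Sylow `p`-subgroup of `C(z)`. -/
theorem not_dvd_relIndex_centralizer (hZ : ZStarStatement.{u}) (z : G)
    (hz : Cfsg.IsIsolatedInvolution z) {p : ℕ} [Fact p.Prime] (P : Sylow p G)
    (hzP : z ∈ Subgroup.normalizer ((P : Subgroup G) : Set G)) :
    ¬ p ∣ ((P : Subgroup G) ⊓ Subgroup.centralizer ({z} : Set G)).relIndex
      (Subgroup.centralizer ({z} : Set G)) := by
  classical
  set C : Subgroup G := Subgroup.centralizer ({z} : Set G) with hC
  set D : Subgroup ↥C := ((P : Subgroup G) ⊓ C).subgroupOf C with hD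
  have hDp : IsPGroup p D := (P.isPGroup'.to_le inf_le_left).comap_subtype
  obtain ⟨T, hDT⟩ := hDp.exists_le_sylow
  set T₁ : Subgroup G := (T : Subgroup ↥C).map C.subtype with hT₁
  have hT₁p : IsPGroup p T₁ := T.isPGroup'.map _
  have hT₁C : T₁ ≤ C := Subgroup.map_subtype_le _
  have hz2 : z * z = 1 := isolated_sq_one hz
  have hzT₁ : z ∈ Subgroup.normalizer (T₁ : Set G) := by
    apply mem_normalizer_of_sq_one hz2
    intro t ht
    have h1 : t * z = z * t := Subgroup.mem_centralizer_singleton_iff.mp (hT₁C ht)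
    have : z * t * z⁻¹ = t := by rw [← h1]; group
    rwa [this]
  obtain ⟨P', hTP', hzP'⟩ := exists_invariant_sylow_ge hZ z hz T₁ hT₁p hzT₁
  obtain ⟨c, hcz, hc⟩ := invariant_sylow_conj z hz P P' hzP hzP'
  -- c⁻¹ T₁ c ≤ P ⊓ C
  have hle : (MulAut.conj c⁻¹) • T₁ ≤ (P : Subgroup G) ⊓ C := by
    intro x hx
    rw [Subgroup.mem_pointwise_smul_iff_inv_smul_mem] at hx
    have hx' : c * x * c⁻¹ ∈ T₁ := by
      simpa [MulAut.smul_def, MulAut.conj_apply] using hx
    have htP' : c * x * c⁻¹ ∈ (P' : Subgroup G) := hTP' hx'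
    rw [← hc, Sylow.coe_subgroup_smul, Subgroup.mem_pointwise_smul_iff_inv_smul_mem] at htP'
    have hxP : x ∈ (P : Subgroup G) := by
      have : (MulAut.conj c)⁻¹ • (c * x * c⁻¹) = x := by
        simp [MulAut.smul_def, mul_assoc]
      rwa [this] at htP'
    have h1 : c * x * c⁻¹ * z = z * (c * x * c⁻¹) :=
      Subgroup.mem_centralizer_singleton_iff.mp (hT₁C hx')
    have hxC : x ∈ C := by
      rw [hC, Subgroup.mem_centralizer_singleton_iff]
      have hcz' : c⁻¹ * z = z * c⁻¹ := by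
        calc c⁻¹ * z = c⁻¹ * (z * c) * c⁻¹ := by group
          _ = c⁻¹ * (c * z) * c⁻¹ := by rw [hcz]
          _ = z * c⁻¹ := by group
      have hczc : c⁻¹ * z * c = z := by rw [hcz']; group
      calc x * z = x * (c⁻¹ * z * c) := by rw [hczc]
        _ = c⁻¹ * (c * x * c⁻¹ * z) * c := by group
        _ = c⁻¹ * (z * (c * x * c⁻¹)) * c := by rw [h1]
        _ = (c⁻¹ * z * c) * x := by group
        _ = z * x := by rw [hczc]
    exact ⟨hxP, hxC⟩
  have hcard1 : Nat.card ((MulAut.conj c⁻¹) • T₁ : Subgroup G) = Nat.card T₁ :=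
    (Nat.card_congr (Subgroup.equivSMul (MulAut.conj c⁻¹) T₁).toEquiv).symm
  have hcard2 : Nat.card T₁ = Nat.card (T : Subgroup ↥C) :=
    Nat.card_congr ((T : Subgroup ↥C).equivMapOfInjective _ C.subtype_injective).toEquiv.symm
  have hcard3 : Nat.card D = Nat.card ((P : Subgroup G) ⊓ C : Subgroup G) :=
    Nat.card_congr (Subgroup.subgroupOfEquivOfLe inf_le_right).toEquiv
  have hcard : Nat.card (T : Subgroup ↥C) ≤ Nat.card D := by
    rw [hcard3, ← hcard2, ← hcard1]
    exact Subgroup.card_le_of_le hle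
  have hDT' : D = (T : Subgroup ↥C) := Subgroup.eq_of_le_of_card_ge hDT hcard
  rw [Subgroup.relIndex]
  show ¬ p ∣ D.index
  rw [hDT']
  exact T.not_dvd_index

end

end Cfsg.Agent.Lib.Helper29
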