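import Mathlib
import Cfsg.Prelude.Def_FusionSystem
import Cfsg.Agent.Lib.Helper29.ZStarElement

set_option autoImplicit false

namespace Cfsg.Agent.Lib.Helper29

open Cfsg
open scoped Pointwise

universe u

section

variable {G : Type u} [Group G] [Finite G]

omit [Finite G] in
/-- `mk x` is central in `G ⧸ O` iff all commutators `x g x⁻¹ g⁻¹` lie in `O`. -/
theorem mk_mem_center_iff (O : Subgroup G) [hOn : O.Normal] (x : G) :
    (QuotientGroup.mk' O x) ∈ Subgroup.center (G ⧸ O) ↔ ∀ g : G, x * g * x⁻¹ * g⁻¹ ∈ O := by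
  rw [Subgroup.mem_center_iff]
  constructor
  · intro h g
    have h1 := h (QuotientGroup.mk' O g)
    rw [← map_mul, ← map_mul] at h1
    have h2 : ((g * x : G) : G ⧸ O) = ((x * g : G) : G ⧸ O) := h1
    rw [QuotientGroup.eq] at h2
    have e : x * g * x⁻¹ * g⁻¹ = (g * x) * ((g * x)⁻¹ * (x * g)) * (g * x)⁻¹ := by group
    rw [e]
    exact hOn.conj_mem _ h2 _
  · intro h a
    obtain ⟨g, rfl⟩ := QuotientGroup.mk'_surjective O a
    rw [← map_mul, ← map_mul]
    show ((g * x : G) : G ⧸ O) = ((x * g : G) : G ⧸ O)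
    rw [QuotientGroup.eq]
    have e : (g * x)⁻¹ * (x * g) = (g * x)⁻¹ * (x * g * x⁻¹ * g⁻¹) * (g * x)⁻¹⁻¹ := by group
    rw [e]
    exact hOn.conj_mem _ (h g) _

/-- **Core of S5094.** Given the Z*-theorem, the centre of the 2-fusion system of `G` on a Sylow
2-subgroup `S` is `S ∩ Z*(G)`. -/
theorem center_groupFusionSystem (hZ : ZStarStatement.{u}) (S : Sylow 2 G) :
    (Cfsg.groupFusionSystem (S : Subgroup G)).center =
      (S : Subgroup G) ⊓
        (Subgroup.center (G ⧸ Cfsg.oddCore G)).comap (QuotientGroup.mk' (Cfsg.oddCore G)) := by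
  classical
  have : Fact (Nat.Prime 2) := ⟨Nat.prime_two⟩
  set O : Subgroup G := Cfsg.oddCore G with hOdef
  have hOn : O.Normal := Cfsg.Agent.Lib.Helper97.pPrimeCore_normal 2
  have hOodd : Odd (Nat.card O) := Cfsg.Agent.Lib.Helper97.odd_card_oddCore
  set F := Cfsg.groupFusionSystem (S : Subgroup G) with hF
  set Zs : Subgroup G := (S : Subgroup G) ⊓
    (Subgroup.center (G ⧸ O)).comap (QuotientGroup.mk' O) with hZs
  -- elements of S ∩ O are trivial
  have hSO : ∀ y : G, y ∈ (S : Subgroup G) → y ∈ O → y = 1 := by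
    intro y hyS hyO
    obtain ⟨k, hk⟩ := S.isPGroup' ⟨y, hyS⟩
    have hk' : y ^ (2 ^ k) = 1 := by
      have := congrArg Subtype.val hk
      simpa using this
    exact eq_one_of_pow_two_pow_of_mem_odd hk' O hOodd hyO
  apply le_antisymm
  · -- every central subgroup lies in Zs
    apply sSup_le
    intro Q hQ
    obtain ⟨hQS, hQc⟩ := hQ
    intro x hxQ
    have hxS : x ∈ (S : Subgroup G) := hQS hxQ
    refine ⟨hxS, ?_⟩
    show x ∈ (Subgroup.center (G ⧸ O)).comap (QuotientGroup.mk' O)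
    rw [Subgroup.mem_comap, mk_mem_center_iff]
    apply zstar_element hZ S x hxS
    intro g hg
    -- conjugation by g on ⟨x⟩ is a map of the system
    set P₀ : Subgroup G := Subgroup.zpowers x with hP₀
    have hP₀S : P₀ ≤ (S : Subgroup G) := by rw [hP₀, Subgroup.zpowers_le]; exact hxS
    have hφ : Cfsg.conjHom P₀ g ∈ F.Hom P₀ := by
      refine ⟨hP₀S, ?_, g, fun y => rfl⟩
      rintro ⟨y, hy⟩
      obtain ⟨m, rfl⟩ := Subgroup.mem_zpowers_iff.mp hy
      show g * x ^ m * g⁻¹ ∈ (S : Subgroup G)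
      have : g * x ^ m * g⁻¹ = (g * x * g⁻¹) ^ m := by
        rw [conj_zpow]
      rw [this]
      exact (S : Subgroup G).zpow_mem hg m
    obtain ⟨ψ, -, h1, h2⟩ := hQc P₀ (Cfsg.conjHom P₀ g) hφ
    have e1 := h1 ⟨x, Subgroup.mem_zpowers x⟩
    have e2 := h2 ⟨x, hxQ⟩
    have e3 : (Subgroup.inclusion (le_sup_left : P₀ ≤ P₀ ⊔ Q) ⟨x, Subgroup.mem_zpowers x⟩) =
        (Subgroup.inclusion (le_sup_right : Q ≤ P₀ ⊔ Q) ⟨x, hxQ⟩) := Subtype.ext rfl
    rw [e3, e2] at e1
    exact e1.symm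
  · -- Zs is central
    apply le_sSup
    refine ⟨inf_le_left, ?_⟩
    rintro P φ ⟨hPS, hφS, g, hg⟩
    have hZsS : Zs ≤ (S : Subgroup G) := inf_le_left
    have hZsO : ∀ z ∈ Zs, ∀ g : G, g * z * g⁻¹ * z⁻¹ ∈ O := by
      intro z hz g
      have h1 := (mk_mem_center_iff O z).mp (Subgroup.mem_comap.mp hz.2) g⁻¹
      have e : g * z * g⁻¹ * z⁻¹ = g * (z * g⁻¹ * z⁻¹ * g⁻¹⁻¹) * g⁻¹ := by group
      rw [e]
      exact hOn.conj_mem _ h1 _
    set R : Subgroup G := P ⊔ Zs with hR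
    have hRS : R ≤ (S : Subgroup G) := sup_le hPS hZsS
    have hRp : IsPGroup 2 R := S.isPGroup'.to_le hRS
    set X : Subgroup G := MulAut.conj g • R with hX
    have hXp : IsPGroup 2 X := by
      rw [hX, Subgroup.pointwise_smul_def]
      exact hRp.map _
    have hXle : X ≤ (S : Subgroup G) ⊔ O := by
      have : R ≤ ((S : Subgroup G) ⊔ O).comap (MulAut.conj g).toMonoidHom := by
        apply sup_le
        · intro y hy
          rw [Subgroup.mem_comap]
          show g * y * g⁻¹ ∈ _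
          have := hφS ⟨y, hy⟩
          rw [hg] at this
          exact (le_sup_left : (S : Subgroup G) ≤ _) this
        · intro z hz
          rw [Subgroup.mem_comap]
          show g * z * g⁻¹ ∈ _
          have e : g * z * g⁻¹ = (g * z * g⁻¹ * z⁻¹) * z := by group
          rw [e]
          exact mul_mem ((le_sup_right : O ≤ _) (hZsO z hz g))
            ((le_sup_left : (S : Subgroup G) ≤ _) (hZsS hz))
      intro y hy
      rw [hX, Subgroup.mem_pointwise_smul_iff_inv_smul_mem, Cfsg.Agent.Lib.Helper29.conj_inv_smul] at hy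
      have := this hy
      rw [Subgroup.mem_comap] at this
      have e : (MulAut.conj g).toMonoidHom (g⁻¹ * y * g) = y := by
        show g * (g⁻¹ * y * g) * g⁻¹ = y
        group
      rwa [e] at this
    obtain ⟨e, heH, he⟩ := Cfsg.Agent.Lib.Helper29.exists_conj_mem_sylow_of_le S ((S : Subgroup G) ⊔ O)
      le_sup_left X hXle hXp
    -- e = o * s
    have heH' : e ∈ ((O ⊔ (S : Subgroup G) : Subgroup G) : Set G) := by
      rw [sup_comm]; exact heH
    rw [Subgroup.normal_mul] at heH'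
    obtain ⟨o, ho, s, hs, hos⟩ := heH'
    have hoX : ∀ d ∈ X, o⁻¹ * d * o ∈ (S : Subgroup G) := by
      intro d hd
      have h1 := he d hd
      rw [← hos] at h1
      have e2 : o⁻¹ * d * o = s * ((o * s)⁻¹ * d * (o * s)) * s⁻¹ := by group
      rw [e2]
      exact mul_mem (mul_mem hs h1) (inv_mem hs)
    set g₁ : G := o⁻¹ * g with hg₁
    have hg₁R : ∀ r ∈ R, g₁ * r * g₁⁻¹ ∈ (S : Subgroup G) := by
      intro r hr
      have hmem : g * r * g⁻¹ ∈ X := by
        rw [hX]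
        exact Subgroup.smul_mem_pointwise_smul r (MulAut.conj g) R hr
      have := hoX _ hmem
      have e2 : g₁ * r * g₁⁻¹ = o⁻¹ * (g * r * g⁻¹) * o := by rw [hg₁]; group
      rw [e2]; exact this
    have hg₁Z : ∀ z ∈ Zs, g₁ * z * g₁⁻¹ = z := by
      intro z hz
      have h1 : g₁ * z * g₁⁻¹ * z⁻¹ ∈ (S : Subgroup G) :=
        mul_mem (hg₁R z ((le_sup_right : Zs ≤ R) hz)) (inv_mem (hZsS hz))
      have h2 := hSO _ h1 (hZsO z hz g₁)
      calc g₁ * z * g₁⁻¹ = (g₁ * z * g₁⁻¹ * z⁻¹) * z := by group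
        _ = z := by rw [h2, one_mul]
    have hg₁P : ∀ y ∈ P, g₁ * y * g₁⁻¹ = g * y * g⁻¹ := by
      intro y hy
      set y₁ : G := g₁ * y * g₁⁻¹ with hy₁
      have hy₁S : y₁ ∈ (S : Subgroup G) := hg₁R y ((le_sup_left : P ≤ R) hy)
      have hgy : g * y * g⁻¹ = o * y₁ * o⁻¹ := by rw [hy₁, hg₁]; group
      have hgyS : g * y * g⁻¹ ∈ (S : Subgroup G) := by
        have := hφS ⟨y, hy⟩
        rwa [hg] at this
      have h1 : o * y₁ * o⁻¹ * y₁⁻¹ ∈ (S : Subgroup G) := by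
        rw [← hgy]
        exact mul_mem hgyS (inv_mem hy₁S)
      have h2 : o * y₁ * o⁻¹ * y₁⁻¹ ∈ O := by
        have e2 : o * y₁ * o⁻¹ * y₁⁻¹ = o * (y₁ * o⁻¹ * y₁⁻¹) := by group
        rw [e2]
        exact mul_mem ho (hOn.conj_mem _ (inv_mem ho) _)
      have h3 := hSO _ h1 h2
      calc y₁ = (o * y₁ * o⁻¹ * y₁⁻¹)⁻¹ * (o * y₁ * o⁻¹) := by group
        _ = g * y * g⁻¹ := by rw [h3, inv_one, one_mul, hgy]
    refine ⟨Cfsg.conjHom R g₁, ⟨hRS, fun x => hg₁R x x.2, g₁, fun x => rfl⟩, ?_, ?_⟩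
    · intro x
      show g₁ * (x : G) * g₁⁻¹ = φ x
      rw [hg x, hg₁P x x.2]
    · intro z
      show g₁ * (z : G) * g₁⁻¹ = z
      exact hg₁Z z z.2

end

end Cfsg.Agent.Lib.Helper29
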